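import Cfsg.Agent.Lib.Chev.D4Rep

/-!
# Eight by eight matrices over the field with three elements in two bit masks

Bit `8 j + i` of the first (second) mask says that the entry in row `i` and column `j` is `1` (`2`).
-/

set_option autoImplicit false

namespace Cfsg.Lib.D4Three

open Cfsg.Lib.Chev.D4Orth (I8 cd ent d4L)

abbrev K := ZMod 3

/-- A pair of masks. -/
abbrev MB := Nat × Nat

/-- The bits of `x` outside `y`. -/
def off (x y : Nat) : Nat := x ^^^ (x &&& y)

/-- The lanewise sum. -/
def addB (a b : MB) : MB :=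
  (off a.1 (b.1 ||| b.2) ||| off b.1 (a.1 ||| a.2) ||| (a.2 &&& b.2),
    off a.2 (b.1 ||| b.2) ||| off b.2 (a.1 ||| a.2) ||| (a.1 &&& b.1))

/-- Column `i` moved to column `j`, times `c ≠ 0`. -/
def colTo (a : MB) (i j : Nat) (pos : Bool) : MB :=
  let p := (a.1 >>> (8 * i) &&& 255) <<< (8 * j)
  let n := (a.2 >>> (8 * i) &&& 255) <<< (8 * j)
  if pos then (p, n) else (n, p)

/-- The identity. -/
def oneB : MB := (0x8040201008040201, 0)

/-- Minus the identity. -/
def negB : MB := (0, 0x8040201008040201)

/-- The two entries of a root matrix, as (row, column, positive). -/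
def rootB : List (Nat × Nat × Bool × Nat × Nat × Bool) :=
  [(4,1,false,5,0,true), (4,2,false,6,0,true), (3,0,true,4,7,false), (4,3,false,7,0,true),
   (2,0,false,4,6,true), (1,0,true,4,5,false), (5,2,true,6,1,false), (3,1,false,5,7,true),
   (5,3,true,7,1,false), (2,1,true,5,6,false), (3,2,true,6,7,false), (6,3,false,7,2,true),
   (2,7,true,3,6,false), (2,3,true,7,6,false), (1,2,true,6,5,false), (1,7,false,3,5,true),
   (1,3,false,7,5,true), (1,6,false,2,5,true), (0,1,true,5,4,false), (0,2,false,6,4,true),
   (0,7,true,3,4,false), (0,3,true,7,4,false), (0,6,true,2,4,false), (0,5,true,1,4,false)]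

/-- Right multiplication by a root element coded by `3 r + t`. -/
def stepB (a : MB) (l : Nat) : MB :=
  if l % 3 = 0 then a else
  match rootB.getD (l / 3) (0,0,true,0,0,true) with
  | (i, j, c, i', j', c') =>
    let s := l % 3 == 1
    addB (addB a (colTo a i j (c == s))) (colTo a i' j' (c' == s))

/-- The matrix of a word. -/
def bev (w : List Nat) : MB := w.foldl stepB oneB

/-- Equality of two pairs of masks. -/
def eqB (a b : MB) : Bool := a.1 == b.1 && a.2 == b.2

/-- All letters are codes of root elements. -/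
def okW (w : List Nat) : Bool := w.all fun l => Nat.blt l 72

/-- The value of a pair of bits. -/
def val3 (p n : Bool) : K := (if p then 1 else 0) - (if n then 1 else 0)

/-- The entry at a position. -/
def entB (a : MB) (k : Nat) : K := val3 (a.1.testBit k) (a.2.testBit k)

/-- No position carries both bits. -/
def Disj (a : MB) : Prop := ∀ k, ¬ (a.1.testBit k = true ∧ a.2.testBit k = true)

/-- The matrix of a pair of masks. -/
def decB (a : MB) : Matrix I8 I8 K := Matrix.of fun x y => entB a (8 * cd y + cd x)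

theorem testBit_off (x y k : ℕ) : (off x y).testBit k = (x.testBit k && !y.testBit k) := by
  simp [off, Nat.testBit_xor, Nat.testBit_and]; cases x.testBit k <;> cases y.testBit k <;> rfl

theorem add_disj {a b : MB} (ha : Disj a) (hb : Disj b) : Disj (addB a b) := by
  intro k h
  have h1 := ha k
  have h2 := hb k
  simp only [addB, Nat.testBit_or, Nat.testBit_and, testBit_off] at h
  revert h h1 h2
  cases a.1.testBit k <;> cases a.2.testBit k <;> cases b.1.testBit k <;> cases b.2.testBit k <;> simp

theorem entB_add {a b : MB} (ha : Disj a) (hb : Disj b) (k : ℕ) : entB (addB a b) k = entB a k + entB b k := by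
  have h1 := ha k
  have h2 := hb k
  simp only [entB, addB, Nat.testBit_or, Nat.testBit_and, testBit_off]
  revert h1 h2
  cases a.1.testBit k <;> cases a.2.testBit k <;> cases b.1.testBit k <;> cases b.2.testBit k <;>
    simp [val3] <;> decide

theorem testBit_col (x i j k : ℕ) : (((x >>> (8 * i)) &&& 255) <<< (8 * j)).testBit k =
    (decide (8 * j ≤ k ∧ k < 8 * j + 8) && x.testBit (k - 8 * j + 8 * i)) := by
  rw [Nat.testBit_shiftLeft, Nat.testBit_and, Nat.testBit_shiftRight, show (255 : ℕ) = 2 ^ 8 - 1 from rfl,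
    Nat.testBit_two_pow_sub_one, add_comm (8 * i)]
  by_cases h : 8 * j ≤ k
  · by_cases h' : k < 8 * j + 8
    · simp [h, h', show k - 8 * j < 8 by omega]
    · simp [h, h', show ¬ k - 8 * j < 8 by omega]
  · simp [h]

theorem col_disj {a : MB} (ha : Disj a) (i j : ℕ) (pos : Bool) : Disj (colTo a i j pos) := by
  intro k h
  have h1 := ha (k - 8 * j + 8 * i)
  cases pos <;> simp [colTo, testBit_col] at h <;> tauto

theorem entB_col (a : MB) (i j : ℕ) (pos : Bool) (x y : I8) : entB (colTo a i j pos) (8 * cd y + cd x) =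
    if cd y = j then (if pos then 1 else -1) * entB a (8 * i + cd x) else 0 := by
  have hx := Cfsg.Lib.Chev.D4Orth.cd_lt x
  by_cases h : cd y = j
  · subst h
    have e : 8 * cd y + cd x - 8 * cd y + 8 * i = 8 * i + cd x := by omega
    cases pos <;> simp only [colTo, entB, testBit_col, if_true, Bool.false_eq_true, if_false, e] <;> simp [val3, hx]
  · have e : ¬ (8 * j ≤ 8 * cd y + cd x ∧ 8 * cd y + cd x < 8 * j + 8) := by omega
    cases pos <;> simp only [colTo, entB, if_neg h, Bool.false_eq_true, if_true, if_false, testBit_col,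
      decide_eq_false e, Bool.false_and] <;> rfl

/-- The root matrix over the field. -/
abbrev rootM (r : ℕ) : Matrix I8 I8 K := (Int.castRingHom K).mapMatrix (Cfsg.Lib.Chev.D4Orth.toM (d4L r))

theorem rootB_spec : ∀ r : Fin 24, ∃ i j c i' j' c', rootB.getD r (0,0,true,0,0,true) = (i, j, c, i', j', c') ∧
    i < 8 ∧ i' < 8 ∧ d4L r = [(i, j, if c then 1 else -1), (i', j', if c' then 1 else -1)] := by
  have h : ∀ r : Fin 24, match rootB.getD r (0,0,true,0,0,true) with
      | (i, j, c, i', j', c') => (decide (i < 8) && decide (i' < 8) &&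
        decide (d4L r = [(i, j, if c then 1 else -1), (i', j', if c' then 1 else -1)])) = true := by
    decide +kernel
  intro r
  have hr := h r
  generalize rootB.getD r (0,0,true,0,0,true) = e at hr ⊢
  obtain ⟨i, j, c, i', j', c'⟩ := e
  simp only [Bool.and_eq_true, decide_eq_true_eq] at hr
  exact ⟨i, j, c, i', j', c', rfl, hr.1.1, hr.1.2, hr.2⟩

theorem sum_col (a : MB) (i : ℕ) (hi : i < 8) (x : I8) :
    (∑ m : I8, entB a (8 * cd m + cd x) * (if i = cd m then 1 else 0)) = entB a (8 * i + cd x) := by
  obtain ⟨m, hm⟩ := Cfsg.Lib.Chev.D4Orth.exists_cd hi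
  rw [Finset.sum_eq_single m]
  · simp [hm]
  · intro b _ hb
    simp [show i ≠ cd b from fun e => hb (Cfsg.Lib.Chev.D4Orth.cd_injective (e ▸ hm.symm ▸ rfl))]
  · simp

/-- The semantics of a step. -/
theorem decB_step {a : MB} (ha : Disj a) {l : ℕ} (hl : l < 72) :
    Disj (stepB a l) ∧ decB (stepB a l) = decB a * (1 + ((l % 3 : ℕ) : K) • rootM (l / 3)) := by
  by_cases h0 : l % 3 = 0
  · simp [stepB, h0, ha]
  obtain ⟨i, j, c, i', j', c', hB, hi, hi', hL⟩ := rootB_spec ⟨l / 3, by omega⟩
  simp only at hB hL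
  have hs : stepB a l = addB (addB a (colTo a i j (c == (l % 3 == 1)))) (colTo a i' j' (c' == (l % 3 == 1))) := by
    rw [stepB, if_neg h0, hB]
  have d1 := col_disj ha i j (c == (l % 3 == 1))
  have d2 := col_disj ha i' j' (c' == (l % 3 == 1))
  rw [hs]
  refine ⟨add_disj (add_disj ha d1) d2, Matrix.ext fun x y => ?_⟩
  show entB _ (8 * cd y + cd x) = _
  rw [entB_add (add_disj ha d1) d2, entB_add ha d1, entB_col, entB_col, mul_add, mul_one, Matrix.mul_smul,
    Matrix.add_apply, Matrix.smul_apply, Matrix.mul_apply, add_assoc]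
  congr 1
  have hm : ∀ m : I8, decB a x m * rootM (l / 3) m y =
      entB a (8 * cd m + cd x) * (if i = cd m then 1 else 0) * (if cd y = j then (if c then 1 else -1) else 0) +
      entB a (8 * cd m + cd x) * (if i' = cd m then 1 else 0) * (if cd y = j' then (if c' then 1 else -1) else 0) := by
    intro m
    show entB a _ * ((ent (d4L (l / 3)) (cd m) (cd y) : ℤ) : K) = _
    rw [hL]
    simp only [ent]
    push_cast
    rw [mul_add]
    congr 1
    · cases c <;> by_cases h1 : i = cd m <;> by_cases h2 : cd y = j <;> simp [h1, h2, eq_comm] <;> exact fun e => absurd e.symm h2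
    · cases c' <;> by_cases h1 : i' = cd m <;> by_cases h2 : cd y = j' <;> simp [h1, h2, eq_comm] <;> exact fun e => absurd e.symm h2
  rw [Finset.sum_congr rfl fun m _ => hm m, Finset.sum_add_distrib, ← Finset.sum_mul, ← Finset.sum_mul,
    sum_col a i hi, sum_col a i' hi', smul_add]
  have ht : l % 3 = 1 ∨ l % 3 = 2 := by omega
  have h2 : ((2 : ℕ) : K) = -1 := by decide
  congr 1
  · by_cases hy : cd y = j <;> rcases ht with t | t <;> cases c <;>
      simp [hy, t, smul_eq_mul, h2, show (2 : K) = -1 by decide]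
  · by_cases hy : cd y = j' <;> rcases ht with t | t <;> cases c' <;>
      simp [hy, t, smul_eq_mul, h2, show (2 : K) = -1 by decide]

theorem decB_one : Disj oneB ∧ decB oneB = 1 := by
  refine ⟨fun k h => ?_, Matrix.ext fun x y => ?_⟩
  · simp [oneB] at h
  · have key : ∀ a b : Fin 8, entB oneB (8 * (b : ℕ) + a) = if a = b then 1 else 0 := by decide +kernel
    refine (key ⟨cd x, Cfsg.Lib.Chev.D4Orth.cd_lt x⟩ ⟨cd y, Cfsg.Lib.Chev.D4Orth.cd_lt y⟩).trans ?_
    simp [Matrix.one_apply, Cfsg.Lib.Chev.D4Orth.cd_injective.eq_iff]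

end Cfsg.Lib.D4Three
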