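import Cfsg.Agent.Lib.D4Three.Bit
import Cfsg.Agent.Lib.D4Three.Data

/-!
# The checks for the tree of unipotent classes
-/

set_option autoImplicit false

namespace Cfsg.Lib.D4Three

/-- The positive roots by height. -/
def posOrd : List Nat := [12, 13, 14, 18, 15, 16, 19, 17, 20, 21, 22, 23]

/-- The letters of the given roots. -/
def inRoots (R : List Nat) (w : List Nat) : Bool := w.all fun l => R.contains (l / 3)

/-- One row: the three extensions of a representative are conjugated to representatives of the next level. -/
def chkRow (k : Nat) : List Nat × List (Nat × List Nat × List Nat) → Bool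
  | (r, e) => e.length == 3 && (List.range 3).all fun t =>
      match e.getD t (0, [], []) with
      | (i, c, v) =>
        let r' := (levR (k + 1)).getD i []
        Nat.blt i (levR (k + 1)).length && inRoots posOrd c && inRoots (posOrd.drop (k + 1)) v &&
          (okW (c ++ (r ++ [3 * posOrd.getD k 0 + t])) && okW ((r' ++ v) ++ c) &&
            eqB (bev (c ++ (r ++ [3 * posOrd.getD k 0 + t]))) (bev ((r' ++ v) ++ c)))

theorem step_of_rows {k : ℕ} {rows : List (List Nat × List (Nat × List Nat × List Nat))}
    (h : rows.all (chkRow k) = true) (hr : rows.map Prod.fst = levR k) :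
    ∀ r ∈ levR k, ∃ e, chkRow k (r, e) = true := by
  intro r hmem
  rw [← hr] at hmem
  obtain ⟨⟨r, e⟩, he, rfl⟩ := List.mem_map.1 hmem
  exact ⟨e, List.all_eq_true.1 h _ he⟩

end Cfsg.Lib.D4Three
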