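import Cfsg.Agent.Lib.D4Three.Bit
import Cfsg.Agent.Lib.D4Three.Data

/-!
# Fixed vectors of the representatives, counted by their value of the quadratic form
-/

set_option autoImplicit false

namespace Cfsg.Lib.D4Three

/-- A coordinate of a vector given by a number. -/
def vdig (n b : Nat) : Nat := n / 3 ^ b % 3

/-- The value of the quadratic form. -/
def qvB (n : Nat) : Nat :=
  (vdig n 0 * vdig n 4 + vdig n 1 * vdig n 5 + vdig n 2 * vdig n 6 + vdig n 3 * vdig n 7) % 3

/-- An entry as a residue. -/
def eNat (a : MB) (k : Nat) : Nat := (a.1 >>> k &&& 1) + 2 * (a.2 >>> k &&& 1)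

/-- One row is fixed. -/
def rowFix (a : MB) (n i : Nat) : Bool :=
  (eNat a i * vdig n 0 + eNat a (8 + i) * vdig n 1 + eNat a (16 + i) * vdig n 2 + eNat a (24 + i) * vdig n 3 +
    eNat a (32 + i) * vdig n 4 + eNat a (40 + i) * vdig n 5 + eNat a (48 + i) * vdig n 6 +
    eNat a (56 + i) * vdig n 7) % 3 == vdig n i

/-- A fixed vector with the given value. -/
def fixB (a : MB) (c n : Nat) : Bool := qvB n == c && (List.range 8).all (rowFix a n)

/-- The number of fixed vectors with the given value. -/
def cntB (a : MB) (c : Nat) : Nat :=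
  ((List.range 27).map fun h => (List.range 243).countP fun l => fixB a c (243 * h + l)).sum

/-- The counts of the thirteen representatives. -/
def cntTab : List (Nat × Nat) := [(297, 216), (243, 216), (243, 270), (45, 18), (81, 0), (81, 0), (81, 0), (81, 0),
  (27, 0), (27, 54), (27, 54), (27, 0), (9, 36)]

/-- The check of the counts of one representative. -/
def chkCnt (i : Nat) : Bool :=
  let a := bev (rep13L.getD i [])
  cntB a 0 == (cntTab.getD i (0, 0)).1 && cntB a 1 == (cntTab.getD i (0, 0)).2

end Cfsg.Lib.D4Three
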