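import Cfsg.Agent.Lib.D4Three.Count

/-! The counts, part 2. -/

set_option autoImplicit false
set_option maxRecDepth 100000

namespace Cfsg.Lib.D4Three

theorem chkCnt_part2 : ((List.range 13).drop 10 |>.take 5).all chkCnt = true := by decide +kernel

end Cfsg.Lib.D4Three
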