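import Cfsg.Agent.Lib.D4Three.Check

/-! A part of the tree at level 1. -/

set_option autoImplicit false
set_option maxRecDepth 100000

namespace Cfsg.Lib.D4Three

def rows1 : List (List Nat × List (Nat × List Nat × List Nat)) := [
  ([], [(0,[],[]),(3,[],[]),(6,[],[])]),
  ([37], [(1,[],[]),(4,[],[]),(7,[],[])]),
  ([38], [(2,[],[]),(5,[],[]),(8,[],[])])
]

theorem rows1_ok : rows1.all (chkRow 1) = true := by decide +kernel

end Cfsg.Lib.D4Three
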