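import Cfsg.Agent.Lib.D4Three.Check

/-! A part of the tree at level 7. -/

set_option autoImplicit false
set_option maxRecDepth 100000

namespace Cfsg.Lib.D4Three

def rows10 : List (List Nat × List (Nat × List Nat × List Nat)) := [
  ([37,41,55,50], [(212,[],[]),(212,[38,38],[]),(212,[38],[])]),
  ([38,41,55,50], [(213,[],[]),(213,[38,38],[]),(213,[38],[])]),
  ([56,50], [(214,[],[]),(214,[38,38],[]),(214,[38],[])]),
  ([37,56,50], [(215,[],[]),(215,[38,38],[]),(215,[38],[])]),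
  ([38,56,50], [(216,[],[]),(216,[38,38],[]),(216,[38],[])]),
  ([40,56,50], [(217,[],[]),(217,[38,38],[]),(217,[38],[])]),
  ([37,40,56,50], [(218,[],[]),(218,[38,38],[]),(218,[38],[])]),
  ([38,40,56,50], [(219,[],[]),(219,[38,38],[]),(219,[38],[])]),
  ([41,56,50], [(220,[],[]),(220,[38,38],[]),(220,[38],[])]),
  ([37,41,56,50], [(221,[],[]),(221,[38,38],[]),(221,[38],[])]),
  ([38,41,56,50], [(222,[],[]),(222,[38,38],[]),(222,[38],[])]),
  ([46,50], [(223,[],[]),(223,[41],[]),(223,[38],[])]),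
  ([55,46,50], [(224,[],[]),(224,[41],[]),(224,[38],[])]),
  ([37,55,46,50], [(225,[],[]),(225,[41],[]),(225,[38],[])]),
  ([38,55,46,50], [(226,[],[]),(226,[41],[]),(226,[38],[])]),
  ([40,55,46,50], [(227,[],[]),(227,[41],[]),(227,[38],[])]),
  ([37,40,55,46,50], [(228,[],[]),(228,[41],[]),(228,[38],[])]),
  ([38,40,55,46,50], [(229,[],[]),(229,[41],[]),(229,[38],[])]),
  ([41,55,46,50], [(230,[],[]),(230,[41],[]),(230,[38],[])]),
  ([37,41,55,46,50], [(231,[],[]),(231,[41],[]),(231,[38],[])]),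
  ([38,41,55,46,50], [(232,[],[]),(232,[41],[]),(232,[38],[])]),
  ([56,46,50], [(233,[],[]),(233,[41],[]),(233,[38],[])]),
  ([37,56,46,50], [(234,[],[]),(234,[41],[]),(234,[38],[])]),
  ([38,56,46,50], [(235,[],[]),(235,[41],[]),(235,[38],[])]),
  ([40,56,46,50], [(236,[],[]),(236,[41],[]),(236,[38],[])]),
  ([37,40,56,46,50], [(237,[],[]),(237,[41],[]),(237,[38],[])]),
  ([38,40,56,46,50], [(238,[],[]),(238,[41],[]),(238,[38],[])]),
  ([41,56,46,50], [(239,[],[]),(239,[41],[]),(239,[38],[])]),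
  ([37,41,56,46,50], [(240,[],[]),(240,[41],[]),(240,[38],[])]),
  ([38,41,56,46,50], [(241,[],[]),(241,[41],[]),(241,[38],[])]),
  ([47,50], [(242,[],[]),(242,[41,41],[]),(242,[41],[])]),
  ([55,47,50], [(243,[],[]),(243,[41,41],[]),(243,[41],[])]),
  ([37,55,47,50], [(244,[],[]),(244,[41,41],[]),(244,[41],[])]),
  ([38,55,47,50], [(245,[],[]),(245,[41,41],[]),(245,[41],[])]),
  ([40,55,47,50], [(246,[],[]),(246,[41,41],[]),(246,[41],[])]),
  ([37,40,55,47,50], [(247,[],[]),(247,[41,41],[]),(247,[41],[])]),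
  ([38,40,55,47,50], [(248,[],[]),(248,[41,41],[]),(248,[41],[])]),
  ([41,55,47,50], [(249,[],[]),(249,[41,41],[]),(249,[41],[])]),
  ([37,41,55,47,50], [(250,[],[]),(250,[41,41],[]),(250,[41],[])]),
  ([38,41,55,47,50], [(251,[],[]),(251,[41,41],[]),(251,[41],[])]),
  ([56,47,50], [(252,[],[]),(252,[41,41],[]),(252,[41],[])]),
  ([37,56,47,50], [(253,[],[]),(253,[41,41],[]),(253,[41],[])]),
  ([38,56,47,50], [(254,[],[]),(254,[41,41],[]),(254,[41],[])]),
  ([40,56,47,50], [(255,[],[]),(255,[41,41],[]),(255,[41],[])]),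
  ([37,40,56,47,50], [(256,[],[]),(256,[41,41],[]),(256,[41],[])]),
  ([38,40,56,47,50], [(257,[],[]),(257,[41,41],[]),(257,[41],[])]),
  ([41,56,47,50], [(258,[],[]),(258,[41,41],[]),(258,[41],[])]),
  ([37,41,56,47,50], [(259,[],[]),(259,[41,41],[]),(259,[41],[])]),
  ([38,41,56,47,50], [(260,[],[]),(260,[41,41],[]),(260,[41],[])]),
  ([58], [(261,[],[]),(330,[],[]),(335,[],[])]),
  ([37,58], [(262,[],[]),(262,[44,44,41,44],[65,71]),(262,[44,41,44,44],[65,70])]),
  ([38,58], [(263,[],[]),(263,[44,41,44,44],[65,71]),(263,[44,44,41,44],[65,70])]),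
  ([40,58], [(264,[],[]),(264,[44,44,38,44],[62,71]),(264,[44,38,44,44],[62,70])]),
  ([37,40,58], [(265,[],[]),(265,[44,44,41,44],[65,71]),(265,[44,41,44,44],[65,70])]),
  ([38,40,58], [(266,[],[]),(266,[44,44,38,44],[62,71]),(266,[44,44,41,44],[65,70])]),
  ([41,58], [(267,[],[]),(267,[44,38,44,44],[62,71]),(267,[44,44,38,44],[62,70])]),
  ([37,41,58], [(268,[],[]),(268,[44,44,41,44],[65,71]),(268,[44,44,38,44],[62,70])]),
  ([38,41,58], [(269,[],[]),(269,[44,41,44,44],[65,71]),(269,[44,44,41,44],[65,70])]),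
  ([46,58], [(270,[],[]),(270,[41],[65,71]),(270,[41,41],[64,70])]),
  ([40,46,58], [(271,[],[]),(271,[41],[65,71]),(271,[41,41],[64,70])]),
  ([37,40,46,58], [(272,[],[]),(272,[41],[65,71]),(272,[41,41],[64,70])]),
  ([38,40,46,58], [(273,[],[]),(273,[41],[65,71]),(273,[41,41],[64,70])]),
  ([41,46,58], [(274,[],[]),(274,[41],[65,71]),(274,[41,41],[64,70])]),
  ([37,41,46,58], [(275,[],[]),(275,[41],[65,71]),(275,[41,41],[64,70])]),
  ([38,41,46,58], [(276,[],[]),(276,[41],[65,71]),(276,[41,41],[64,70])]),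
  ([47,58], [(277,[],[]),(277,[41,41],[64,71]),(277,[41],[65,70])]),
  ([40,47,58], [(278,[],[]),(278,[41,41],[64,71]),(278,[41],[65,70])]),
  ([37,40,47,58], [(279,[],[]),(279,[41,41],[64,71]),(279,[41],[65,70])]),
  ([38,40,47,58], [(280,[],[]),(280,[41,41],[64,71]),(280,[41],[65,70])]),
  ([41,47,58], [(281,[],[]),(281,[41,41],[64,71]),(281,[41],[65,70])]),
  ([37,41,47,58], [(282,[],[]),(282,[41,41],[64,71]),(282,[41],[65,70])]),
  ([38,41,47,58], [(283,[],[]),(283,[41,41],[64,71]),(283,[41],[65,70])]),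
  ([49,58], [(284,[],[]),(284,[38],[62,71]),(284,[38,38],[61,70])]),
  ([37,49,58], [(285,[],[]),(285,[38],[62,71]),(285,[38,38],[61,70])]),
  ([38,49,58], [(286,[],[]),(286,[38],[62,71]),(286,[38,38],[61,70])]),
  ([46,49,58], [(287,[],[]),(287,[41],[65,71]),(287,[41,41],[64,70])]),
  ([47,49,58], [(288,[],[]),(288,[38],[62,71]),(288,[41],[65,70])]),
  ([50,58], [(289,[],[]),(289,[38,38],[61,71]),(289,[38],[62,70])]),
  ([37,50,58], [(290,[],[]),(290,[38,38],[61,71]),(290,[38],[62,70])]),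
  ([38,50,58], [(291,[],[]),(291,[38,38],[61,71]),(291,[38],[62,70])]),
  ([46,50,58], [(292,[],[]),(292,[41],[65,71]),(292,[38],[62,70])]),
  ([47,50,58], [(293,[],[]),(293,[41,41],[64,71]),(293,[41],[65,70])]),
  ([59], [(294,[],[]),(331,[],[]),(336,[],[])]),
  ([37,59], [(295,[],[]),(295,[44,44,41,44],[64,70]),(295,[44,41,44,44],[64,71])]),
  ([38,59], [(296,[],[]),(296,[44,41,44,44],[64,70]),(296,[44,44,41,44],[64,71])]),
  ([40,59], [(297,[],[]),(297,[44,44,38,44],[61,70]),(297,[44,38,44,44],[61,71])]),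
  ([37,40,59], [(298,[],[]),(298,[44,44,41,44],[64,70]),(298,[44,41,44,44],[64,71])]),
  ([38,40,59], [(299,[],[]),(299,[44,44,38,44],[61,70]),(299,[44,44,41,44],[64,71])]),
  ([41,59], [(300,[],[]),(300,[44,38,44,44],[61,70]),(300,[44,44,38,44],[61,71])]),
  ([37,41,59], [(301,[],[]),(301,[44,44,41,44],[64,70]),(301,[44,44,38,44],[61,71])]),
  ([38,41,59], [(302,[],[]),(302,[44,41,44,44],[64,70]),(302,[44,44,41,44],[64,71])]),
  ([46,59], [(303,[],[]),(303,[41],[64,70]),(303,[41,41],[65,71])]),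
  ([40,46,59], [(304,[],[]),(304,[41],[64,70]),(304,[41,41],[65,71])]),
  ([37,40,46,59], [(305,[],[]),(305,[41],[64,70]),(305,[41,41],[65,71])]),
  ([38,40,46,59], [(306,[],[]),(306,[41],[64,70]),(306,[41,41],[65,71])]),
  ([41,46,59], [(307,[],[]),(307,[41],[64,70]),(307,[41,41],[65,71])]),
  ([37,41,46,59], [(308,[],[]),(308,[41],[64,70]),(308,[41,41],[65,71])]),
  ([38,41,46,59], [(309,[],[]),(309,[41],[64,70]),(309,[41,41],[65,71])]),
  ([47,59], [(310,[],[]),(310,[41,41],[65,70]),(310,[41],[64,71])]),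
  ([40,47,59], [(311,[],[]),(311,[41,41],[65,70]),(311,[41],[64,71])])
]

theorem rows10_ok : rows10.all (chkRow 7) = true := by decide +kernel

end Cfsg.Lib.D4Three
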