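import Cfsg.Agent.Lib.D4Three.Check

/-! A part of the tree at level 7. -/

set_option autoImplicit false
set_option maxRecDepth 100000

namespace Cfsg.Lib.D4Three

def rows11 : List (List Nat × List (Nat × List Nat × List Nat)) := [
  ([37,40,47,59], [(312,[],[]),(312,[41,41],[65,70]),(312,[41],[64,71])]),
  ([38,40,47,59], [(313,[],[]),(313,[41,41],[65,70]),(313,[41],[64,71])]),
  ([41,47,59], [(314,[],[]),(314,[41,41],[65,70]),(314,[41],[64,71])]),
  ([37,41,47,59], [(315,[],[]),(315,[41,41],[65,70]),(315,[41],[64,71])]),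
  ([38,41,47,59], [(316,[],[]),(316,[41,41],[65,70]),(316,[41],[64,71])]),
  ([49,59], [(317,[],[]),(317,[38],[61,70]),(317,[38,38],[62,71])]),
  ([37,49,59], [(318,[],[]),(318,[38],[61,70]),(318,[38,38],[62,71])]),
  ([38,49,59], [(319,[],[]),(319,[38],[61,70]),(319,[38,38],[62,71])]),
  ([46,49,59], [(320,[],[]),(320,[41],[64,70]),(320,[41,41],[65,71])]),
  ([47,49,59], [(321,[],[]),(321,[38],[61,70]),(321,[41],[64,71])]),
  ([50,59], [(322,[],[]),(322,[38,38],[62,70]),(322,[38],[61,71])]),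
  ([37,50,59], [(323,[],[]),(323,[38,38],[62,70]),(323,[38],[61,71])]),
  ([38,50,59], [(324,[],[]),(324,[38,38],[62,70]),(324,[38],[61,71])]),
  ([46,50,59], [(325,[],[]),(325,[41],[64,70]),(325,[38],[61,71])]),
  ([47,50,59], [(326,[],[]),(326,[41,41],[65,70]),(326,[41],[64,71])])
]

theorem rows11_ok : rows11.all (chkRow 7) = true := by decide +kernel

end Cfsg.Lib.D4Three
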