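import Cfsg.Agent.Lib.D4Three.Check

/-! A part of the tree at level 8. -/

set_option autoImplicit false
set_option maxRecDepth 100000

namespace Cfsg.Lib.D4Three

def rows12 : List (List Nat × List (Nat × List Nat × List Nat)) := [
  ([], [(0,[],[]),(389,[],[]),(396,[],[])]),
  ([37], [(1,[],[]),(1,[44,56,44,44],[]),(1,[44,44,56,44],[])]),
  ([38], [(2,[],[]),(2,[44,44,56,44],[]),(2,[44,56,44,44],[])]),
  ([40], [(3,[],[]),(390,[],[]),(397,[],[])]),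
  ([37,40], [(4,[],[]),(4,[44,56,44,44],[65,67]),(4,[44,44,56,44],[64,68])]),
  ([38,40], [(5,[],[]),(5,[44,44,56,44],[64,67]),(5,[44,56,44,44],[65,68])]),
  ([41], [(6,[],[]),(391,[],[]),(398,[],[])]),
  ([37,41], [(7,[],[]),(7,[44,56,44,44],[64,68]),(7,[44,44,56,44],[65,67])]),
  ([38,41], [(8,[],[]),(8,[44,44,56,44],[65,68]),(8,[44,56,44,44],[64,67])]),
  ([43], [(9,[],[]),(306,[56,38],[]),(293,[56,38,38],[])]),
  ([37,43], [(10,[],[]),(10,[56,56,44,56,38],[]),(10,[56,44,56,56,38],[])]),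
  ([38,43], [(11,[],[]),(11,[56,56,44,44,56,44],[]),(11,[56,56,44,56,44,44],[])]),
  ([40,43], [(12,[],[]),(307,[56,38],[]),(294,[56,38,38],[])]),
  ([37,40,43], [(13,[],[]),(13,[56,56,44,56,44,44],[65,67,71]),(13,[56,56,44,44,56,44],[64,68,70])]),
  ([38,40,43], [(14,[],[]),(14,[56,56,44,44,56,44],[64,67,71]),(14,[56,56,44,56,44,44],[65,68,70])]),
  ([41,43], [(15,[],[]),(308,[56,38],[]),(295,[56,38,38],[])]),
  ([37,41,43], [(16,[],[]),(16,[56,56,44,56,44,44],[64,68,70]),(16,[56,56,44,44,56,44],[65,67,71])]),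
  ([38,41,43], [(17,[],[]),(17,[56,56,44,44,56,44],[65,68,70]),(17,[56,56,44,56,44,44],[64,67,71])]),
  ([44], [(18,[],[]),(296,[56,56,38],[]),(309,[56,56,38,38],[])]),
  ([37,44], [(19,[],[]),(19,[56,56,44,56,44,44],[]),(19,[56,56,44,44,56,44],[])]),
  ([38,44], [(20,[],[]),(20,[56,44,56,56,38],[]),(20,[56,56,44,56,38],[])]),
  ([40,44], [(21,[],[]),(297,[56,56,38],[]),(310,[56,56,38,38],[])]),
  ([37,40,44], [(22,[],[]),(22,[56,56,44,56,44,44],[65,67,70]),(22,[56,56,44,44,56,44],[64,68,71])]),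
  ([38,40,44], [(23,[],[]),(23,[56,56,44,44,56,44],[64,67,70]),(23,[56,56,44,56,44,44],[65,68,71])]),
  ([41,44], [(24,[],[]),(298,[56,56,38],[]),(311,[56,56,38,38],[])]),
  ([37,41,44], [(25,[],[]),(25,[56,56,44,56,44,44],[64,68,71]),(25,[56,56,44,44,56,44],[65,67,70])]),
  ([38,41,44], [(26,[],[]),(26,[56,56,44,44,56,44],[65,68,71]),(26,[56,56,44,56,44,44],[64,67,70])]),
  ([55], [(27,[],[]),(27,[44,38,44,44],[]),(27,[44,44,38,44],[])]),
  ([37,55], [(28,[],[]),(28,[44,56,44,44],[]),(28,[44,44,56,44],[])]),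
  ([38,55], [(29,[],[]),(29,[44,44,56,44],[]),(29,[44,56,44,44],[])]),
  ([40,55], [(30,[],[]),(365,[44,38,44,44],[67]),(378,[44,44,38,44],[68])]),
  ([37,40,55], [(31,[],[]),(31,[44,56,44,44],[65,67]),(31,[44,44,56,44],[64,68])]),
  ([38,40,55], [(32,[],[]),(32,[44,44,56,44],[64,67]),(32,[44,56,44,44],[65,68])]),
  ([41,55], [(33,[],[]),(379,[44,38,44,44],[68]),(366,[44,44,38,44],[67])]),
  ([37,41,55], [(34,[],[]),(34,[44,56,44,44],[64,68]),(34,[44,44,56,44],[65,67])]),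
  ([38,41,55], [(35,[],[]),(35,[44,44,56,44],[65,68]),(35,[44,56,44,44],[64,67])]),
  ([43,55], [(36,[],[]),(36,[56,38,38,44,38],[]),(36,[56,38,44,38,38],[])]),
  ([37,43,55], [(37,[],[]),(37,[44,56,38],[]),(37,[56,38,44],[])]),
  ([38,43,55], [(38,[],[]),(38,[56,38,38,44],[]),(38,[56,38,44,38],[])]),
  ([40,43,55], [(39,[],[]),(130,[38],[]),(97,[38,38],[])]),
  ([37,40,43,55], [(40,[],[]),(40,[44,56,41,38],[65]),(40,[56,56,44,44,56,44],[64,68,70])]),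
  ([38,40,43,55], [(41,[],[]),(41,[41,38,44,56,38],[]),(41,[56,41,38,44,38],[64])]),
  ([41,43,55], [(42,[],[]),(131,[38],[]),(98,[38,38],[])]),
  ([37,41,43,55], [(43,[],[]),(43,[44,56,41,41,38],[64]),(43,[56,41,38,44,41],[64,67,71])]),
  ([38,41,43,55], [(44,[],[]),(44,[56,56,44,44,56,44],[65,68,70]),(44,[56,56,44,56,44,44],[64,67,71])]),
  ([44,55], [(45,[],[]),(45,[56,56,38,38,44,38],[]),(45,[56,56,38,44,38,38],[])]),
  ([37,44,55], [(46,[],[]),(46,[56,38,44,44],[]),(46,[56,44,38,44],[])]),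
  ([38,44,55], [(47,[],[]),(47,[56,38,44,56],[]),(47,[56,56,38,44],[])]),
  ([40,44,55], [(48,[],[]),(132,[38,38],[]),(99,[38],[])]),
  ([37,40,44,55], [(49,[],[]),(49,[56,38,44,41,44],[64,67,70]),(49,[56,41,44,38,44],[65])]),
  ([38,40,44,55], [(50,[],[]),(50,[56,56,44,44,56,44],[64,67,70]),(50,[56,56,44,56,44,44],[65,68,71])]),
  ([41,44,55], [(51,[],[]),(133,[38,38],[]),(100,[38],[])]),
  ([37,41,44,55], [(52,[],[]),(52,[56,56,44,56,44,44],[64,68,71]),(52,[56,56,44,44,56,44],[65,67,70])]),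
  ([38,41,44,55], [(53,[],[]),(53,[56,41,38,44,56],[65]),(53,[56,56,41,38,44],[64])]),
  ([56], [(54,[],[]),(54,[44,44,38,44],[]),(54,[44,38,44,44],[])]),
  ([37,56], [(55,[],[]),(55,[44,56,44,44],[]),(55,[44,44,56,44],[])]),
  ([38,56], [(56,[],[]),(56,[44,44,56,44],[]),(56,[44,56,44,44],[])]),
  ([40,56], [(57,[],[]),(381,[44,44,38,44],[67]),(368,[44,38,44,44],[68])]),
  ([37,40,56], [(58,[],[]),(58,[44,56,44,44],[65,67]),(58,[44,44,56,44],[64,68])]),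
  ([38,40,56], [(59,[],[]),(59,[44,44,56,44],[64,67]),(59,[44,56,44,44],[65,68])]),
  ([41,56], [(60,[],[]),(369,[44,44,38,44],[68]),(382,[44,38,44,44],[67])]),
  ([37,41,56], [(61,[],[]),(61,[44,56,44,44],[64,68]),(61,[44,44,56,44],[65,67])]),
  ([38,41,56], [(62,[],[]),(62,[44,44,56,44],[65,68]),(62,[44,56,44,44],[64,67])]),
  ([43,56], [(63,[],[]),(63,[56,56,38,44,38,38],[]),(63,[56,56,38,38,44,38],[])]),
  ([37,43,56], [(64,[],[]),(64,[56,56,38,44],[]),(64,[56,38,44,56],[])]),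
  ([38,43,56], [(65,[],[]),(65,[56,44,38,44],[]),(65,[56,38,44,44],[])]),
  ([40,43,56], [(66,[],[]),(110,[38,38],[]),(143,[38],[])]),
  ([37,40,43,56], [(67,[],[]),(67,[56,44,56,41,38],[65]),(67,[44,56,56,41,38],[64])]),
  ([38,40,43,56], [(68,[],[]),(68,[56,56,44,44,56,44],[64,67,71]),(68,[56,56,44,56,44,44],[65,68,70])]),
  ([41,43,56], [(69,[],[]),(111,[38,38],[]),(144,[38],[])]),
  ([37,41,43,56], [(70,[],[]),(70,[56,56,44,56,44,44],[64,68,70]),(70,[56,56,44,44,56,44],[65,67,71])]),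
  ([38,41,43,56], [(71,[],[]),(71,[56,44,38,44,41],[68,71]),(71,[56,41,38,44,44],[64])]),
  ([44,56], [(72,[],[]),(72,[56,38,44,38,38],[]),(72,[56,38,38,44,38],[])]),
  ([37,44,56], [(73,[],[]),(73,[56,38,44,38],[]),(73,[56,38,38,44],[])]),
  ([38,44,56], [(74,[],[]),(74,[56,38,44],[]),(74,[44,56,38],[])]),
  ([40,44,56], [(75,[],[]),(112,[38],[]),(145,[38,38],[])]),
  ([37,40,44,56], [(76,[],[]),(76,[56,56,44,56,44,44],[65,67,70]),(76,[56,56,44,44,56,44],[64,68,71])]),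
  ([38,40,44,56], [(77,[],[]),(77,[56,41,41,38,44],[64]),(77,[41,44,56,41,38],[64])]),
  ([41,44,56], [(78,[],[]),(113,[38],[]),(146,[38,38],[])]),
  ([37,41,44,56], [(79,[],[]),(79,[56,38,44,41,38],[68,70]),(79,[56,41,38,38,44],[65])]),
  ([38,41,44,56], [(80,[],[]),(80,[56,41,38,44],[65]),(80,[56,56,44,56,44,44],[64,67,70])]),
  ([46], [(81,[],[]),(81,[56,56],[]),(81,[56],[])]),
  ([40,46], [(82,[],[]),(82,[56,56],[]),(82,[56],[])]),
  ([37,40,46], [(83,[],[]),(83,[56,56],[]),(83,[56],[])]),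
  ([38,40,46], [(84,[],[]),(84,[56,56],[]),(84,[56],[])]),
  ([41,46], [(85,[],[]),(85,[56,56],[]),(85,[56],[])]),
  ([37,41,46], [(86,[],[]),(86,[56,56],[]),(86,[56],[])]),
  ([38,41,46], [(87,[],[]),(87,[56,56],[]),(87,[56],[])]),
  ([55,46], [(88,[],[]),(88,[56,56],[]),(88,[56],[])]),
  ([37,55,46], [(89,[],[]),(89,[56,56],[]),(89,[56],[])]),
  ([38,55,46], [(90,[],[]),(90,[56,56],[]),(90,[56],[])]),
  ([40,55,46], [(91,[],[]),(91,[56,56],[]),(91,[56],[])]),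
  ([37,40,55,46], [(92,[],[]),(92,[56,56],[]),(92,[56],[])]),
  ([38,40,55,46], [(93,[],[]),(93,[56,56],[]),(93,[56],[])]),
  ([41,55,46], [(94,[],[]),(94,[56,56],[]),(94,[56],[])]),
  ([37,41,55,46], [(95,[],[]),(95,[56,56],[]),(95,[56],[])]),
  ([38,41,55,46], [(96,[],[]),(96,[56,56],[]),(96,[56],[])]),
  ([56,46], [(101,[],[]),(101,[56,56],[]),(101,[56],[])]),
  ([37,56,46], [(102,[],[]),(102,[56,56],[]),(102,[56],[])]),
  ([38,56,46], [(103,[],[]),(103,[56,56],[]),(103,[56],[])])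
]

theorem rows12_ok : rows12.all (chkRow 8) = true := by decide +kernel

end Cfsg.Lib.D4Three
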