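import Cfsg.Agent.Lib.D4Three.Check

/-! A part of the tree at level 8. -/

set_option autoImplicit false
set_option maxRecDepth 100000

namespace Cfsg.Lib.D4Three

def rows14 : List (List Nat × List (Nat × List Nat × List Nat)) := [
  ([43,56,47,49], [(216,[],[]),(216,[56,44,44],[64,71]),(216,[56,56,44],[65,70])]),
  ([44,56,47,49], [(217,[],[]),(217,[56,44],[64,71]),(217,[56,56,44,44],[65,70])]),
  ([50], [(218,[],[]),(393,[],[]),(400,[],[])]),
  ([37,50], [(219,[],[]),(219,[44,56,44,44],[65,70]),(219,[44,44,56,44],[65,71])]),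
  ([38,50], [(220,[],[]),(220,[44,44,56,44],[65,70]),(220,[44,56,44,44],[65,71])]),
  ([55,50], [(221,[],[]),(221,[44,44,38,38,44,38],[70]),(221,[44,44,38,44,38,38],[71])]),
  ([37,55,50], [(222,[],[]),(222,[44,56,44,44],[65,70]),(222,[44,44,56,44],[65,71])]),
  ([38,55,50], [(223,[],[]),(223,[44,44,56,44],[65,70]),(223,[44,56,44,44],[65,71])]),
  ([40,55,50], [(224,[],[]),(224,[44,44,38,38,44],[67,70]),(224,[44,44,38,44],[68,71])]),
  ([37,40,55,50], [(225,[],[]),(225,[44,56,44,44],[64,67,70]),(225,[44,44,56,44],[68,71])]),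
  ([38,40,55,50], [(226,[],[]),(226,[44,44,56,44],[67,70]),(226,[44,56,44,44],[64,68,71])]),
  ([41,55,50], [(227,[],[]),(227,[44,38,44,44],[68,70]),(227,[44,44,38,44,38],[67,71])]),
  ([37,41,55,50], [(228,[],[]),(228,[44,56,44,44],[68,70]),(228,[44,44,56,44],[64,67,71])]),
  ([38,41,55,50], [(229,[],[]),(229,[44,44,56,44],[64,68,70]),(229,[44,56,44,44],[67,71])]),
  ([56,50], [(230,[],[]),(230,[44,44,38,44,38,38],[70]),(230,[44,44,38,38,44,38],[71])]),
  ([37,56,50], [(231,[],[]),(231,[44,56,44,44],[65,70]),(231,[44,44,56,44],[65,71])]),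
  ([38,56,50], [(232,[],[]),(232,[44,44,56,44],[65,70]),(232,[44,56,44,44],[65,71])]),
  ([40,56,50], [(233,[],[]),(233,[44,44,38,44],[67,70]),(233,[44,44,38,38,44],[68,71])]),
  ([37,40,56,50], [(234,[],[]),(234,[44,56,44,44],[64,67,70]),(234,[44,44,56,44],[68,71])]),
  ([38,40,56,50], [(235,[],[]),(235,[44,44,56,44],[67,70]),(235,[44,56,44,44],[64,68,71])]),
  ([41,56,50], [(236,[],[]),(236,[44,44,38,44,38],[68,70]),(236,[44,38,44,44],[67,71])]),
  ([37,41,56,50], [(237,[],[]),(237,[44,56,44,44],[68,70]),(237,[44,44,56,44],[64,67,71])]),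
  ([38,41,56,50], [(238,[],[]),(238,[44,44,56,44],[64,68,70]),(238,[44,56,44,44],[67,71])]),
  ([46,50], [(239,[],[]),(239,[56,56],[64,70]),(239,[56],[65,71])]),
  ([55,46,50], [(240,[],[]),(240,[56,56],[64,70]),(240,[56],[65,71])]),
  ([37,55,46,50], [(241,[],[]),(241,[56,56],[64,70]),(241,[56],[65,71])]),
  ([38,55,46,50], [(242,[],[]),(242,[56,56],[64,70]),(242,[56],[65,71])]),
  ([40,55,46,50], [(243,[],[]),(243,[56,56],[64,70]),(243,[56],[65,71])]),
  ([37,40,55,46,50], [(244,[],[]),(244,[56,56],[64,70]),(244,[56],[65,71])]),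
  ([38,40,55,46,50], [(245,[],[]),(245,[56,56],[64,70]),(245,[56],[65,71])]),
  ([41,55,46,50], [(246,[],[]),(246,[56,56],[64,70]),(246,[56],[65,71])]),
  ([37,41,55,46,50], [(247,[],[]),(247,[56,56],[64,70]),(247,[56],[65,71])]),
  ([38,41,55,46,50], [(248,[],[]),(248,[56,56],[64,70]),(248,[56],[65,71])]),
  ([56,46,50], [(249,[],[]),(249,[56,56],[64,70]),(249,[56],[65,71])]),
  ([37,56,46,50], [(250,[],[]),(250,[56,56],[64,70]),(250,[56],[65,71])]),
  ([38,56,46,50], [(251,[],[]),(251,[56,56],[64,70]),(251,[56],[65,71])]),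
  ([40,56,46,50], [(252,[],[]),(252,[56,56],[64,70]),(252,[56],[65,71])]),
  ([37,40,56,46,50], [(253,[],[]),(253,[56,56],[64,70]),(253,[56],[65,71])]),
  ([38,40,56,46,50], [(254,[],[]),(254,[56,56],[64,70]),(254,[56],[65,71])]),
  ([41,56,46,50], [(255,[],[]),(255,[56,56],[64,70]),(255,[56],[65,71])]),
  ([37,41,56,46,50], [(256,[],[]),(256,[56,56],[64,70]),(256,[56],[65,71])]),
  ([38,41,56,46,50], [(257,[],[]),(257,[56,56],[64,70]),(257,[56],[65,71])]),
  ([47,50], [(258,[],[]),(258,[56],[65,70]),(258,[56,56],[64,71])]),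
  ([55,47,50], [(259,[],[]),(259,[56],[65,70]),(259,[56,56],[64,71])]),
  ([37,55,47,50], [(260,[],[]),(260,[56],[65,70]),(260,[56,56],[64,71])]),
  ([38,55,47,50], [(261,[],[]),(261,[56],[65,70]),(261,[56,56],[64,71])]),
  ([40,55,47,50], [(262,[],[]),(262,[56],[65,70]),(262,[56,56],[64,71])]),
  ([37,40,55,47,50], [(263,[],[]),(263,[56],[65,70]),(263,[56,56],[64,71])]),
  ([38,40,55,47,50], [(264,[],[]),(264,[56],[65,70]),(264,[56,56],[64,71])]),
  ([41,55,47,50], [(265,[],[]),(265,[56],[65,70]),(265,[56,56],[64,71])]),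
  ([37,41,55,47,50], [(266,[],[]),(266,[56],[65,70]),(266,[56,56],[64,71])]),
  ([38,41,55,47,50], [(267,[],[]),(267,[56],[65,70]),(267,[56,56],[64,71])]),
  ([56,47,50], [(268,[],[]),(268,[56],[65,70]),(268,[56,56],[64,71])]),
  ([37,56,47,50], [(269,[],[]),(269,[56],[65,70]),(269,[56,56],[64,71])]),
  ([38,56,47,50], [(270,[],[]),(270,[56],[65,70]),(270,[56,56],[64,71])]),
  ([40,56,47,50], [(271,[],[]),(271,[56],[65,70]),(271,[56,56],[64,71])]),
  ([37,40,56,47,50], [(272,[],[]),(272,[56],[65,70]),(272,[56,56],[64,71])]),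
  ([38,40,56,47,50], [(273,[],[]),(273,[56],[65,70]),(273,[56,56],[64,71])]),
  ([41,56,47,50], [(274,[],[]),(274,[56],[65,70]),(274,[56,56],[64,71])]),
  ([37,41,56,47,50], [(275,[],[]),(275,[56],[65,70]),(275,[56,56],[64,71])]),
  ([38,41,56,47,50], [(276,[],[]),(276,[56],[65,70]),(276,[56,56],[64,71])]),
  ([58], [(277,[],[]),(277,[38],[]),(277,[38,38],[])]),
  ([37,58], [(278,[],[]),(278,[38],[]),(278,[38,38],[])]),
  ([38,58], [(279,[],[]),(279,[38],[]),(279,[38,38],[])]),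
  ([40,58], [(280,[],[]),(280,[38],[]),(280,[38,38],[])]),
  ([37,40,58], [(281,[],[]),(281,[38],[]),(281,[38,38],[])]),
  ([38,40,58], [(282,[],[]),(282,[38],[]),(282,[38,38],[])]),
  ([41,58], [(283,[],[]),(283,[38],[]),(283,[38,38],[])]),
  ([37,41,58], [(284,[],[]),(284,[38],[]),(284,[38,38],[])]),
  ([38,41,58], [(285,[],[]),(285,[38],[]),(285,[38,38],[])]),
  ([46,58], [(286,[],[]),(286,[38],[]),(286,[56],[])]),
  ([40,46,58], [(287,[],[]),(287,[38],[]),(287,[56],[])]),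
  ([37,40,46,58], [(288,[],[]),(288,[38],[]),(288,[56],[])]),
  ([38,40,46,58], [(289,[],[]),(289,[38],[]),(289,[56],[])]),
  ([41,46,58], [(290,[],[]),(290,[38],[]),(290,[56],[])]),
  ([37,41,46,58], [(291,[],[]),(291,[38],[]),(291,[56],[])]),
  ([38,41,46,58], [(292,[],[]),(292,[38],[]),(292,[56],[])]),
  ([47,58], [(299,[],[]),(299,[56],[]),(299,[56,56],[])]),
  ([40,47,58], [(300,[],[]),(300,[56],[]),(300,[56,56],[])]),
  ([37,40,47,58], [(301,[],[]),(301,[56],[]),(301,[56,56],[])]),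
  ([38,40,47,58], [(302,[],[]),(302,[56],[]),(302,[56,56],[])]),
  ([41,47,58], [(303,[],[]),(303,[56],[]),(303,[56,56],[])]),
  ([37,41,47,58], [(304,[],[]),(304,[56],[]),(304,[56,56],[])]),
  ([38,41,47,58], [(305,[],[]),(305,[56],[]),(305,[56,56],[])]),
  ([49,58], [(312,[],[]),(384,[38],[71]),(371,[38,38],[70])]),
  ([37,49,58], [(313,[],[]),(313,[44,56,44,44],[64,71]),(313,[44,44,56,44],[64,70])]),
  ([38,49,58], [(314,[],[]),(314,[44,44,56,44],[64,71]),(314,[44,56,44,44],[64,70])]),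
  ([46,49,58], [(315,[],[]),(315,[56,56],[65,71]),(315,[56],[64,70])]),
  ([47,49,58], [(318,[],[]),(318,[56],[64,71]),(318,[56,56],[65,70])]),
  ([50,58], [(321,[],[]),(372,[38],[70]),(385,[38,38],[71])]),
  ([37,50,58], [(322,[],[]),(322,[44,56,44,44],[65,70]),(322,[44,44,56,44],[65,71])]),
  ([38,50,58], [(323,[],[]),(323,[44,44,56,44],[65,70]),(323,[44,56,44,44],[65,71])]),
  ([46,50,58], [(324,[],[]),(324,[56,56],[64,70]),(324,[56],[65,71])]),
  ([47,50,58], [(327,[],[]),(327,[56],[65,70]),(327,[56,56],[64,71])]),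
  ([59], [(330,[],[]),(330,[38,38],[]),(330,[38],[])]),
  ([37,59], [(331,[],[]),(331,[38,38],[]),(331,[38],[])]),
  ([38,59], [(332,[],[]),(332,[38,38],[]),(332,[38],[])]),
  ([40,59], [(333,[],[]),(333,[38,38],[]),(333,[38],[])]),
  ([37,40,59], [(334,[],[]),(334,[38,38],[]),(334,[38],[])]),
  ([38,40,59], [(335,[],[]),(335,[38,38],[]),(335,[38],[])])
]

theorem rows14_ok : rows14.all (chkRow 8) = true := by decide +kernel

end Cfsg.Lib.D4Three
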