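import Cfsg.Agent.Lib.D4Three.Check

/-! A part of the tree at level 8. -/

set_option autoImplicit false
set_option maxRecDepth 100000

namespace Cfsg.Lib.D4Three

def rows15 : List (List Nat × List (Nat × List Nat × List Nat)) := [
  ([41,59], [(336,[],[]),(336,[38,38],[]),(336,[38],[])]),
  ([37,41,59], [(337,[],[]),(337,[38,38],[]),(337,[38],[])]),
  ([38,41,59], [(338,[],[]),(338,[38,38],[]),(338,[38],[])]),
  ([46,59], [(339,[],[]),(339,[56,56],[]),(339,[56],[])]),
  ([40,46,59], [(340,[],[]),(340,[56,56],[]),(340,[56],[])]),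
  ([37,40,46,59], [(341,[],[]),(341,[56,56],[]),(341,[56],[])]),
  ([38,40,46,59], [(342,[],[]),(342,[56,56],[]),(342,[56],[])]),
  ([41,46,59], [(343,[],[]),(343,[56,56],[]),(343,[56],[])]),
  ([37,41,46,59], [(344,[],[]),(344,[56,56],[]),(344,[56],[])]),
  ([38,41,46,59], [(345,[],[]),(345,[56,56],[]),(345,[56],[])]),
  ([47,59], [(346,[],[]),(346,[56],[]),(346,[38],[])]),
  ([40,47,59], [(347,[],[]),(347,[56],[]),(347,[38],[])]),
  ([37,40,47,59], [(348,[],[]),(348,[56],[]),(348,[38],[])]),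
  ([38,40,47,59], [(349,[],[]),(349,[56],[]),(349,[38],[])]),
  ([41,47,59], [(350,[],[]),(350,[56],[]),(350,[38],[])]),
  ([37,41,47,59], [(351,[],[]),(351,[56],[]),(351,[38],[])]),
  ([38,41,47,59], [(352,[],[]),(352,[56],[]),(352,[38],[])]),
  ([49,59], [(353,[],[]),(374,[38,38],[71]),(387,[38],[70])]),
  ([37,49,59], [(354,[],[]),(354,[44,56,44,44],[64,71]),(354,[44,44,56,44],[64,70])]),
  ([38,49,59], [(355,[],[]),(355,[44,44,56,44],[64,71]),(355,[44,56,44,44],[64,70])]),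
  ([46,49,59], [(356,[],[]),(356,[56,56],[65,71]),(356,[56],[64,70])]),
  ([47,49,59], [(357,[],[]),(357,[56],[64,71]),(357,[56,56],[65,70])]),
  ([50,59], [(358,[],[]),(388,[38,38],[70]),(375,[38],[71])]),
  ([37,50,59], [(359,[],[]),(359,[44,56,44,44],[65,70]),(359,[44,44,56,44],[65,71])]),
  ([38,50,59], [(360,[],[]),(360,[44,44,56,44],[65,70]),(360,[44,56,44,44],[65,71])]),
  ([46,50,59], [(361,[],[]),(361,[56,56],[64,70]),(361,[56],[65,71])]),
  ([47,50,59], [(362,[],[]),(362,[56],[65,70]),(362,[56,56],[64,71])]),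
  ([52], [(363,[],[]),(394,[],[]),(401,[],[])]),
  ([55,52], [(364,[],[]),(364,[44,38,44,44],[]),(364,[44,44,38,44],[])]),
  ([56,52], [(367,[],[]),(367,[44,44,38,44],[]),(367,[44,38,44,44],[])]),
  ([58,52], [(370,[],[]),(370,[38],[]),(370,[38,38],[])]),
  ([59,52], [(373,[],[]),(373,[38,38],[]),(373,[38],[])]),
  ([53], [(376,[],[]),(395,[],[]),(402,[],[])]),
  ([55,53], [(377,[],[]),(377,[44,38,44,44],[]),(377,[44,44,38,44],[])]),
  ([56,53], [(380,[],[]),(380,[44,44,38,44],[]),(380,[44,38,44,44],[])]),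
  ([58,53], [(383,[],[]),(383,[38],[]),(383,[38,38],[])]),
  ([59,53], [(386,[],[]),(386,[38,38],[]),(386,[38],[])])
]

theorem rows15_ok : rows15.all (chkRow 8) = true := by decide +kernel

end Cfsg.Lib.D4Three
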