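import Cfsg.Agent.Lib.D4Three.Check

/-! A part of the tree at level 9. -/

set_option autoImplicit false
set_option maxRecDepth 100000

namespace Cfsg.Lib.D4Three

def rows16 : List (List Nat × List (Nat × List Nat × List Nat)) := [
  ([], [(0,[],[]),(511,[],[]),(524,[],[])]),
  ([37], [(1,[],[]),(512,[],[]),(525,[],[])]),
  ([38], [(2,[],[]),(513,[],[]),(526,[],[])]),
  ([40], [(3,[],[]),(3,[44,56,44,44],[]),(3,[44,44,56,44],[])]),
  ([37,40], [(4,[],[]),(498,[44,56,44,44],[67]),(483,[44,44,56,44],[68])]),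
  ([38,40], [(5,[],[]),(484,[44,56,44,44],[68]),(499,[44,44,56,44],[67])]),
  ([41], [(6,[],[]),(6,[44,44,56,44],[]),(6,[44,56,44,44],[])]),
  ([37,41], [(7,[],[]),(486,[44,44,56,44],[67]),(501,[44,56,44,44],[68])]),
  ([38,41], [(8,[],[]),(502,[44,44,56,44],[68]),(487,[44,56,44,44],[67])]),
  ([43], [(9,[],[]),(362,[56,41],[]),(347,[56,41,41],[])]),
  ([37,43], [(10,[],[]),(363,[56,41],[]),(348,[56,41,41],[])]),
  ([38,43], [(11,[],[]),(364,[56,41],[]),(349,[56,41,41],[])]),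
  ([40,43], [(12,[],[]),(12,[56,56,44,56,41],[]),(12,[56,44,56,56,41],[])]),
  ([37,40,43], [(13,[],[]),(311,[44,56,44,44,38,38],[68,70]),(332,[44,44,56,44,38],[])]),
  ([38,40,43], [(14,[],[]),(333,[44,56,44,44,38],[67,71]),(312,[44,41,44,56,41],[])]),
  ([41,43], [(15,[],[]),(15,[56,56,44,44,56,44],[]),(15,[56,56,44,56,44,44],[])]),
  ([37,41,43], [(16,[],[]),(335,[41,44,44,56],[]),(314,[41,44,56,41],[])]),
  ([38,41,43], [(17,[],[]),(315,[41,44,44,56],[]),(336,[41,44,56,41],[])]),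
  ([44], [(18,[],[]),(350,[56,56,41],[]),(365,[56,56,41,41],[])]),
  ([37,44], [(19,[],[]),(351,[56,56,41],[]),(366,[56,56,41,41],[])]),
  ([38,44], [(20,[],[]),(352,[56,56,41],[]),(367,[56,56,41,41],[])]),
  ([40,44], [(21,[],[]),(21,[56,56,44,56,44,44],[]),(21,[56,56,44,44,56,44],[])]),
  ([37,40,44], [(22,[],[]),(339,[56,44,56,41,44],[67,71]),(318,[41,41,44,56,56],[])]),
  ([38,40,44], [(23,[],[]),(319,[56,44,56,41,44],[68,70]),(340,[41,41,44,56,56],[])]),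
  ([41,44], [(24,[],[]),(24,[56,44,56,56,41],[]),(24,[56,56,44,56,41],[])]),
  ([37,41,44], [(25,[],[]),(321,[41,44,56,56],[]),(342,[56,44,56,41,38],[])]),
  ([38,41,44], [(26,[],[]),(343,[41,44,56,56],[]),(322,[56,44,56,44,44,38],[68,71])]),
  ([55], [(27,[],[]),(27,[44,41,44,44],[]),(27,[44,44,41,44],[])]),
  ([37,55], [(28,[],[]),(409,[44,41,44,44],[67]),(446,[44,44,41,44],[68])]),
  ([38,55], [(29,[],[]),(447,[44,41,44,44],[68]),(410,[44,44,41,44],[67])]),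
  ([40,55], [(30,[],[]),(30,[44,56,44,44],[]),(30,[44,44,56,44],[])]),
  ([37,40,55], [(31,[],[]),(31,[44,38,44,56,41,44],[67,71]),(31,[44,56,41,44,38,44],[67,71])]),
  ([38,40,55], [(32,[],[]),(32,[44,44,56,41,38,44],[68,70]),(32,[44,56,41,38,44,44],[67,70])]),
  ([41,55], [(33,[],[]),(33,[44,44,56,44],[]),(33,[44,56,44,44],[])]),
  ([37,41,55], [(34,[],[]),(34,[44,56,44,41,38,44],[70]),(34,[44,41,38,44,56,44],[70])]),
  ([38,41,55], [(35,[],[]),(35,[44,56,38,44,41,44],[68,71]),(35,[44,41,44,56,38,44],[67,71])]),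
  ([43,55], [(36,[],[]),(36,[56,41,41,44,41],[]),(36,[56,41,44,41,41],[])]),
  ([37,43,55], [(37,[],[]),(189,[56,56,44,56,56,41,41],[]),(159,[41,41],[])]),
  ([38,43,55], [(38,[],[]),(218,[44,44,41,38,44,41],[67]),(160,[41,41],[])]),
  ([40,43,55], [(39,[],[]),(39,[44,56,41],[]),(39,[56,41,44],[])]),
  ([37,40,43,55], [(40,[],[]),(40,[44,44,56,38,44,41,44],[71]),(40,[44,56,44,41,44,38,44],[67,70])]),
  ([38,40,43,55], [(41,[],[]),(41,[56,56,44,41,41,44,38],[68,71]),(41,[56,44,38,44,56,41,41],[])]),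
  ([41,43,55], [(42,[],[]),(42,[56,41,41,44],[]),(42,[56,41,44,41],[])]),
  ([37,41,43,55], [(43,[],[]),(43,[41,38,44,56,41],[]),(43,[56,56,44,41,44,38,38],[68,71])]),
  ([38,41,43,55], [(44,[],[]),(44,[56,44,38,44,56,41],[]),(44,[56,56,44,41,44,38],[67,70])]),
  ([44,55], [(45,[],[]),(45,[56,56,41,41,44,41],[]),(45,[56,56,41,44,41,41],[])]),
  ([37,44,55], [(46,[],[]),(220,[44,56,44,41],[]),(161,[41],[])]),
  ([38,44,55], [(47,[],[]),(191,[44,56,44,41],[]),(162,[41],[])]),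
  ([40,44,55], [(48,[],[]),(48,[56,41,44,44],[]),(48,[56,44,41,44],[])]),
  ([37,40,44,55], [(49,[],[]),(49,[38,44,41,44,56],[]),(49,[41,44,56,38,44],[68,70])]),
  ([38,40,44,55], [(50,[],[]),(50,[44,41,38,44,56,38],[67]),(50,[56,56,41,44,41,38],[67,71])]),
  ([41,44,55], [(51,[],[]),(51,[56,41,44,56],[]),(51,[56,56,41,44],[])]),
  ([37,41,44,55], [(52,[],[]),(52,[44,56,41,38,44,41],[70]),(52,[56,38,44,56,41,38],[])]),
  ([38,41,44,55], [(53,[],[]),(53,[44,56,41,38,38,44,41],[71]),(53,[44,41,41,38,44,56,38],[68])]),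
  ([56], [(54,[],[]),(54,[44,44,41,44],[]),(54,[44,41,44,44],[])]),
  ([37,56], [(55,[],[]),(451,[44,44,41,44],[67]),(414,[44,41,44,44],[68])]),
  ([38,56], [(56,[],[]),(415,[44,44,41,44],[68]),(452,[44,41,44,44],[67])]),
  ([40,56], [(57,[],[]),(57,[44,56,44,44],[]),(57,[44,44,56,44],[])]),
  ([37,40,56], [(58,[],[]),(58,[44,41,44,56,38,44],[70]),(58,[44,56,38,44,41,44],[70])]),
  ([38,40,56], [(59,[],[]),(59,[44,41,38,44,56,44],[68,71]),(59,[44,56,44,41,38,44],[67,71])]),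
  ([41,56], [(60,[],[]),(60,[44,44,56,44],[]),(60,[44,56,44,44],[])]),
  ([37,41,56], [(61,[],[]),(61,[44,56,41,38,44,44],[71]),(61,[44,44,56,41,38,44],[71])]),
  ([38,41,56], [(62,[],[]),(62,[44,56,41,44,38,44],[67,70]),(62,[44,38,44,56,41,44],[70])]),
  ([43,56], [(63,[],[]),(63,[56,56,41,44,41,41],[]),(63,[56,56,41,41,44,41],[])]),
  ([37,43,56], [(64,[],[]),(172,[41,41],[]),(202,[56,44,56,41,41],[])]),
  ([38,43,56], [(65,[],[]),(173,[41,41],[]),(231,[56,44,56,41,41],[])]),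
  ([40,43,56], [(66,[],[]),(66,[56,56,41,44],[]),(66,[56,41,44,56],[])]),
  ([37,40,43,56], [(67,[],[]),(67,[44,56,38,38,44,41,41],[68,70]),(67,[56,44,41,41,44,38,38],[68,71])]),
  ([38,40,43,56], [(68,[],[]),(68,[44,56,38,44,41,41],[67,71]),(68,[56,44,41,41,44,38],[67,70])]),
  ([41,43,56], [(69,[],[]),(69,[56,44,41,44],[]),(69,[56,41,44,44],[])]),
  ([37,41,43,56], [(70,[],[]),(70,[56,44,41,44,38,38],[67,70]),(70,[44,56,38,38,44,41],[67,71])]),
  ([38,41,43,56], [(71,[],[]),(71,[56,44,41,44,38],[68,71]),(71,[44,56,38,44,41],[68,70])]),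
  ([44,56], [(72,[],[]),(72,[56,41,44,41,41],[]),(72,[56,41,41,44,41],[])]),
  ([37,44,56], [(73,[],[]),(174,[41],[]),(233,[56,44,44,56,41],[])]),
  ([38,44,56], [(74,[],[]),(175,[41],[]),(204,[56,44,44,56,41],[])]),
  ([40,44,56], [(75,[],[]),(75,[56,41,44,41],[]),(75,[56,41,41,44],[])]),
  ([37,40,44,56], [(76,[],[]),(76,[56,41,44,41,38,38],[67,71]),(76,[56,38,44,56,41,44],[67,71])]),
  ([38,40,44,56], [(77,[],[]),(77,[56,41,44,41,38],[68,70]),(77,[56,44,56,41,38,44,38],[68,70])]),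
  ([41,44,56], [(78,[],[]),(78,[56,41,44],[]),(78,[44,56,41],[])]),
  ([37,41,44,56], [(79,[],[]),(79,[56,41,38,44,56,44,41],[]),(79,[56,44,41,38,44,56,41],[])]),
  ([38,41,44,56], [(80,[],[]),(80,[44,44,56,38,44,44,41],[67,70]),(80,[56,44,44,41,44,44,38],[67,71])]),
  ([46], [(81,[],[]),(514,[],[]),(527,[],[])]),
  ([40,46], [(82,[],[]),(82,[56,56,44,56,44,44],[71]),(82,[56,56,44,44,56,44],[70])]),
  ([37,40,46], [(83,[],[]),(83,[44,56,44,44],[67,71]),(83,[56,44,44,56,44],[68,70])]),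
  ([38,40,46], [(84,[],[]),(84,[56,44,56,44,44],[68,71]),(84,[44,44,56,44],[67,70])]),
  ([41,46], [(85,[],[]),(85,[56,56,44,44,56,44],[71]),(85,[56,56,44,56,44,44],[70])]),
  ([37,41,46], [(86,[],[]),(86,[56,44,44,56,44],[67,71]),(86,[44,56,44,44],[68,70])]),
  ([38,41,46], [(87,[],[]),(87,[44,44,56,44],[68,71]),(87,[56,44,56,44,44],[67,70])]),
  ([55,46], [(88,[],[]),(88,[44,44,41,41,44,41],[71]),(88,[44,44,41,44,41,41],[70])]),
  ([37,55,46], [(89,[],[]),(89,[44,41,44,44],[67,71]),(89,[44,44,41,44,41],[68,70])]),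
  ([38,55,46], [(90,[],[]),(90,[44,44,41,41,44],[68,71]),(90,[44,44,41,44],[67,70])]),
  ([40,55,46], [(91,[],[]),(91,[56,56,44,56,44,44],[71]),(91,[56,56,44,44,56,44],[70])]),
  ([37,40,55,46], [(92,[],[]),(92,[44,56,44,44],[67,71]),(92,[56,44,44,56,44],[68,70])]),
  ([38,40,55,46], [(93,[],[]),(93,[56,44,56,44,44],[68,71]),(93,[44,44,56,44],[67,70])]),
  ([41,55,46], [(94,[],[]),(94,[56,56,44,44,56,44],[71]),(94,[56,56,44,56,44,44],[70])]),
  ([37,41,55,46], [(95,[],[]),(95,[44,41,44,44],[67,71]),(95,[44,56,44,44],[68,70])]),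
  ([38,41,55,46], [(96,[],[]),(96,[44,44,56,44],[68,71]),(96,[44,44,41,44],[67,70])]),
  ([40,43,55,46], [(97,[],[]),(97,[56,56,44,56,44,44],[71]),(97,[56,56,44,44,56,44],[70])]),
  ([41,43,55,46], [(98,[],[]),(98,[56,56,44,44,56,44],[71]),(98,[56,56,44,56,44,44],[70])]),
  ([40,44,55,46], [(99,[],[]),(99,[56,56,44,56,44,44],[71]),(99,[56,56,44,44,56,44],[70])])
]

theorem rows16_ok : rows16.all (chkRow 9) = true := by decide +kernel

end Cfsg.Lib.D4Three
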