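import Cfsg.Agent.Lib.D4Three.Check

/-! A part of the tree at level 9. -/

set_option autoImplicit false
set_option maxRecDepth 100000

namespace Cfsg.Lib.D4Three

def rows17 : List (List Nat × List (Nat × List Nat × List Nat)) := [
  ([41,44,55,46], [(100,[],[]),(100,[56,56,44,44,56,44],[71]),(100,[56,56,44,56,44,44],[70])]),
  ([56,46], [(101,[],[]),(101,[44,44,41,44,41,41],[71]),(101,[44,44,41,41,44,41],[70])]),
  ([37,56,46], [(102,[],[]),(102,[44,44,41,44,41],[67,71]),(102,[44,41,44,44],[68,70])]),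
  ([38,56,46], [(103,[],[]),(103,[44,44,41,44],[68,71]),(103,[44,44,41,41,44],[67,70])]),
  ([40,56,46], [(104,[],[]),(104,[56,56,44,56,44,44],[71]),(104,[56,56,44,44,56,44],[70])]),
  ([37,40,56,46], [(105,[],[]),(105,[44,56,44,44],[67,71]),(105,[44,41,44,44],[68,70])]),
  ([38,40,56,46], [(106,[],[]),(106,[44,44,41,44],[68,71]),(106,[44,44,56,44],[67,70])]),
  ([41,56,46], [(107,[],[]),(107,[56,56,44,44,56,44],[71]),(107,[56,56,44,56,44,44],[70])]),
  ([37,41,56,46], [(108,[],[]),(108,[56,44,44,56,44],[67,71]),(108,[44,56,44,44],[68,70])]),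
  ([38,41,56,46], [(109,[],[]),(109,[44,44,56,44],[68,71]),(109,[56,44,56,44,44],[67,70])]),
  ([40,43,56,46], [(110,[],[]),(110,[56,56,44,56,44,44],[71]),(110,[56,56,44,44,56,44],[70])]),
  ([41,43,56,46], [(111,[],[]),(111,[56,56,44,44,56,44],[71]),(111,[56,56,44,56,44,44],[70])]),
  ([40,44,56,46], [(112,[],[]),(112,[56,56,44,56,44,44],[71]),(112,[56,56,44,44,56,44],[70])]),
  ([41,44,56,46], [(113,[],[]),(113,[56,56,44,44,56,44],[71]),(113,[56,56,44,56,44,44],[70])]),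
  ([47], [(114,[],[]),(515,[],[]),(528,[],[])]),
  ([40,47], [(115,[],[]),(115,[56,56,44,56,44,44],[70]),(115,[56,56,44,44,56,44],[71])]),
  ([37,40,47], [(116,[],[]),(116,[56,44,56,44,44],[67,70]),(116,[44,44,56,44],[68,71])]),
  ([38,40,47], [(117,[],[]),(117,[44,56,44,44],[68,70]),(117,[56,44,44,56,44],[67,71])]),
  ([41,47], [(118,[],[]),(118,[56,56,44,44,56,44],[70]),(118,[56,56,44,56,44,44],[71])]),
  ([37,41,47], [(119,[],[]),(119,[44,44,56,44],[67,70]),(119,[56,44,56,44,44],[68,71])]),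
  ([38,41,47], [(120,[],[]),(120,[56,44,44,56,44],[68,70]),(120,[44,56,44,44],[67,71])]),
  ([55,47], [(121,[],[]),(121,[44,44,41,41,44,41],[70]),(121,[44,44,41,44,41,41],[71])]),
  ([37,55,47], [(122,[],[]),(122,[44,44,41,41,44],[67,70]),(122,[44,44,41,44],[68,71])]),
  ([38,55,47], [(123,[],[]),(123,[44,41,44,44],[68,70]),(123,[44,44,41,44,41],[67,71])]),
  ([40,55,47], [(124,[],[]),(124,[56,56,44,56,44,44],[70]),(124,[56,56,44,44,56,44],[71])]),
  ([37,40,55,47], [(125,[],[]),(125,[56,44,56,44,44],[67,70]),(125,[44,44,56,44],[68,71])]),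
  ([38,40,55,47], [(126,[],[]),(126,[44,56,44,44],[68,70]),(126,[56,44,44,56,44],[67,71])]),
  ([41,55,47], [(127,[],[]),(127,[56,56,44,44,56,44],[70]),(127,[56,56,44,56,44,44],[71])]),
  ([37,41,55,47], [(128,[],[]),(128,[44,44,56,44],[67,70]),(128,[44,44,41,44],[68,71])]),
  ([38,41,55,47], [(129,[],[]),(129,[44,41,44,44],[68,70]),(129,[44,56,44,44],[67,71])]),
  ([40,43,55,47], [(130,[],[]),(130,[56,56,44,56,44,44],[70]),(130,[56,56,44,44,56,44],[71])]),
  ([41,43,55,47], [(131,[],[]),(131,[56,56,44,44,56,44],[70]),(131,[56,56,44,56,44,44],[71])]),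
  ([40,44,55,47], [(132,[],[]),(132,[56,56,44,56,44,44],[70]),(132,[56,56,44,44,56,44],[71])]),
  ([41,44,55,47], [(133,[],[]),(133,[56,56,44,44,56,44],[70]),(133,[56,56,44,56,44,44],[71])]),
  ([56,47], [(134,[],[]),(134,[44,44,41,44,41,41],[70]),(134,[44,44,41,41,44,41],[71])]),
  ([37,56,47], [(135,[],[]),(135,[44,44,41,44],[67,70]),(135,[44,44,41,41,44],[68,71])]),
  ([38,56,47], [(136,[],[]),(136,[44,44,41,44,41],[68,70]),(136,[44,41,44,44],[67,71])]),
  ([40,56,47], [(137,[],[]),(137,[56,56,44,56,44,44],[70]),(137,[56,56,44,44,56,44],[71])]),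
  ([37,40,56,47], [(138,[],[]),(138,[44,44,41,44],[67,70]),(138,[44,44,56,44],[68,71])]),
  ([38,40,56,47], [(139,[],[]),(139,[44,56,44,44],[68,70]),(139,[44,41,44,44],[67,71])]),
  ([41,56,47], [(140,[],[]),(140,[56,56,44,44,56,44],[70]),(140,[56,56,44,56,44,44],[71])]),
  ([37,41,56,47], [(141,[],[]),(141,[44,44,56,44],[67,70]),(141,[56,44,56,44,44],[68,71])]),
  ([38,41,56,47], [(142,[],[]),(142,[56,44,44,56,44],[68,70]),(142,[44,56,44,44],[67,71])]),
  ([40,43,56,47], [(143,[],[]),(143,[56,56,44,56,44,44],[70]),(143,[56,56,44,44,56,44],[71])]),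
  ([41,43,56,47], [(144,[],[]),(144,[56,56,44,44,56,44],[70]),(144,[56,56,44,56,44,44],[71])]),
  ([40,44,56,47], [(145,[],[]),(145,[56,56,44,56,44,44],[70]),(145,[56,56,44,44,56,44],[71])]),
  ([41,44,56,47], [(146,[],[]),(146,[56,56,44,44,56,44],[70]),(146,[56,56,44,56,44,44],[71])]),
  ([49], [(147,[],[]),(147,[56,56],[]),(147,[56],[])]),
  ([37,49], [(148,[],[]),(148,[56,56],[]),(148,[56],[])]),
  ([38,49], [(149,[],[]),(149,[56,56],[]),(149,[56],[])]),
  ([55,49], [(150,[],[]),(150,[56,56],[]),(150,[56],[])]),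
  ([37,55,49], [(151,[],[]),(151,[56,56],[]),(151,[56],[])]),
  ([38,55,49], [(152,[],[]),(152,[56,56],[]),(152,[56],[])]),
  ([40,55,49], [(153,[],[]),(153,[56,56],[]),(153,[56],[])]),
  ([37,40,55,49], [(154,[],[]),(154,[56,56],[]),(154,[56],[])]),
  ([38,40,55,49], [(155,[],[]),(155,[56,56],[]),(155,[56],[])]),
  ([41,55,49], [(156,[],[]),(156,[56,56],[]),(156,[56],[])]),
  ([37,41,55,49], [(157,[],[]),(157,[56,56],[]),(157,[56],[])]),
  ([38,41,55,49], [(158,[],[]),(158,[56,56],[]),(158,[56],[])]),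
  ([56,49], [(163,[],[]),(163,[56,56],[]),(163,[56],[])]),
  ([37,56,49], [(164,[],[]),(164,[56,56],[]),(164,[56],[])]),
  ([38,56,49], [(165,[],[]),(165,[56,56],[]),(165,[56],[])]),
  ([40,56,49], [(166,[],[]),(166,[56,56],[]),(166,[56],[])]),
  ([37,40,56,49], [(167,[],[]),(167,[56,56],[]),(167,[56],[])]),
  ([38,40,56,49], [(168,[],[]),(168,[56,56],[]),(168,[56],[])]),
  ([41,56,49], [(169,[],[]),(169,[56,56],[]),(169,[56],[])]),
  ([37,41,56,49], [(170,[],[]),(170,[56,56],[]),(170,[56],[])]),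
  ([38,41,56,49], [(171,[],[]),(171,[56,56],[]),(171,[56],[])]),
  ([46,49], [(176,[],[]),(504,[56,56],[71]),(489,[56],[70])]),
  ([43,46,49], [(177,[],[]),(470,[56,41,41,38],[67]),(463,[56,38],[])]),
  ([44,46,49], [(178,[],[]),(427,[56,56,38,38],[]),(434,[56,56,41,38,38],[67])]),
  ([55,46,49], [(179,[],[]),(179,[44,44,41,41,44,41],[71]),(179,[44,44,41,44,41,41],[70])]),
  ([37,55,46,49], [(180,[],[]),(180,[44,41,44,44],[67,71]),(180,[44,56,44,44],[])]),
  ([38,55,46,49], [(181,[],[]),(181,[56,44,56,44,44],[]),(181,[44,44,56,44],[])]),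
  ([40,55,46,49], [(182,[],[]),(182,[44,38,44,56,44],[67,70]),(182,[56,44,38,44,44],[68,71])]),
  ([37,40,55,46,49], [(183,[],[]),(183,[44,41,44,44],[67,71]),(183,[56,44,38,44,44],[68,71])]),
  ([38,40,55,46,49], [(184,[],[]),(184,[44,44,56,44],[67,70]),(184,[44,44,41,44],[67,70])]),
  ([41,55,46,49], [(185,[],[]),(185,[56,56,44,44,56,44],[71]),(185,[56,56,44,56,44,44],[70])]),
  ([37,41,55,46,49], [(186,[],[]),(186,[44,56,44,44],[68,70]),(186,[56,44,44,56,44],[67,71])]),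
  ([38,41,55,46,49], [(187,[],[]),(187,[44,56,44,38,44],[67]),(187,[44,44,41,44],[67,70])]),
  ([43,55,46,49], [(188,[],[]),(188,[44,44,41,41,44,41],[71]),(188,[56,38,38,44,38],[71])]),
  ([44,55,46,49], [(190,[],[]),(190,[56,56,38,44,38,38],[71]),(190,[56,44,38,38,44,38],[71])]),
  ([56,46,49], [(192,[],[]),(192,[44,44,41,44,41,41],[71]),(192,[44,44,41,41,44,41],[70])]),
  ([37,56,46,49], [(193,[],[]),(193,[56,44,44,56,44],[]),(193,[44,56,44,44],[])]),
  ([38,56,46,49], [(194,[],[]),(194,[44,44,41,44],[68,71]),(194,[44,44,56,44],[])]),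
  ([40,56,46,49], [(195,[],[]),(195,[56,56,44,56,44,44],[71]),(195,[56,56,44,44,56,44],[70])]),
  ([37,40,56,46,49], [(196,[],[]),(196,[44,44,41,44,41],[67,71]),(196,[44,41,44,44],[68,70])]),
  ([38,40,56,46,49], [(197,[],[]),(197,[44,44,56,44],[67,70]),(197,[56,44,56,44,44],[68,71])]),
  ([41,56,46,49], [(198,[],[]),(198,[44,56,44,38,44],[67]),(198,[56,44,44,38,44],[70])]),
  ([37,41,56,46,49], [(199,[],[]),(199,[44,56,44,44],[68,70]),(199,[44,41,44,44],[68,70])]),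
  ([38,41,56,46,49], [(200,[],[]),(200,[44,44,41,44],[68,71]),(200,[56,44,44,38,44],[70])]),
  ([43,56,46,49], [(201,[],[]),(201,[56,56,38,38,44,38],[70]),(201,[56,44,38,44,38,38],[70])]),
  ([44,56,46,49], [(203,[],[]),(203,[44,44,41,44,41,41],[71]),(203,[56,38,44,38,38],[70])]),
  ([47,49], [(205,[],[]),(490,[56,56],[70]),(505,[56],[71])]),
  ([43,47,49], [(206,[],[]),(433,[56,41,41,38,38],[68]),(426,[56,38,38],[])]),
  ([44,47,49], [(207,[],[]),(464,[56,56,38],[]),(471,[56,56,41,38],[68])]),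
  ([55,47,49], [(208,[],[]),(208,[44,41,44,44,38],[68,70]),(208,[44,44,41,44,38],[67,71])]),
  ([37,55,47,49], [(209,[],[]),(209,[56,44,56,44,44],[]),(209,[44,44,56,44],[])]),
  ([38,55,47,49], [(210,[],[]),(210,[44,41,44,44],[68,70]),(210,[44,56,44,44],[])]),
  ([40,55,47,49], [(211,[],[]),(211,[44,41,44,44,38],[68,70]),(211,[44,44,41,44,38],[67,71])])
]

theorem rows17_ok : rows17.all (chkRow 9) = true := by decide +kernel

end Cfsg.Lib.D4Three
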