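import Cfsg.Agent.Lib.D4Three.Check

/-! A part of the tree at level 9. -/

set_option autoImplicit false
set_option maxRecDepth 100000

namespace Cfsg.Lib.D4Three

def rows18 : List (List Nat × List (Nat × List Nat × List Nat)) := [
  ([37,40,55,47,49], [(212,[],[]),(212,[44,44,56,44],[68,71]),(212,[44,44,41,44],[68,71])]),
  ([38,40,55,47,49], [(213,[],[]),(213,[44,41,44,44],[68,70]),(213,[44,44,41,44,41],[67,71])]),
  ([41,55,47,49], [(214,[],[]),(214,[44,56,44,38,44],[70]),(214,[56,44,44,38,44],[68,70])]),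
  ([37,41,55,47,49], [(215,[],[]),(215,[44,44,41,41,44],[67,70]),(215,[44,44,41,44],[68,71])]),
  ([38,41,55,47,49], [(216,[],[]),(216,[44,56,44,44],[67,71]),(216,[56,44,44,56,44],[68,70])]),
  ([43,55,47,49], [(217,[],[]),(217,[44,44,41,41,44,41],[70]),(217,[56,38,44,38,38],[70])]),
  ([44,55,47,49], [(219,[],[]),(219,[56,56,38,38,44,38],[70]),(219,[56,44,38,44,38,38],[70])]),
  ([56,47,49], [(221,[],[]),(221,[44,44,41,44,38],[68,70]),(221,[44,41,44,44,38],[67,71])]),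
  ([37,56,47,49], [(222,[],[]),(222,[44,44,41,44],[67,70]),(222,[44,44,56,44],[])]),
  ([38,56,47,49], [(223,[],[]),(223,[56,44,44,56,44],[]),(223,[44,56,44,44],[])]),
  ([40,56,47,49], [(224,[],[]),(224,[44,44,41,44,38],[68,70]),(224,[56,44,38,44,44],[71])]),
  ([37,40,56,47,49], [(225,[],[]),(225,[44,44,56,44],[68,71]),(225,[56,44,56,44,44],[67,70])]),
  ([38,40,56,47,49], [(226,[],[]),(226,[44,44,41,44,41],[68,70]),(226,[44,41,44,44],[67,71])]),
  ([41,56,47,49], [(227,[],[]),(227,[44,44,41,44,38],[68,70]),(227,[44,41,44,44,38],[67,71])]),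
  ([37,41,56,47,49], [(228,[],[]),(228,[44,44,41,44],[67,70]),(228,[44,44,41,41,44],[68,71])]),
  ([38,41,56,47,49], [(229,[],[]),(229,[44,56,44,44],[67,71]),(229,[44,41,44,44],[67,71])]),
  ([43,56,47,49], [(230,[],[]),(230,[56,56,38,44,38,38],[71]),(230,[56,44,38,38,44,38],[71])]),
  ([44,56,47,49], [(232,[],[]),(232,[44,44,41,44,41,41],[70]),(232,[56,38,38,44,38],[71])]),
  ([50], [(234,[],[]),(234,[56],[]),(234,[56,56],[])]),
  ([37,50], [(235,[],[]),(235,[56],[]),(235,[56,56],[])]),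
  ([38,50], [(236,[],[]),(236,[56],[]),(236,[56,56],[])]),
  ([55,50], [(237,[],[]),(237,[56],[]),(237,[56,56],[])]),
  ([37,55,50], [(238,[],[]),(238,[56],[]),(238,[56,56],[])]),
  ([38,55,50], [(239,[],[]),(239,[56],[]),(239,[56,56],[])]),
  ([40,55,50], [(240,[],[]),(240,[56],[]),(240,[56,56],[])]),
  ([37,40,55,50], [(241,[],[]),(241,[56],[]),(241,[56,56],[])]),
  ([38,40,55,50], [(242,[],[]),(242,[56],[]),(242,[56,56],[])]),
  ([41,55,50], [(243,[],[]),(243,[56],[]),(243,[56,56],[])]),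
  ([37,41,55,50], [(244,[],[]),(244,[56],[]),(244,[56,56],[])]),
  ([38,41,55,50], [(245,[],[]),(245,[56],[]),(245,[56,56],[])]),
  ([56,50], [(246,[],[]),(246,[56],[]),(246,[56,56],[])]),
  ([37,56,50], [(247,[],[]),(247,[56],[]),(247,[56,56],[])]),
  ([38,56,50], [(248,[],[]),(248,[56],[]),(248,[56,56],[])]),
  ([40,56,50], [(249,[],[]),(249,[56],[]),(249,[56,56],[])]),
  ([37,40,56,50], [(250,[],[]),(250,[56],[]),(250,[56,56],[])]),
  ([38,40,56,50], [(251,[],[]),(251,[56],[]),(251,[56,56],[])]),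
  ([41,56,50], [(252,[],[]),(252,[56],[]),(252,[56,56],[])]),
  ([37,41,56,50], [(253,[],[]),(253,[56],[]),(253,[56,56],[])]),
  ([38,41,56,50], [(254,[],[]),(254,[56],[]),(254,[56,56],[])]),
  ([46,50], [(255,[],[]),(492,[56],[71]),(507,[56,56],[70])]),
  ([55,46,50], [(256,[],[]),(256,[44,41,44,44,38],[68,71]),(256,[44,44,41,44,38],[67,70])]),
  ([37,55,46,50], [(257,[],[]),(257,[44,56,44,44],[]),(257,[56,44,44,56,44],[])]),
  ([38,55,46,50], [(258,[],[]),(258,[44,44,56,44],[]),(258,[44,44,41,44],[67,70])]),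
  ([40,55,46,50], [(259,[],[]),(259,[44,41,44,44,38],[68,71]),(259,[44,44,41,44,38],[67,70])]),
  ([37,40,55,46,50], [(260,[],[]),(260,[44,41,44,44],[67,71]),(260,[44,56,44,44],[67,71])]),
  ([38,40,55,46,50], [(261,[],[]),(261,[44,44,41,41,44],[68,71]),(261,[44,44,41,44],[67,70])]),
  ([41,55,46,50], [(262,[],[]),(262,[56,44,38,44,44],[67,70]),(262,[44,44,41,44,38],[67,70])]),
  ([37,41,55,46,50], [(263,[],[]),(263,[44,41,44,44],[67,71]),(263,[44,44,41,44,41],[68,70])]),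
  ([38,41,55,46,50], [(264,[],[]),(264,[56,44,56,44,44],[67,70]),(264,[44,44,56,44],[68,71])]),
  ([56,46,50], [(265,[],[]),(265,[44,44,41,44,38],[68,71]),(265,[44,41,44,44,38],[67,70])]),
  ([37,56,46,50], [(266,[],[]),(266,[44,56,44,44],[]),(266,[44,41,44,44],[68,70])]),
  ([38,56,46,50], [(267,[],[]),(267,[44,44,56,44],[]),(267,[56,44,56,44,44],[])]),
  ([40,56,46,50], [(268,[],[]),(268,[56,44,44,38,44],[71]),(268,[44,56,44,38,44],[68])]),
  ([37,40,56,46,50], [(269,[],[]),(269,[56,44,44,56,44],[68,70]),(269,[44,56,44,44],[67,71])]),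
  ([38,40,56,46,50], [(270,[],[]),(270,[44,44,41,44],[68,71]),(270,[44,44,41,41,44],[67,70])]),
  ([41,56,46,50], [(271,[],[]),(271,[44,44,41,44,38],[68,71]),(271,[44,41,44,44,38],[67,70])]),
  ([37,41,56,46,50], [(272,[],[]),(272,[44,44,41,44,41],[67,71]),(272,[44,41,44,44],[68,70])]),
  ([38,41,56,46,50], [(273,[],[]),(273,[44,44,41,44],[68,71]),(273,[44,44,56,44],[68,71])]),
  ([47,50], [(274,[],[]),(508,[56],[70]),(493,[56,56],[71])]),
  ([55,47,50], [(275,[],[]),(275,[44,44,41,41,44,41],[70]),(275,[44,44,41,44,41,41],[71])]),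
  ([37,55,47,50], [(276,[],[]),(276,[44,44,56,44],[]),(276,[44,44,41,44],[68,71])]),
  ([38,55,47,50], [(277,[],[]),(277,[44,56,44,44],[]),(277,[56,44,44,56,44],[])]),
  ([40,55,47,50], [(278,[],[]),(278,[56,44,44,38,44],[67,71]),(278,[44,56,44,38,44],[71])]),
  ([37,40,55,47,50], [(279,[],[]),(279,[56,44,44,38,44],[67,71]),(279,[44,44,41,44],[68,71])]),
  ([38,40,55,47,50], [(280,[],[]),(280,[44,41,44,44],[68,70]),(280,[44,56,44,44],[68,70])]),
  ([41,55,47,50], [(281,[],[]),(281,[56,56,44,44,56,44],[70]),(281,[56,56,44,56,44,44],[71])]),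
  ([37,41,55,47,50], [(282,[],[]),(282,[56,44,56,44,44],[68,71]),(282,[44,44,56,44],[67,70])]),
  ([38,41,55,47,50], [(283,[],[]),(283,[44,41,44,44],[68,70]),(283,[44,44,41,44,41],[67,71])]),
  ([56,47,50], [(284,[],[]),(284,[44,44,41,44,41,41],[70]),(284,[44,44,41,41,44,41],[71])]),
  ([37,56,47,50], [(285,[],[]),(285,[44,44,56,44],[]),(285,[56,44,56,44,44],[])]),
  ([38,56,47,50], [(286,[],[]),(286,[44,56,44,44],[]),(286,[44,41,44,44],[67,71])]),
  ([40,56,47,50], [(287,[],[]),(287,[56,56,44,56,44,44],[70]),(287,[56,56,44,44,56,44],[71])]),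
  ([37,40,56,47,50], [(288,[],[]),(288,[44,44,41,44],[67,70]),(288,[44,56,44,38,44],[71])]),
  ([38,40,56,47,50], [(289,[],[]),(289,[56,44,44,56,44],[67,71]),(289,[44,56,44,44],[68,70])]),
  ([41,56,47,50], [(290,[],[]),(290,[56,44,38,44,44],[70]),(290,[44,38,44,56,44],[67,70])]),
  ([37,41,56,47,50], [(291,[],[]),(291,[44,44,41,44],[67,70]),(291,[44,44,56,44],[67,70])]),
  ([38,41,56,47,50], [(292,[],[]),(292,[56,44,38,44,44],[70]),(292,[44,41,44,44],[67,71])]),
  ([58], [(293,[],[]),(293,[41],[]),(293,[41,41],[])]),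
  ([37,58], [(294,[],[]),(294,[41],[]),(294,[41,41],[])]),
  ([38,58], [(295,[],[]),(295,[41],[]),(295,[41,41],[])]),
  ([40,58], [(296,[],[]),(296,[41],[]),(296,[41,41],[])]),
  ([37,40,58], [(297,[],[]),(297,[41],[]),(297,[41,41],[])]),
  ([38,40,58], [(298,[],[]),(298,[41],[]),(298,[41,41],[])]),
  ([41,58], [(299,[],[]),(299,[41],[]),(299,[41,41],[])]),
  ([37,41,58], [(300,[],[]),(300,[41],[]),(300,[41,41],[])]),
  ([38,41,58], [(301,[],[]),(301,[41],[]),(301,[41,41],[])]),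
  ([46,58], [(302,[],[]),(456,[41],[71]),(419,[41,41],[70])]),
  ([40,46,58], [(303,[],[]),(303,[44,56,44,44,38],[68,71]),(303,[44,44,56,44,38],[67,70])]),
  ([37,40,46,58], [(304,[],[]),(304,[44,56,44,44],[67,71]),(304,[56,44,44,56,44],[68,70])]),
  ([38,40,46,58], [(305,[],[]),(305,[44,44,41,44],[]),(305,[44,44,56,44],[67,70])]),
  ([41,46,58], [(306,[],[]),(306,[44,44,56,44,38],[68,71]),(306,[44,56,44,44,38],[67,70])]),
  ([37,41,46,58], [(307,[],[]),(307,[44,41,44,44],[]),(307,[44,56,44,44],[68,70])]),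
  ([38,41,46,58], [(308,[],[]),(308,[44,44,56,44],[68,71]),(308,[56,44,56,44,44],[67,70])]),
  ([43,46,58], [(309,[],[]),(472,[41],[71]),(428,[41,41],[70])]),
  ([40,43,46,58], [(310,[],[]),(310,[41,38,38,44,38],[70]),(310,[56,56,44,44,56,44],[70])]),
  ([41,43,46,58], [(313,[],[]),(313,[56,56,44,44,56,44],[71]),(313,[56,56,44,56,44,44],[70])]),
  ([44,46,58], [(316,[],[]),(466,[41],[71]),(436,[41,41],[70])]),
  ([40,44,46,58], [(317,[],[]),(317,[56,56,44,56,44,44],[71]),(317,[56,56,44,44,56,44],[70])]),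
  ([41,44,46,58], [(320,[],[]),(320,[41,38,44,38,38],[71]),(320,[56,56,44,56,44,44],[70])]),
  ([47,58], [(323,[],[]),(422,[41],[70]),(459,[41,41],[71])])
]

theorem rows18_ok : rows18.all (chkRow 9) = true := by decide +kernel

end Cfsg.Lib.D4Three
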