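import Cfsg.Agent.Lib.D4Three.Check

/-! A part of the tree at level 9. -/

set_option autoImplicit false
set_option maxRecDepth 100000

namespace Cfsg.Lib.D4Three

def rows19 : List (List Nat × List (Nat × List Nat × List Nat)) := [
  ([40,47,58], [(324,[],[]),(324,[56,56,44,56,44,44],[70]),(324,[56,56,44,44,56,44],[71])]),
  ([37,40,47,58], [(325,[],[]),(325,[44,44,41,44],[]),(325,[44,44,56,44],[68,71])]),
  ([38,40,47,58], [(326,[],[]),(326,[44,56,44,44],[68,70]),(326,[56,44,44,56,44],[67,71])]),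
  ([41,47,58], [(327,[],[]),(327,[56,56,44,44,56,44],[70]),(327,[56,56,44,56,44,44],[71])]),
  ([37,41,47,58], [(328,[],[]),(328,[44,44,56,44],[67,70]),(328,[56,44,56,44,44],[68,71])]),
  ([38,41,47,58], [(329,[],[]),(329,[44,41,44,44],[]),(329,[44,56,44,44],[67,71])]),
  ([43,47,58], [(330,[],[]),(437,[41],[70]),(467,[41,41],[71])]),
  ([40,43,47,58], [(331,[],[]),(331,[41,38,44,38,38],[71]),(331,[56,56,44,44,56,44],[71])]),
  ([41,43,47,58], [(334,[],[]),(334,[56,56,44,44,56,44],[70]),(334,[56,56,44,56,44,44],[71])]),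
  ([44,47,58], [(337,[],[]),(431,[41],[70]),(475,[41,41],[71])]),
  ([40,44,47,58], [(338,[],[]),(338,[56,56,44,56,44,44],[70]),(338,[56,56,44,44,56,44],[71])]),
  ([41,44,47,58], [(341,[],[]),(341,[41,38,38,44,38],[70]),(341,[56,56,44,56,44,44],[71])]),
  ([49,58], [(344,[],[]),(344,[41],[]),(344,[56],[])]),
  ([37,49,58], [(345,[],[]),(345,[41],[]),(345,[56],[])]),
  ([38,49,58], [(346,[],[]),(346,[41],[]),(346,[56],[])]),
  ([46,49,58], [(353,[],[]),(353,[56,41,41,38],[67,70]),(353,[56,56,41,38,38],[67,71])]),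
  ([43,46,49,58], [(354,[],[]),(457,[41],[71]),(435,[41,41],[70])]),
  ([44,46,49,58], [(355,[],[]),(473,[41],[71]),(421,[41,41],[70])]),
  ([47,49,58], [(356,[],[]),(356,[56,41,41,38,38],[68,71]),(356,[56,56,41,38],[68,70])]),
  ([43,47,49,58], [(357,[],[]),(423,[41],[70]),(474,[41,41],[71])]),
  ([44,47,49,58], [(358,[],[]),(438,[41],[70]),(461,[41,41],[71])]),
  ([50,58], [(359,[],[]),(359,[56],[]),(359,[56,56],[])]),
  ([37,50,58], [(360,[],[]),(360,[56],[]),(360,[56,56],[])]),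
  ([38,50,58], [(361,[],[]),(361,[56],[]),(361,[56,56],[])]),
  ([46,50,58], [(368,[],[]),(368,[56,56,41,41,38,38],[68,70]),(368,[56,41,38],[68,71])]),
  ([43,46,50,58], [(369,[],[]),(465,[41],[71]),(420,[41,41],[70])]),
  ([44,46,50,58], [(370,[],[]),(458,[41],[71]),(429,[41,41],[70])]),
  ([47,50,58], [(371,[],[]),(371,[56,56,41,41,38],[67,71]),(371,[56,41,38,38],[67,70])]),
  ([43,47,50,58], [(372,[],[]),(430,[41],[70]),(460,[41,41],[71])]),
  ([44,47,50,58], [(373,[],[]),(424,[41],[70]),(468,[41,41],[71])]),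
  ([59], [(374,[],[]),(374,[41,41],[]),(374,[41],[])]),
  ([37,59], [(375,[],[]),(375,[41,41],[]),(375,[41],[])]),
  ([38,59], [(376,[],[]),(376,[41,41],[]),(376,[41],[])]),
  ([40,59], [(377,[],[]),(377,[41,41],[]),(377,[41],[])]),
  ([37,40,59], [(378,[],[]),(378,[41,41],[]),(378,[41],[])]),
  ([38,40,59], [(379,[],[]),(379,[41,41],[]),(379,[41],[])]),
  ([41,59], [(380,[],[]),(380,[41,41],[]),(380,[41],[])]),
  ([37,41,59], [(381,[],[]),(381,[41,41],[]),(381,[41],[])]),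
  ([38,41,59], [(382,[],[]),(382,[41,41],[]),(382,[41],[])]),
  ([46,59], [(383,[],[]),(440,[41,41],[71]),(477,[41],[70])]),
  ([40,46,59], [(384,[],[]),(384,[56,56,44,56,44,44],[71]),(384,[56,56,44,44,56,44],[70])]),
  ([37,40,46,59], [(385,[],[]),(385,[44,56,44,44],[67,71]),(385,[44,41,44,44],[])]),
  ([38,40,46,59], [(386,[],[]),(386,[56,44,56,44,44],[68,71]),(386,[44,44,56,44],[67,70])]),
  ([41,46,59], [(387,[],[]),(387,[56,56,44,44,56,44],[71]),(387,[56,56,44,56,44,44],[70])]),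
  ([37,41,46,59], [(388,[],[]),(388,[56,44,44,56,44],[67,71]),(388,[44,56,44,44],[68,70])]),
  ([38,41,46,59], [(389,[],[]),(389,[44,44,56,44],[68,71]),(389,[44,44,41,44],[])]),
  ([47,59], [(390,[],[]),(478,[41,41],[70]),(441,[41],[71])]),
  ([40,47,59], [(391,[],[]),(391,[44,56,44,44,38],[68,70]),(391,[44,44,56,44,38],[67,71])]),
  ([37,40,47,59], [(392,[],[]),(392,[56,44,56,44,44],[67,70]),(392,[44,44,56,44],[68,71])]),
  ([38,40,47,59], [(393,[],[]),(393,[44,56,44,44],[68,70]),(393,[44,41,44,44],[])]),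
  ([41,47,59], [(394,[],[]),(394,[44,44,56,44,38],[68,70]),(394,[44,56,44,44,38],[67,71])]),
  ([37,41,47,59], [(395,[],[]),(395,[44,44,56,44],[67,70]),(395,[44,44,41,44],[])]),
  ([38,41,47,59], [(396,[],[]),(396,[56,44,44,56,44],[68,70]),(396,[44,56,44,44],[67,71])]),
  ([49,59], [(397,[],[]),(397,[56,56],[]),(397,[56],[])]),
  ([37,49,59], [(398,[],[]),(398,[56,56],[]),(398,[56],[])]),
  ([38,49,59], [(399,[],[]),(399,[56,56],[]),(399,[56],[])]),
  ([46,49,59], [(400,[],[]),(400,[56,41,38,38],[68,70]),(400,[56,56,41,41,38],[68,71])]),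
  ([47,49,59], [(401,[],[]),(401,[56,41,38],[67,71]),(401,[56,56,41,41,38,38],[67,70])]),
  ([50,59], [(402,[],[]),(402,[56],[]),(402,[41],[])]),
  ([37,50,59], [(403,[],[]),(403,[56],[]),(403,[41],[])]),
  ([38,50,59], [(404,[],[]),(404,[56],[]),(404,[41],[])]),
  ([46,50,59], [(405,[],[]),(405,[56,56,41,38],[67,70]),(405,[56,41,41,38,38],[67,71])]),
  ([47,50,59], [(406,[],[]),(406,[56,56,41,38,38],[68,71]),(406,[56,41,41,38],[68,70])]),
  ([52], [(407,[],[]),(516,[],[]),(529,[],[])]),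
  ([55,52], [(408,[],[]),(408,[44,41,44,44],[]),(408,[44,44,41,44],[])]),
  ([40,55,52], [(411,[],[]),(411,[44,56,44,44],[67,71]),(411,[44,44,56,44],[67,70])]),
  ([41,55,52], [(412,[],[]),(412,[44,44,56,44],[67,70]),(412,[44,56,44,44],[67,71])]),
  ([56,52], [(413,[],[]),(413,[44,44,41,44],[]),(413,[44,41,44,44],[])]),
  ([40,56,52], [(416,[],[]),(416,[44,56,44,44],[67,71]),(416,[44,44,56,44],[67,70])]),
  ([41,56,52], [(417,[],[]),(417,[44,44,56,44],[67,70]),(417,[44,56,44,44],[67,71])]),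
  ([58,52], [(418,[],[]),(418,[41],[]),(418,[41,41],[])]),
  ([49,58,52], [(425,[],[]),(425,[41],[]),(425,[56],[67])]),
  ([50,58,52], [(432,[],[]),(432,[56],[67]),(432,[56,56],[68])]),
  ([59,52], [(439,[],[]),(439,[41,41],[]),(439,[41],[])]),
  ([49,59,52], [(442,[],[]),(442,[56,56],[68]),(442,[56],[67])]),
  ([50,59,52], [(443,[],[]),(443,[56],[67]),(443,[41],[])]),
  ([53], [(444,[],[]),(517,[],[]),(530,[],[])]),
  ([55,53], [(445,[],[]),(445,[44,41,44,44],[]),(445,[44,44,41,44],[])]),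
  ([40,55,53], [(448,[],[]),(448,[44,56,44,44],[68,70]),(448,[44,44,56,44],[68,71])]),
  ([41,55,53], [(449,[],[]),(449,[44,44,56,44],[68,71]),(449,[44,56,44,44],[68,70])]),
  ([56,53], [(450,[],[]),(450,[44,44,41,44],[]),(450,[44,41,44,44],[])]),
  ([40,56,53], [(453,[],[]),(453,[44,56,44,44],[68,70]),(453,[44,44,56,44],[68,71])]),
  ([41,56,53], [(454,[],[]),(454,[44,44,56,44],[68,71]),(454,[44,56,44,44],[68,70])]),
  ([58,53], [(455,[],[]),(455,[41],[]),(455,[41,41],[])]),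
  ([49,58,53], [(462,[],[]),(462,[41],[]),(462,[56],[68])]),
  ([50,58,53], [(469,[],[]),(469,[56],[68]),(469,[56,56],[67])]),
  ([59,53], [(476,[],[]),(476,[41,41],[]),(476,[41],[])]),
  ([49,59,53], [(479,[],[]),(479,[56,56],[67]),(479,[56],[68])]),
  ([50,59,53], [(480,[],[]),(480,[56],[68]),(480,[41],[])]),
  ([61], [(481,[],[]),(518,[],[]),(531,[],[])]),
  ([40,61], [(482,[],[]),(482,[44,56,44,44],[]),(482,[44,44,56,44],[])]),
  ([41,61], [(485,[],[]),(485,[44,44,56,44],[]),(485,[44,56,44,44],[])]),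
  ([49,61], [(488,[],[]),(488,[56,56],[]),(488,[56],[])]),
  ([50,61], [(491,[],[]),(491,[56],[]),(491,[56,56],[])]),
  ([52,61], [(494,[],[]),(519,[],[]),(532,[],[])]),
  ([53,61], [(495,[],[]),(520,[],[]),(533,[],[])]),
  ([62], [(496,[],[]),(521,[],[]),(534,[],[])]),
  ([40,62], [(497,[],[]),(497,[44,56,44,44],[]),(497,[44,44,56,44],[])]),
  ([41,62], [(500,[],[]),(500,[44,44,56,44],[]),(500,[44,56,44,44],[])]),
  ([49,62], [(503,[],[]),(503,[56,56],[]),(503,[56],[])])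
]

theorem rows19_ok : rows19.all (chkRow 9) = true := by decide +kernel

end Cfsg.Lib.D4Three
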