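import Cfsg.Agent.Lib.D4Three.Check

/-! A part of the tree at level 2. -/

set_option autoImplicit false
set_option maxRecDepth 100000

namespace Cfsg.Lib.D4Three

def rows2 : List (List Nat × List (Nat × List Nat × List Nat)) := [
  ([], [(0,[],[]),(9,[],[]),(18,[],[])]),
  ([37], [(1,[],[]),(10,[],[]),(19,[],[])]),
  ([38], [(2,[],[]),(11,[],[]),(20,[],[])]),
  ([40], [(3,[],[]),(12,[],[]),(21,[],[])]),
  ([37,40], [(4,[],[]),(13,[],[]),(22,[],[])]),
  ([38,40], [(5,[],[]),(14,[],[]),(23,[],[])]),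
  ([41], [(6,[],[]),(15,[],[]),(24,[],[])]),
  ([37,41], [(7,[],[]),(16,[],[]),(25,[],[])]),
  ([38,41], [(8,[],[]),(17,[],[]),(26,[],[])])
]

theorem rows2_ok : rows2.all (chkRow 2) = true := by decide +kernel

end Cfsg.Lib.D4Three
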