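import Cfsg.Agent.Lib.D4Three.Check

/-! A part of the tree at level 9. -/

set_option autoImplicit false
set_option maxRecDepth 100000

namespace Cfsg.Lib.D4Three

def rows20 : List (List Nat × List (Nat × List Nat × List Nat)) := [
  ([50,62], [(506,[],[]),(506,[56],[]),(506,[56,56],[])]),
  ([52,62], [(509,[],[]),(522,[],[]),(535,[],[])]),
  ([53,62], [(510,[],[]),(523,[],[]),(536,[],[])])
]

theorem rows20_ok : rows20.all (chkRow 9) = true := by decide +kernel

end Cfsg.Lib.D4Three
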