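import Cfsg.Agent.Lib.D4Three.Check

/-! A part of the tree at level 10. -/

set_option autoImplicit false
set_option maxRecDepth 100000

namespace Cfsg.Lib.D4Three

def rows21 : List (List Nat × List (Nat × List Nat × List Nat)) := [
  ([], [(0,[],[]),(697,[],[]),(698,[],[])]),
  ([37], [(1,[],[]),(1,[44,56,56,41,44,56,56,41,44],[]),(1,[44,56,41,44,56,41,44],[])]),
  ([38], [(2,[],[]),(2,[44,56,41,44,56,41,44],[]),(2,[44,56,56,41,44,56,56,41,44],[])]),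
  ([40], [(3,[],[]),(3,[44,56,56,38,44,56,56,38,44],[]),(3,[44,56,38,44,56,38,44],[])]),
  ([37,40], [(4,[],[]),(4,[44,56,56,41,44,56,56,41,44],[]),(4,[44,56,41,44,56,41,44],[])]),
  ([38,40], [(5,[],[]),(5,[44,56,41,44,56,41,44],[]),(5,[44,56,38,44,56,38,44],[])]),
  ([41], [(6,[],[]),(6,[44,56,38,44,56,38,44],[]),(6,[44,56,56,38,44,56,56,38,44],[])]),
  ([37,41], [(7,[],[]),(7,[44,56,38,44,56,38,44],[]),(7,[44,56,41,44,56,41,44],[])]),
  ([38,41], [(8,[],[]),(8,[44,56,41,44,56,41,44],[]),(8,[44,56,56,41,44,56,56,41,44],[])]),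
  ([43], [(9,[],[]),(634,[56,56,41,38],[71]),(617,[56,41,41,38,38],[70])]),
  ([37,43], [(10,[],[]),(10,[56,56,44,41,44,44,56,44,41,41,38],[]),(10,[56,44,56,41,44,56,41,44,41],[71])]),
  ([38,43], [(11,[],[]),(11,[56,44,56,41,44,56,41,44,41],[70]),(11,[56,56,44,56,56,41,44,56,56,41,44,41],[71])]),
  ([40,43], [(12,[],[]),(12,[56,56,44,41,38,44,44,56,44,38,38],[70]),(12,[56,44,56,38,44,56,38,44,38],[71])]),
  ([37,40,43], [(13,[],[]),(13,[56,56,44,41,44,44,56,44,38],[]),(13,[56,56,44,44,41,44,56,38,44],[])]),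
  ([38,40,43], [(14,[],[]),(14,[56,38,44,56,41,44,56,41],[70]),(14,[56,44,56,41,41,44,56,38],[70])]),
  ([41,43], [(15,[],[]),(15,[56,44,56,38,44,56,38,44,38],[70]),(15,[56,56,44,56,56,38,44,56,56,38,44,38],[71])]),
  ([37,41,43], [(16,[],[]),(16,[56,41,44,56,38,44,56,38],[70]),(16,[56,44,56,41,44,56,38,38],[70])]),
  ([38,41,43], [(17,[],[]),(17,[56,44,56,41,44,56,38],[71]),(17,[56,56,44,56,56,41,44,56,56,38],[70])]),
  ([44], [(18,[],[]),(656,[56,41,38],[70]),(650,[56,56,41,41,38,38],[71])]),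
  ([37,44], [(19,[],[]),(19,[56,56,44,56,56,41,44,56,56,41,44,41],[71]),(19,[56,44,56,41,44,56,41,44,41],[70])]),
  ([38,44], [(20,[],[]),(20,[56,44,56,41,44,56,41,44,41],[71]),(20,[56,56,44,41,44,44,56,44,41,41,38],[71])]),
  ([40,44], [(21,[],[]),(21,[56,56,44,56,56,38,44,56,56,38,44,38],[71]),(21,[56,44,56,38,44,56,38,44,38],[70])]),
  ([37,40,44], [(22,[],[]),(22,[56,56,44,44,41,38,44,56,44,44],[70]),(22,[56,41,44,56,38,44,56],[70])]),
  ([38,40,44], [(23,[],[]),(23,[56,41,44,56,38,38,44,56],[71]),(23,[56,38,44,56,38,44,56,41],[])]),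
  ([41,44], [(24,[],[]),(24,[56,44,56,38,44,56,38,44,38],[71]),(24,[56,56,44,41,38,44,44,56,44,38,38],[70])]),
  ([37,41,44], [(25,[],[]),(25,[56,41,41,44,56,38,44,56],[71]),(25,[56,41,44,56,41,44,56,38],[])]),
  ([38,41,44], [(26,[],[]),(26,[56,56,44,44,41,44,56,44,38],[70]),(26,[56,44,44,56,44,41,38,44,56],[])]),
  ([55], [(27,[],[]),(27,[44,41,44,44,38,44,44,41,44],[]),(27,[44,41,38,44,41,38,44],[])]),
  ([37,55], [(28,[],[]),(28,[44,56,56,41,44,56,56,41,44],[]),(28,[44,56,41,44,56,41,44],[])]),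
  ([38,55], [(29,[],[]),(29,[44,56,41,44,56,41,44],[]),(29,[44,41,38,44,41,38,44],[])]),
  ([40,55], [(30,[],[]),(30,[44,56,56,38,44,56,56,38,44],[]),(30,[44,56,38,44,56,38,44],[])]),
  ([37,40,55], [(31,[],[]),(31,[44,56,56,41,44,56,56,41,44],[]),(31,[44,56,41,44,56,41,44],[])]),
  ([38,40,55], [(32,[],[]),(32,[44,56,41,44,56,41,44],[]),(32,[44,56,38,44,56,38,44],[])]),
  ([41,55], [(33,[],[]),(33,[44,56,38,44,56,38,44],[]),(33,[44,41,38,44,41,38,44],[])]),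
  ([37,41,55], [(34,[],[]),(34,[44,56,38,44,56,38,44],[]),(34,[44,56,41,44,56,41,44],[])]),
  ([38,41,55], [(35,[],[]),(35,[44,56,41,44,56,41,44],[]),(35,[44,41,38,44,41,38,44],[])]),
  ([43,55], [(36,[],[]),(36,[56,41,44,44,38,44,41,41,38,44,38],[]),(36,[44,41,38,44,41,38,44,41,38],[])]),
  ([37,43,55], [(37,[],[]),(37,[56,41,44,56,41,38,44,41,38],[70]),(37,[56,56,41,38,44,41,38,44,41],[])]),
  ([38,43,55], [(38,[],[]),(38,[56,41,38,44,56,41,44,41],[70]),(38,[56,41,44,41,38,44,56,41],[70])]),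
  ([40,43,55], [(39,[],[]),(39,[56,38,44,56,41,38,44,41,38],[70]),(39,[56,56,41,38,44,41,38,44,38],[])]),
  ([37,40,43,55], [(40,[],[]),(40,[44,41,44,44,56,44,38],[]),(40,[44,41,38,44,44,56,44],[70])]),
  ([38,40,43,55], [(41,[],[]),(41,[56,38,44,56,41,44,41],[70]),(41,[56,38,44,41,44,38,44,44],[])]),
  ([41,43,55], [(42,[],[]),(42,[56,41,38,44,56,38,44,38],[70]),(42,[56,38,44,41,38,44,56,38],[70])]),
  ([37,41,43,55], [(43,[],[]),(43,[56,41,44,56,38,44,38],[70]),(43,[56,41,44,38,44,41,44,44],[])]),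
  ([38,41,43,55], [(44,[],[]),(44,[56,44,56,44,44,41,38,44,44],[]),(44,[56,44,44,41,38,44,41,38,44],[])]),
  ([44,55], [(45,[],[]),(45,[56,56,41,44,44,38,44,41,41,38,44,38],[]),(45,[56,41,38,44,41,38,44,41,38],[])]),
  ([37,44,55], [(46,[],[]),(46,[41,44,56,41,38,44,41],[]),(46,[56,44,56,41,44,56,41,44,41],[70])]),
  ([38,44,55], [(47,[],[]),(47,[41,38,44,56,41,44,41,38],[70]),(47,[56,41,38,44,41,38,44,41],[])]),
  ([40,44,55], [(48,[],[]),(48,[38,44,56,41,38,44,38],[]),(48,[56,44,56,38,44,56,38,44,38],[70])]),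
  ([37,40,44,55], [(49,[],[]),(49,[44,44,41,38,44,56,44,44],[70]),(49,[44,44,41,44,56,44,44,38],[])]),
  ([38,40,44,55], [(50,[],[]),(50,[56,44,56,41,44,56,41,44,41],[71]),(50,[56,56,38,44,56,38,44,56,41],[])]),
  ([41,44,55], [(51,[],[]),(51,[41,38,44,56,38,44,41,38],[70]),(51,[56,41,38,44,41,38,44,38],[])]),
  ([37,41,44,55], [(52,[],[]),(52,[56,44,56,38,44,56,38,44,38],[71]),(52,[56,56,41,44,56,41,44,56,38],[])]),
  ([38,41,44,55], [(53,[],[]),(53,[56,41,44,44,56,44,38,44],[71]),(53,[56,41,38,44,41,38,44],[])]),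
  ([56], [(54,[],[]),(54,[44,41,38,44,41,38,44],[]),(54,[44,41,44,44,38,44,44,41,44],[])]),
  ([37,56], [(55,[],[]),(55,[44,41,38,44,41,38,44],[]),(55,[44,56,41,44,56,41,44],[])]),
  ([38,56], [(56,[],[]),(56,[44,56,41,44,56,41,44],[]),(56,[44,56,56,41,44,56,56,41,44],[])]),
  ([40,56], [(57,[],[]),(57,[44,41,38,44,41,38,44],[]),(57,[44,56,38,44,56,38,44],[])]),
  ([37,40,56], [(58,[],[]),(58,[44,41,38,44,41,38,44],[]),(58,[44,56,41,44,56,41,44],[])]),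
  ([38,40,56], [(59,[],[]),(59,[44,56,41,44,56,41,44],[]),(59,[44,56,38,44,56,38,44],[])]),
  ([41,56], [(60,[],[]),(60,[44,56,38,44,56,38,44],[]),(60,[44,56,56,38,44,56,56,38,44],[])]),
  ([37,41,56], [(61,[],[]),(61,[44,56,38,44,56,38,44],[]),(61,[44,56,41,44,56,41,44],[])]),
  ([38,41,56], [(62,[],[]),(62,[44,56,41,44,56,41,44],[]),(62,[44,56,56,41,44,56,56,41,44],[])]),
  ([43,56], [(63,[],[]),(63,[56,41,38,44,41,38,44,41,38],[]),(63,[56,56,41,44,44,38,44,41,41,38,44,38],[])]),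
  ([37,43,56], [(64,[],[]),(64,[56,41,38,44,41,38,44,41],[]),(64,[41,38,44,56,41,44,41,38],[])]),
  ([38,43,56], [(65,[],[]),(65,[56,44,56,41,44,56,41,44,41],[70]),(65,[41,44,56,41,38,44,41],[71])]),
  ([40,43,56], [(66,[],[]),(66,[56,41,38,44,41,38,44,38],[]),(66,[41,38,44,56,38,44,41,38],[])]),
  ([37,40,43,56], [(67,[],[]),(67,[44,41,38,44,56,41,38],[70]),(67,[56,44,41,38,44,44,56,44],[70])]),
  ([38,40,43,56], [(68,[],[]),(68,[56,56,38,44,41,44,38,44,44],[]),(68,[56,56,38,44,56,56,41,44,41],[71])]),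
  ([41,43,56], [(69,[],[]),(69,[56,44,56,38,44,56,38,44,38],[70]),(69,[38,44,56,41,38,44,38],[71])]),
  ([37,41,43,56], [(70,[],[]),(70,[56,56,41,44,38,44,41,44,44],[]),(70,[56,56,41,44,56,56,38,44,38],[71])]),
  ([38,41,43,56], [(71,[],[]),(71,[41,44,44,56,44,38,44,44],[70]),(71,[44,44,56,44,41,38,44,44],[])]),
  ([44,56], [(72,[],[]),(72,[44,41,38,44,41,38,44,41,38],[]),(72,[56,41,44,44,38,44,41,41,38,44,38],[])]),
  ([37,44,56], [(73,[],[]),(73,[56,41,44,41,38,44,56,41],[71]),(73,[56,41,38,44,56,41,44,41],[70])]),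
  ([38,44,56], [(74,[],[]),(74,[56,56,41,38,44,41,38,44,41],[]),(74,[56,41,44,56,41,38,44,41,38],[])]),
  ([40,44,56], [(75,[],[]),(75,[56,38,44,41,38,44,56,38],[71]),(75,[56,41,38,44,56,38,44,38],[70])]),
  ([37,40,44,56], [(76,[],[]),(76,[56,44,44,41,38,44,56,44,44],[70]),(76,[56,44,56,41,44,56,41,44,41],[70])]),
  ([38,40,44,56], [(77,[],[]),(77,[44,44,41,44,38,44,56,41],[71]),(77,[38,44,56,38,44,56,41],[])]),
  ([41,44,56], [(78,[],[]),(78,[56,56,41,38,44,41,38,44,38],[]),(78,[56,38,44,56,41,38,44,41,38],[])]),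
  ([37,41,44,56], [(79,[],[]),(79,[44,44,38,44,41,44,56,38],[71]),(79,[41,44,56,41,44,56,38],[])]),
  ([38,41,44,56], [(80,[],[]),(80,[44,56,44,44,41,38,44],[]),(80,[41,44,56,44,44,38,44],[70])]),
  ([46], [(81,[],[]),(554,[56,41],[]),(549,[56,41,41],[])]),
  ([40,46], [(82,[],[]),(82,[56,56,44,41,38,44,44,56],[70]),(82,[56,44,56,41,38,44,56,44],[71])]),
  ([37,40,46], [(83,[],[]),(83,[56,56,44,41,44,44,56],[70]),(83,[56,44,56,41,44,56,44],[71])]),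
  ([38,40,46], [(84,[],[]),(84,[56,56,44,44,41,44,56],[71]),(84,[56,44,44,41,44,56,56],[70])]),
  ([41,46], [(85,[],[]),(85,[56,56,44,44,41,38,44,56],[71]),(85,[56,44,44,41,38,44,56,56],[70])]),
  ([37,41,46], [(86,[],[]),(86,[56,56,44,41,44,44,56],[70]),(86,[56,44,56,41,44,56,44],[71])]),
  ([38,41,46], [(87,[],[]),(87,[56,56,44,44,41,44,56],[71]),(87,[56,44,44,41,44,56,56],[70])]),
  ([55,46], [(88,[],[]),(88,[56,41,41,44,38,44,44,41],[]),(88,[56,41,44,41,38,44,41,44],[])]),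
  ([37,55,46], [(89,[],[]),(89,[41,41,44,56,44,44,41],[70]),(89,[41,44,56,44,44,41,41],[71])]),
  ([38,55,46], [(90,[],[]),(90,[44,41,44,56,41,44,41],[71]),(90,[41,44,44,56,44,41,41],[70])]),
  ([40,55,46], [(91,[],[]),(91,[56,41,44,38,44,44],[]),(91,[56,44,38,44,44,41],[])]),
  ([37,40,55,46], [(92,[],[]),(92,[56,41,44,38,44,44],[]),(92,[56,44,41,44,56,44],[71])]),
  ([38,40,55,46], [(93,[],[]),(93,[56,41,44,38,44,44],[]),(93,[56,44,38,44,44,41],[])]),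
  ([41,55,46], [(94,[],[]),(94,[56,44,41,38,44,41,44],[]),(94,[56,56,44,44,38,44,41],[])]),
  ([37,41,55,46], [(95,[],[]),(95,[56,44,41,41,44,56,44],[70]),(95,[56,56,44,44,38,44,41],[])]),
  ([38,41,55,46], [(96,[],[]),(96,[56,44,41,38,44,41,44],[]),(96,[56,56,44,44,38,44,41],[])]),
  ([40,43,55,46], [(97,[],[]),(97,[56,56,44,38,44,41,41,38,38],[]),(97,[56,38,38,44,41,38],[])]),
  ([41,43,55,46], [(98,[],[]),(98,[56,38,38,44,41,41,38],[]),(98,[56,56,44,38,44,41,38,38],[])]),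
  ([40,44,55,46], [(99,[],[]),(99,[44,56,41,38,38,44,38],[70]),(99,[56,44,38,38,44,41,38],[])])
]

theorem rows21_ok : rows21.all (chkRow 10) = true := by decide +kernel

end Cfsg.Lib.D4Three
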