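import Cfsg.Agent.Lib.D4Three.Check

/-! A part of the tree at level 10. -/

set_option autoImplicit false
set_option maxRecDepth 100000

namespace Cfsg.Lib.D4Three

def rows22 : List (List Nat × List (Nat × List Nat × List Nat)) := [
  ([41,44,55,46], [(100,[],[]),(100,[56,44,38,38,44,41,41,38],[]),(100,[56,56,38,44,41,38,38],[])]),
  ([56,46], [(101,[],[]),(101,[56,44,41,44,41,38,44,41],[]),(101,[56,41,44,44,38,44,41,41],[])]),
  ([37,56,46], [(102,[],[]),(102,[41,41,44,56,44,44,41],[70]),(102,[41,44,56,44,44,41,41],[71])]),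
  ([38,56,46], [(103,[],[]),(103,[44,41,44,56,41,44,41],[71]),(103,[41,44,44,56,44,41,41],[70])]),
  ([40,56,46], [(104,[],[]),(104,[56,56,44,38,44,44,41],[]),(104,[56,56,41,44,38,44,44],[])]),
  ([37,40,56,46], [(105,[],[]),(105,[56,56,44,38,44,44,41],[]),(105,[56,56,41,44,38,44,44],[])]),
  ([38,40,56,46], [(106,[],[]),(106,[56,56,44,38,44,44,41],[]),(106,[56,56,41,44,38,44,44],[])]),
  ([41,56,46], [(107,[],[]),(107,[56,44,44,38,44,41],[]),(107,[44,44,38,44,56,41],[])]),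
  ([37,41,56,46], [(108,[],[]),(108,[56,44,44,38,44,41],[]),(108,[56,44,41,44,56,44],[71])]),
  ([38,41,56,46], [(109,[],[]),(109,[56,44,44,38,44,41],[]),(109,[44,44,38,44,56,41],[])]),
  ([40,43,56,46], [(110,[],[]),(110,[56,56,38,38,44,41,38],[]),(110,[56,44,38,44,41,41,38,38],[])]),
  ([41,43,56,46], [(111,[],[]),(111,[56,44,38,44,41,38,38],[]),(111,[38,44,56,41,38,38,44],[])]),
  ([40,44,56,46], [(112,[],[]),(112,[56,56,44,38,38,44,41,38],[]),(112,[56,38,44,41,41,38,38],[])]),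
  ([41,44,56,46], [(113,[],[]),(113,[56,38,44,41,38,38],[]),(113,[56,56,44,38,38,44,41,41,38],[])]),
  ([47], [(114,[],[]),(550,[56,56,41],[]),(555,[56,56,41,41],[])]),
  ([40,47], [(115,[],[]),(115,[56,44,44,41,38,44,56,56],[71]),(115,[56,56,44,44,41,38,44,56],[70])]),
  ([37,40,47], [(116,[],[]),(116,[56,44,44,41,44,56,56],[71]),(116,[56,56,44,44,41,44,56],[70])]),
  ([38,40,47], [(117,[],[]),(117,[56,44,56,41,44,56,44],[70]),(117,[56,56,44,41,44,44,56],[71])]),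
  ([41,47], [(118,[],[]),(118,[56,44,56,41,38,44,56,44],[70]),(118,[56,56,44,41,38,44,44,56],[71])]),
  ([37,41,47], [(119,[],[]),(119,[56,44,44,41,44,56,56],[71]),(119,[56,56,44,44,41,44,56],[70])]),
  ([38,41,47], [(120,[],[]),(120,[56,44,56,41,44,56,44],[70]),(120,[56,56,44,41,44,44,56],[71])]),
  ([55,47], [(121,[],[]),(121,[56,41,44,44,38,44,41,41],[]),(121,[56,44,41,44,41,38,44,41],[])]),
  ([37,55,47], [(122,[],[]),(122,[41,44,44,56,44,41,41],[71]),(122,[44,41,44,56,41,44,41],[70])]),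
  ([38,55,47], [(123,[],[]),(123,[41,44,56,44,44,41,41],[70]),(123,[41,41,44,56,44,44,41],[71])]),
  ([40,55,47], [(124,[],[]),(124,[56,44,44,38,44,41],[]),(124,[56,41,44,44,38,44],[])]),
  ([37,40,55,47], [(125,[],[]),(125,[56,44,44,38,44,41],[]),(125,[56,41,44,44,38,44],[])]),
  ([38,40,55,47], [(126,[],[]),(126,[56,44,44,38,44,41],[]),(126,[56,41,44,44,38,44],[])]),
  ([41,55,47], [(127,[],[]),(127,[56,56,44,38,44,44,41],[]),(127,[56,44,44,38,44,41,41],[])]),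
  ([37,41,55,47], [(128,[],[]),(128,[56,56,44,38,44,44,41],[]),(128,[56,44,44,38,44,41,41],[])]),
  ([38,41,55,47], [(129,[],[]),(129,[56,56,44,38,44,44,41],[]),(129,[56,44,44,38,44,41,41],[])]),
  ([40,43,55,47], [(130,[],[]),(130,[56,38,44,41,38,38],[]),(130,[56,56,44,38,38,44,41,41,38],[])]),
  ([41,43,55,47], [(131,[],[]),(131,[56,56,44,38,38,44,41,38],[]),(131,[56,38,44,41,41,38,38],[])]),
  ([40,44,55,47], [(132,[],[]),(132,[56,44,38,44,41,38,38],[]),(132,[44,56,41,38,44,38,38],[71])]),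
  ([41,44,55,47], [(133,[],[]),(133,[56,56,38,38,44,41,38],[]),(133,[56,44,38,44,41,41,38,38],[])]),
  ([56,47], [(134,[],[]),(134,[56,41,44,41,38,44,41,44],[]),(134,[56,41,41,44,38,44,44,41],[])]),
  ([37,56,47], [(135,[],[]),(135,[41,44,44,56,44,41,41],[71]),(135,[44,41,44,56,41,44,41],[70])]),
  ([38,56,47], [(136,[],[]),(136,[41,44,56,44,44,41,41],[70]),(136,[41,41,44,56,44,44,41],[71])]),
  ([40,56,47], [(137,[],[]),(137,[56,56,41,44,44,38,44],[]),(137,[56,56,44,44,38,44,41],[])]),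
  ([37,40,56,47], [(138,[],[]),(138,[56,56,41,44,44,38,44],[]),(138,[56,56,44,44,38,44,41],[])]),
  ([38,40,56,47], [(139,[],[]),(139,[56,56,41,44,44,38,44],[]),(139,[56,56,44,44,38,44,41],[])]),
  ([41,56,47], [(140,[],[]),(140,[44,56,38,44,41,44],[71]),(140,[56,44,38,44,44,41],[])]),
  ([37,41,56,47], [(141,[],[]),(141,[44,38,44,44,56,41],[]),(141,[56,44,38,44,44,41],[])]),
  ([38,41,56,47], [(142,[],[]),(142,[56,44,41,44,56,44],[70]),(142,[56,44,38,44,44,41],[])]),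
  ([40,43,56,47], [(143,[],[]),(143,[56,44,38,38,44,41,41,38],[]),(143,[56,56,38,44,41,38,38],[])]),
  ([41,43,56,47], [(144,[],[]),(144,[38,38,44,56,41,38,44],[]),(144,[56,44,38,38,44,41,38],[])]),
  ([40,44,56,47], [(145,[],[]),(145,[56,38,38,44,41,41,38],[]),(145,[56,56,44,38,44,41,38,38],[])]),
  ([41,44,56,47], [(146,[],[]),(146,[56,56,44,38,44,41,41,38,38],[]),(146,[56,38,38,44,41,38],[])]),
  ([49], [(147,[],[]),(596,[56,38],[]),(591,[56,38,38],[])]),
  ([37,49], [(148,[],[]),(148,[56,56,44,41,44,44,56,38],[]),(148,[56,44,56,41,44,56,44,38],[])]),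
  ([38,49], [(149,[],[]),(149,[56,56,44,44,41,44,56,38],[]),(149,[56,44,44,41,44,56,56,38],[])]),
  ([55,49], [(150,[],[]),(150,[56,38,38,44,41,44,44,38],[]),(150,[56,38,44,41,44,44,38,38],[])]),
  ([37,55,49], [(151,[],[]),(151,[56,38,44,41,44,44],[]),(151,[56,44,41,44,44,38],[])]),
  ([38,55,49], [(152,[],[]),(152,[56,44,41,44,44,38,38],[]),(152,[56,56,44,44,41,44,38],[])]),
  ([40,55,49], [(153,[],[]),(153,[38,38,44,56,44,44,38],[70]),(153,[38,44,56,44,44,38,38],[71])]),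
  ([37,40,55,49], [(154,[],[]),(154,[56,38,44,41,44,44],[]),(154,[56,44,41,44,44,38],[])]),
  ([38,40,55,49], [(155,[],[]),(155,[56,44,41,44,44,38,38],[]),(155,[56,56,44,44,41,44,38],[])]),
  ([41,55,49], [(156,[],[]),(156,[44,38,44,56,38,44,38],[71]),(156,[38,44,44,56,44,38,38],[70])]),
  ([37,41,55,49], [(157,[],[]),(157,[56,38,44,41,44,44],[]),(157,[56,44,41,44,44,38],[])]),
  ([38,41,55,49], [(158,[],[]),(158,[56,44,41,44,44,38,38],[]),(158,[56,56,44,44,41,44,38],[])]),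
  ([37,43,55,49], [(159,[],[]),(159,[56,56,44,41,44,41,41,38,38],[]),(159,[56,41,41,44,41,38],[])]),
  ([38,43,55,49], [(160,[],[]),(160,[56,41,41,44,41,38,38],[]),(160,[56,56,44,41,44,41,41,38],[])]),
  ([37,44,55,49], [(161,[],[]),(161,[44,56,41,41,38,44,41],[70]),(161,[56,44,41,41,44,41,38],[])]),
  ([38,44,55,49], [(162,[],[]),(162,[56,44,41,41,44,41,38,38],[]),(162,[56,56,41,44,41,41,38],[])]),
  ([56,49], [(163,[],[]),(163,[56,44,38,44,41,38,44,38],[]),(163,[56,38,44,44,41,44,38,38],[])]),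
  ([37,56,49], [(164,[],[]),(164,[56,56,44,41,44,44,38],[]),(164,[56,56,38,44,41,44,44],[])]),
  ([38,56,49], [(165,[],[]),(165,[56,44,44,41,44,38],[]),(165,[44,44,41,44,56,38],[])]),
  ([40,56,49], [(166,[],[]),(166,[38,38,44,56,44,44,38],[70]),(166,[38,44,56,44,44,38,38],[71])]),
  ([37,40,56,49], [(167,[],[]),(167,[56,56,44,41,44,44,38],[]),(167,[56,56,38,44,41,44,44],[])]),
  ([38,40,56,49], [(168,[],[]),(168,[56,44,44,41,44,38],[]),(168,[56,44,38,44,56,44],[71])]),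
  ([41,56,49], [(169,[],[]),(169,[44,38,44,56,38,44,38],[71]),(169,[38,44,44,56,44,38,38],[70])]),
  ([37,41,56,49], [(170,[],[]),(170,[56,56,44,41,44,44,38],[]),(170,[56,56,38,44,41,44,44],[])]),
  ([38,41,56,49], [(171,[],[]),(171,[56,44,44,41,44,38],[]),(171,[44,44,41,44,56,38],[])]),
  ([37,43,56,49], [(172,[],[]),(172,[56,56,41,41,44,41,38],[]),(172,[56,44,41,44,41,41,38,38],[])]),
  ([38,43,56,49], [(173,[],[]),(173,[56,44,41,44,41,41,38],[]),(173,[41,44,56,41,41,38,44],[])]),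
  ([37,44,56,49], [(174,[],[]),(174,[56,56,44,41,41,44,41,38],[]),(174,[56,41,44,41,41,38,38],[])]),
  ([38,44,56,49], [(175,[],[]),(175,[56,41,44,41,41,38],[]),(175,[56,56,44,41,41,44,41,38,38],[])]),
  ([46,49], [(176,[],[]),(637,[56,41],[70]),(607,[56,41,41],[70])]),
  ([43,46,49], [(177,[],[]),(488,[56,41,38],[]),(511,[56,56,41,38],[])]),
  ([44,46,49], [(178,[],[]),(428,[56,56,41,41,38,38],[]),(455,[56,41,41,38,38],[])]),
  ([55,46,49], [(179,[],[]),(179,[56,41,44,41,38,44,44],[70]),(179,[56,44,41,44,38,38,44],[70])]),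
  ([37,55,46,49], [(180,[],[]),(180,[56,44,44,56,41,44,41],[70]),(180,[44,56,41,44,44],[71])]),
  ([38,55,46,49], [(181,[],[]),(181,[44,44,56,41,41,44],[71]),(181,[56,44,56,44,41,44],[70])]),
  ([40,55,46,49], [(182,[],[]),(182,[56,44,44,56,38,44,41],[70]),(182,[44,56,38,44,44],[71])]),
  ([37,40,55,46,49], [(183,[],[]),(183,[56,44,44,56,44],[70]),(183,[44,56,44,44],[71])]),
  ([38,40,55,46,49], [(184,[],[]),(184,[44,44,56,41,44],[71]),(184,[44,56,44,38,44,41],[71])]),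
  ([41,55,46,49], [(185,[],[]),(185,[44,44,56,38,38,44],[71]),(185,[56,44,56,44,38,44],[70])]),
  ([37,41,55,46,49], [(186,[],[]),(186,[44,44,56,38,44],[71]),(186,[44,56,44,41,44,41],[71])]),
  ([38,41,55,46,49], [(187,[],[]),(187,[44,44,56,44],[71]),(187,[56,44,56,44,44],[70])]),
  ([43,55,46,49], [(188,[],[]),(188,[56,41,41,38,38,44,41,38],[70]),(188,[44,41,38,44,41,38,44,41,38],[])]),
  ([37,43,55,46,49], [(189,[],[]),(189,[56,56,41,44,41,41,38,44,38],[]),(189,[56,56,44,41,38,44,41,41,38],[])]),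
  ([44,55,46,49], [(190,[],[]),(190,[56,56,41,38,44,41,41,38,38],[]),(190,[56,41,44,38,38,44,41,41,38],[70])]),
  ([38,44,55,46,49], [(191,[],[]),(191,[56,41,41,44,41,38,38,44],[70]),(191,[56,44,41,41,38,38,44,41],[70])]),
  ([56,46,49], [(192,[],[]),(192,[56,44,41,41,44,38,44],[]),(192,[56,44,44,41,38,44,41],[])]),
  ([37,56,46,49], [(193,[],[]),(193,[56,44,44,41,38,44],[]),(193,[44,56,44,41,44,41],[71])]),
  ([38,56,46,49], [(194,[],[]),(194,[44,44,56,41,44],[71]),(194,[56,44,56,44,41,41,44],[70])]),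
  ([40,56,46,49], [(195,[],[]),(195,[56,44,44,41,38,44],[]),(195,[44,56,44,38,44,41],[71])]),
  ([37,40,56,46,49], [(196,[],[]),(196,[56,44,44,56,44],[70]),(196,[44,56,44,44],[71])]),
  ([38,40,56,46,49], [(197,[],[]),(197,[44,44,56,41,41,44],[71]),(197,[44,56,38,44,44],[71])]),
  ([41,56,46,49], [(198,[],[]),(198,[44,44,56,38,44],[71]),(198,[56,44,56,44,38,38,44],[70])]),
  ([37,41,56,46,49], [(199,[],[]),(199,[44,44,56,38,38,44],[71]),(199,[44,56,41,44,44],[71])])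
]

theorem rows22_ok : rows22.all (chkRow 10) = true := by decide +kernel

end Cfsg.Lib.D4Three
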