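import Cfsg.Agent.Lib.D4Three.Check

/-! A part of the tree at level 10. -/

set_option autoImplicit false
set_option maxRecDepth 100000

namespace Cfsg.Lib.D4Three

def rows23 : List (List Nat × List (Nat × List Nat × List Nat)) := [
  ([38,41,56,46,49], [(200,[],[]),(200,[44,44,56,44],[71]),(200,[56,44,56,44,44],[70])]),
  ([43,56,46,49], [(201,[],[]),(201,[56,41,41,44,38,44,41,38,38],[]),(201,[56,56,41,41,38,38,44,41,38],[71])]),
  ([37,43,56,46,49], [(202,[],[]),(202,[56,44,41,38,44,41,41,38],[]),(202,[56,41,44,41,41,38,44,38],[])]),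
  ([44,56,46,49], [(203,[],[]),(203,[44,41,38,44,41,38,44,41,38],[]),(203,[56,41,38,44,41,41,38,38],[])]),
  ([38,44,56,46,49], [(204,[],[]),(204,[56,56,44,41,41,38,38,44,41],[71]),(204,[56,56,41,41,44,41,38,38,44],[71])]),
  ([47,49], [(205,[],[]),(675,[56,38],[71]),(665,[56,41],[71])]),
  ([43,47,49], [(206,[],[]),(454,[56,56,41,38,38],[]),(427,[56,41,38,38],[])]),
  ([44,47,49], [(207,[],[]),(512,[56,41,41,38],[]),(489,[56,56,41,41,38],[])]),
  ([55,47,49], [(208,[],[]),(208,[56,44,41,44,38,44],[71]),(208,[44,41,38,44,41,38,44],[])]),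
  ([37,55,47,49], [(209,[],[]),(209,[56,44,56,44,41,44],[71]),(209,[44,44,56,41,41,44],[70])]),
  ([38,55,47,49], [(210,[],[]),(210,[44,56,41,44,44],[70]),(210,[56,44,44,56,41,44,41],[71])]),
  ([40,55,47,49], [(211,[],[]),(211,[56,44,38,44,56,44],[70]),(211,[44,56,56,38,44,44],[71])]),
  ([37,40,55,47,49], [(212,[],[]),(212,[44,56,38,44,44],[70]),(212,[44,44,56,41,44],[70])]),
  ([38,40,55,47,49], [(213,[],[]),(213,[44,56,44,44],[70]),(213,[56,44,44,56,44],[71])]),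
  ([41,55,47,49], [(214,[],[]),(214,[56,44,56,44,38,38,44],[71]),(214,[44,44,56,38,44],[70])]),
  ([37,41,55,47,49], [(215,[],[]),(215,[56,44,56,44,44],[71]),(215,[44,44,56,44],[70])]),
  ([38,41,55,47,49], [(216,[],[]),(216,[56,44,56,44,38,44],[71]),(216,[44,56,56,41,44,44],[71])]),
  ([43,55,47,49], [(217,[],[]),(217,[56,56,41,41,44,38,38,44,41,38],[]),(217,[56,41,41,38,44,41,38,38],[71])]),
  ([38,43,55,47,49], [(218,[],[]),(218,[41,44,56,56,41,41,44,38],[71]),(218,[44,56,56,41,44,41,41,38],[71])]),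
  ([44,55,47,49], [(219,[],[]),(219,[56,41,44,38,44,41,41,38,38],[71]),(219,[56,56,41,38,38,44,41,41,38],[])]),
  ([37,44,55,47,49], [(220,[],[]),(220,[56,44,41,41,38,44,41],[71]),(220,[56,41,41,44,41,38,44],[71])]),
  ([56,47,49], [(221,[],[]),(221,[44,41,38,44,41,38,44],[]),(221,[56,44,38,44,41,44],[])]),
  ([37,56,47,49], [(222,[],[]),(222,[56,44,56,44,41,41,44],[71]),(222,[44,44,56,41,44],[70])]),
  ([38,56,47,49], [(223,[],[]),(223,[44,56,44,41,44,41],[70]),(223,[44,56,56,41,44,44],[71])]),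
  ([40,56,47,49], [(224,[],[]),(224,[44,56,38,44,44],[70]),(224,[56,44,44,56,38,44,38],[71])]),
  ([37,40,56,47,49], [(225,[],[]),(225,[56,44,56,44,41,44],[71]),(225,[56,44,38,44,41,44],[])]),
  ([38,40,56,47,49], [(226,[],[]),(226,[44,56,44,44],[70]),(226,[56,44,44,56,44],[71])]),
  ([41,56,47,49], [(227,[],[]),(227,[56,44,56,44,38,44],[71]),(227,[44,56,44,38,44,56],[70])]),
  ([37,41,56,47,49], [(228,[],[]),(228,[56,44,56,44,44],[71]),(228,[44,44,56,44],[70])]),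
  ([38,41,56,47,49], [(229,[],[]),(229,[44,56,41,44,44],[70]),(229,[44,44,56,38,44],[70])]),
  ([43,56,47,49], [(230,[],[]),(230,[56,56,41,41,38,44,41,38,38],[70]),(230,[56,41,41,44,38,38,44,41,38],[])]),
  ([38,43,56,47,49], [(231,[],[]),(231,[44,56,41,44,41,41,38],[70]),(231,[41,44,56,41,41,44,38],[70])]),
  ([44,56,47,49], [(232,[],[]),(232,[56,41,38,38,44,41,41,38],[]),(232,[56,56,41,44,38,44,41,41,38,38],[70])]),
  ([37,44,56,47,49], [(233,[],[]),(233,[56,56,41,41,44,41,38,44],[70]),(233,[56,56,44,41,41,38,44,41],[70])]),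
  ([50], [(234,[],[]),(592,[56,56,38],[]),(597,[56,56,38,38],[])]),
  ([37,50], [(235,[],[]),(235,[56,44,44,41,44,56,56,38],[]),(235,[56,56,44,44,41,44,56,38],[])]),
  ([38,50], [(236,[],[]),(236,[56,44,56,41,44,56,44,38],[]),(236,[56,56,44,41,44,44,56,38],[])]),
  ([55,50], [(237,[],[]),(237,[56,38,44,44,41,44,38,38],[]),(237,[56,44,38,44,41,38,44,38],[])]),
  ([37,55,50], [(238,[],[]),(238,[56,44,44,41,44,38],[]),(238,[56,38,44,44,41,44],[])]),
  ([38,55,50], [(239,[],[]),(239,[56,56,44,41,44,44,38],[]),(239,[56,44,44,41,44,38,38],[])]),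
  ([40,55,50], [(240,[],[]),(240,[38,44,44,56,44,38,38],[71]),(240,[44,38,44,56,38,44,38],[70])]),
  ([37,40,55,50], [(241,[],[]),(241,[56,44,44,41,44,38],[]),(241,[56,38,44,44,41,44],[])]),
  ([38,40,55,50], [(242,[],[]),(242,[56,56,44,41,44,44,38],[]),(242,[56,44,44,41,44,38,38],[])]),
  ([41,55,50], [(243,[],[]),(243,[38,44,56,44,44,38,38],[70]),(243,[38,38,44,56,44,44,38],[71])]),
  ([37,41,55,50], [(244,[],[]),(244,[56,44,44,41,44,38],[]),(244,[56,38,44,44,41,44],[])]),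
  ([38,41,55,50], [(245,[],[]),(245,[56,56,44,41,44,44,38],[]),(245,[56,44,44,41,44,38,38],[])]),
  ([56,50], [(246,[],[]),(246,[56,38,44,41,44,44,38,38],[]),(246,[56,38,38,44,41,44,44,38],[])]),
  ([37,56,50], [(247,[],[]),(247,[56,56,38,44,44,41,44],[]),(247,[56,56,44,44,41,44,38],[])]),
  ([38,56,50], [(248,[],[]),(248,[44,56,41,44,38,44],[71]),(248,[56,44,41,44,44,38],[])]),
  ([40,56,50], [(249,[],[]),(249,[38,44,44,56,44,38,38],[71]),(249,[44,38,44,56,38,44,38],[70])]),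
  ([37,40,56,50], [(250,[],[]),(250,[56,56,38,44,44,41,44],[]),(250,[56,56,44,44,41,44,38],[])]),
  ([38,40,56,50], [(251,[],[]),(251,[44,41,44,44,56,38],[]),(251,[56,44,41,44,44,38],[])]),
  ([41,56,50], [(252,[],[]),(252,[38,44,56,44,44,38,38],[70]),(252,[38,38,44,56,44,44,38],[71])]),
  ([37,41,56,50], [(253,[],[]),(253,[56,56,38,44,44,41,44],[]),(253,[56,56,44,44,41,44,38],[])]),
  ([38,41,56,50], [(254,[],[]),(254,[56,44,38,44,56,44],[70]),(254,[56,44,41,44,44,38],[])]),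
  ([46,50], [(255,[],[]),(666,[56,56,38],[70]),(676,[56,56,41],[70])]),
  ([55,46,50], [(256,[],[]),(256,[56,44,38,44,41,44],[71]),(256,[44,41,38,44,41,38,44],[])]),
  ([37,55,46,50], [(257,[],[]),(257,[56,44,41,44,56,44],[70]),(257,[44,56,56,41,44,44],[71])]),
  ([38,55,46,50], [(258,[],[]),(258,[56,44,56,44,41,41,44],[71]),(258,[44,44,56,41,44],[70])]),
  ([40,55,46,50], [(259,[],[]),(259,[56,44,56,44,38,44],[71]),(259,[44,44,56,38,38,44],[70])]),
  ([37,40,55,46,50], [(260,[],[]),(260,[44,56,41,44,44],[70]),(260,[44,44,56,38,44],[70])]),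
  ([38,40,55,46,50], [(261,[],[]),(261,[56,44,56,44,44],[71]),(261,[44,44,56,44],[70])]),
  ([41,55,46,50], [(262,[],[]),(262,[44,56,38,44,44],[70]),(262,[56,44,44,56,38,44,38],[71])]),
  ([37,41,55,46,50], [(263,[],[]),(263,[44,56,44,44],[70]),(263,[56,44,44,56,44],[71])]),
  ([38,41,55,46,50], [(264,[],[]),(264,[56,44,56,44,41,44],[71]),(264,[44,56,56,38,44,44],[71])]),
  ([56,46,50], [(265,[],[]),(265,[44,41,38,44,41,38,44],[]),(265,[56,44,41,44,38,44],[])]),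
  ([37,56,46,50], [(266,[],[]),(266,[44,56,41,44,44],[70]),(266,[56,44,44,56,41,44,41],[71])]),
  ([38,56,46,50], [(267,[],[]),(267,[56,44,56,44,41,44],[71]),(267,[44,56,44,41,44,56],[70])]),
  ([40,56,46,50], [(268,[],[]),(268,[56,44,56,44,38,38,44],[71]),(268,[44,44,56,38,44],[70])]),
  ([37,40,56,46,50], [(269,[],[]),(269,[56,44,56,44,38,44],[71]),(269,[56,44,41,44,38,44],[])]),
  ([38,40,56,46,50], [(270,[],[]),(270,[56,44,56,44,44],[71]),(270,[44,44,56,44],[70])]),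
  ([41,56,46,50], [(271,[],[]),(271,[44,56,44,38,44,38],[70]),(271,[44,56,56,38,44,44],[71])]),
  ([37,41,56,46,50], [(272,[],[]),(272,[44,56,44,44],[70]),(272,[56,44,44,56,44],[71])]),
  ([38,41,56,46,50], [(273,[],[]),(273,[44,56,38,44,44],[70]),(273,[44,44,56,41,44],[70])]),
  ([47,50], [(274,[],[]),(610,[56,56,41],[71]),(638,[56,56,41,41],[71])]),
  ([55,47,50], [(275,[],[]),(275,[56,44,44,41,38,44,41],[70]),(275,[56,44,41,41,44,38,44],[70])]),
  ([37,55,47,50], [(276,[],[]),(276,[44,44,56,41,44],[71]),(276,[56,44,56,44,41,41,44],[70])]),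
  ([38,55,47,50], [(277,[],[]),(277,[44,56,56,41,44,44],[70]),(277,[56,44,41,44,56,44],[71])]),
  ([40,55,47,50], [(278,[],[]),(278,[44,44,56,38,44],[71]),(278,[56,44,56,44,38,38,44],[70])]),
  ([37,40,55,47,50], [(279,[],[]),(279,[44,44,56,44],[71]),(279,[56,44,56,44,44],[70])]),
  ([38,40,55,47,50], [(280,[],[]),(280,[44,56,44,38,44,56],[71]),(280,[44,56,41,44,44],[71])]),
  ([41,55,47,50], [(281,[],[]),(281,[44,56,56,38,44,44],[70]),(281,[56,44,38,44,56,44],[71])]),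
  ([37,41,55,47,50], [(282,[],[]),(282,[44,56,44,41,44,56],[71]),(282,[44,56,38,44,44],[71])]),
  ([38,41,55,47,50], [(283,[],[]),(283,[56,44,44,56,44],[70]),(283,[44,56,44,44],[71])]),
  ([56,47,50], [(284,[],[]),(284,[56,44,41,44,38,38,44],[]),(284,[56,41,44,41,38,44,44],[])]),
  ([37,56,47,50], [(285,[],[]),(285,[44,56,44,41,44,56],[71]),(285,[56,44,56,44,41,44],[70])]),
  ([38,56,47,50], [(286,[],[]),(286,[56,44,44,56,41,44,41],[70]),(286,[44,56,41,44,44],[71])]),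
  ([40,56,47,50], [(287,[],[]),(287,[44,56,44,38,44,56],[71]),(287,[56,44,56,44,38,44],[70])]),
  ([37,40,56,47,50], [(288,[],[]),(288,[44,44,56,44],[71]),(288,[56,44,56,44,44],[70])]),
  ([38,40,56,47,50], [(289,[],[]),(289,[44,44,56,38,44],[71]),(289,[56,44,41,44,56,44],[71])]),
  ([41,56,47,50], [(290,[],[]),(290,[56,44,44,56,38,44,41],[70]),(290,[44,56,38,44,44],[71])]),
  ([37,41,56,47,50], [(291,[],[]),(291,[44,44,56,41,44],[71]),(291,[56,44,38,44,56,44],[71])]),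
  ([38,41,56,47,50], [(292,[],[]),(292,[56,44,44,56,44],[70]),(292,[44,56,44,44],[71])]),
  ([58], [(293,[],[]),(662,[41,41,38],[]),(601,[41,41,38,38],[])]),
  ([37,58], [(294,[],[]),(294,[41,44,44,56,44,41,41,38],[]),(294,[44,56,41,44,56,41,44,41],[])]),
  ([38,58], [(295,[],[]),(295,[44,56,41,44,56,41,44,41],[]),(295,[41,41,44,56,44,44,41,38],[])]),
  ([40,58], [(296,[],[]),(296,[41,38,44,44,56,44,38,38],[]),(296,[44,56,38,44,56,38,44,38],[])]),
  ([37,40,58], [(297,[],[]),(297,[41,44,44,56,44,38],[]),(297,[44,41,44,56,38,44],[71])]),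
  ([38,40,58], [(298,[],[]),(298,[44,41,44,56,38,38,44],[70]),(298,[44,56,44,44,41,41,38],[])]),
  ([41,58], [(299,[],[]),(299,[44,56,38,44,56,38,44,38],[]),(299,[41,38,38,44,56,44,44,38],[])])
]

theorem rows23_ok : rows23.all (chkRow 10) = true := by decide +kernel

end Cfsg.Lib.D4Three
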