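import Cfsg.Agent.Lib.D4Three.Check

/-! A part of the tree at level 10. -/

set_option autoImplicit false
set_option maxRecDepth 100000

namespace Cfsg.Lib.D4Three

def rows24 : List (List Nat × List (Nat × List Nat × List Nat)) := [
  ([37,41,58], [(300,[],[]),(300,[44,41,41,44,56,38,44],[70]),(300,[44,56,44,44,41,38,38],[])]),
  ([38,41,58], [(301,[],[]),(301,[44,56,44,44,41,38],[]),(301,[41,44,56,44,44,38],[])]),
  ([46,58], [(302,[],[]),(667,[41,41,38],[70]),(612,[56,41,41],[70])]),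
  ([40,46,58], [(303,[],[]),(303,[44,41,38,44,56,44],[71]),(303,[44,56,38,44,56,38,44],[])]),
  ([37,40,46,58], [(304,[],[]),(304,[44,56,56,41,44,44],[70]),(304,[44,56,44,41,44,41],[71])]),
  ([38,40,46,58], [(305,[],[]),(305,[56,44,56,44,41,41,44],[71]),(305,[44,44,56,41,44],[70])]),
  ([41,46,58], [(306,[],[]),(306,[44,56,38,44,56,38,44],[]),(306,[44,56,44,41,38,44],[71])]),
  ([37,41,46,58], [(307,[],[]),(307,[44,56,41,44,44],[70]),(307,[56,44,44,56,41,44,41],[71])]),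
  ([38,41,46,58], [(308,[],[]),(308,[44,44,56,41,41,44],[71]),(308,[56,44,56,44,41,44],[70])]),
  ([43,46,58], [(309,[],[]),(564,[56,56,41,41,38],[]),(569,[56,56,41,38],[])]),
  ([40,43,46,58], [(310,[],[]),(310,[56,56,41,41,38,38,44,56,44,38],[70]),(310,[56,41,38,38,44,56,56,38],[70])]),
  ([37,40,43,46,58], [(311,[],[]),(311,[56,56,44,56,44,41,41,38,38],[]),(311,[56,41,38,44,56,56],[70])]),
  ([38,40,43,46,58], [(312,[],[]),(312,[56,56,41,41,44,56,44,38],[70]),(312,[56,41,44,56,56,38,38],[70])]),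
  ([41,43,46,58], [(313,[],[]),(313,[56,56,41,38,44,56,38,38,44],[70]),(313,[56,56,41,38,38,44,56,44,38],[71])]),
  ([37,41,43,46,58], [(314,[],[]),(314,[56,41,44,56,56,41,38],[70]),(314,[56,56,44,56,44,41,38,38],[])]),
  ([38,41,43,46,58], [(315,[],[]),(315,[56,56,44,56,41,38,44],[]),(315,[56,56,41,44,56,44,38],[71])]),
  ([44,46,58], [(316,[],[]),(538,[56,41,38,38],[]),(543,[56,41,41,38,38],[])]),
  ([40,44,46,58], [(317,[],[]),(317,[56,56,44,41,38,38,44,56,38],[71]),(317,[56,56,41,41,38,44,56,38,38],[70])]),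
  ([37,40,44,46,58], [(318,[],[]),(318,[56,56,44,41,38,44,56],[71]),(318,[44,56,41,38,44,56,56],[71])]),
  ([38,40,44,46,58], [(319,[],[]),(319,[56,56,44,41,44,56,38,38],[71]),(319,[56,56,44,56,41,41,38],[])]),
  ([41,44,46,58], [(320,[],[]),(320,[56,56,41,38,44,56,38,38],[71]),(320,[56,56,44,41,41,38,38,44,56,38],[70])]),
  ([37,41,44,46,58], [(321,[],[]),(321,[56,56,41,44,56,38,38],[71]),(321,[56,56,44,41,44,56,41,38],[71])]),
  ([38,41,44,46,58], [(322,[],[]),(322,[56,56,44,56,41,38],[]),(322,[56,56,44,41,41,44,56,38,38],[70])]),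
  ([47,58], [(323,[],[]),(677,[56,41,41],[71]),(640,[56,56,41,41],[71])]),
  ([40,47,58], [(324,[],[]),(324,[44,44,56,41,38,44,56],[70]),(324,[56,44,44,56,41,38,44],[])]),
  ([37,40,47,58], [(325,[],[]),(325,[44,44,56,41,44],[71]),(325,[56,44,56,44,41,41,44],[70])]),
  ([38,40,47,58], [(326,[],[]),(326,[44,56,44,41,44,41],[70]),(326,[44,56,56,41,44,44],[71])]),
  ([41,47,58], [(327,[],[]),(327,[44,56,44,41,38,38,44],[70]),(327,[56,44,56,41,38,44,44],[70])]),
  ([37,41,47,58], [(328,[],[]),(328,[56,44,56,44,41,44],[71]),(328,[44,44,56,41,41,44],[70])]),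
  ([38,41,47,58], [(329,[],[]),(329,[56,44,44,56,41,44,41],[70]),(329,[44,56,41,44,44],[71])]),
  ([43,47,58], [(330,[],[]),(542,[56,56,41,38,38],[]),(537,[56,56,41,41,38,38],[])]),
  ([40,43,47,58], [(331,[],[]),(331,[56,41,38,44,56,56,38,38],[71]),(331,[56,44,56,38,44,56,38,44,38],[71])]),
  ([37,40,43,47,58], [(332,[],[]),(332,[56,41,44,56,56,38],[71]),(332,[56,56,44,41,44,56,44,38,44],[])]),
  ([38,40,43,47,58], [(333,[],[]),(333,[56,41,38,38,44,56,56],[71]),(333,[56,56,44,56,44,41,41,38],[])]),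
  ([41,43,47,58], [(334,[],[]),(334,[56,56,41,38,44,56,44,38,38],[70]),(334,[56,56,41,38,38,44,56,38,44],[71])]),
  ([37,41,43,47,58], [(335,[],[]),(335,[56,56,41,44,56,44,38,38],[70]),(335,[56,41,41,44,56,56,38],[70])]),
  ([38,41,43,47,58], [(336,[],[]),(336,[56,56,44,56,44,41,38],[]),(336,[56,56,41,44,56,38,44],[71])]),
  ([44,47,58], [(337,[],[]),(570,[56,41,41,38],[]),(565,[56,41,38],[])]),
  ([40,44,47,58], [(338,[],[]),(338,[56,56,41,41,38,38,44,56,38],[71]),(338,[56,56,44,41,38,44,56,38,38],[70])]),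
  ([37,40,44,47,58], [(339,[],[]),(339,[44,56,41,44,56,56,38],[71]),(339,[56,56,44,41,44,56,38],[70])]),
  ([38,40,44,47,58], [(340,[],[]),(340,[56,56,41,41,44,56,38],[71]),(340,[56,56,44,41,38,38,44,56],[70])]),
  ([41,44,47,58], [(341,[],[]),(341,[56,44,56,38,44,56,38,44,38],[71]),(341,[56,56,41,38,38,44,56,38],[70])]),
  ([37,41,44,47,58], [(342,[],[]),(342,[56,56,44,41,41,44,56,38],[71]),(342,[56,56,44,56,41,38,38],[])]),
  ([38,41,44,47,58], [(343,[],[]),(343,[56,56,44,56,44,44,41,44,38],[71]),(343,[56,56,41,44,56,38],[70])]),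
  ([49,58], [(344,[],[]),(678,[56,38],[71]),(615,[56,38,38],[70])]),
  ([37,49,58], [(345,[],[]),(345,[44,41,44,56,44,38],[]),(345,[44,56,41,44,56,41,44],[])]),
  ([38,49,58], [(346,[],[]),(346,[44,56,41,44,56,41,44],[]),(346,[44,56,44,41,44,38],[71])]),
  ([43,49,58], [(347,[],[]),(657,[56,38],[70]),(648,[41,41,38,38],[71])]),
  ([37,43,49,58], [(348,[],[]),(348,[56,56,41,41,44,56,44,41,38,38],[]),(348,[56,41,41,44,56,56,41,38],[])]),
  ([38,43,49,58], [(349,[],[]),(349,[56,56,41,44,56,41,41,44,38],[70]),(349,[56,56,41,41,44,56,44,41,38],[])]),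
  ([44,49,58], [(350,[],[]),(584,[56,41,41,38],[]),(587,[56,41,41,38,38],[])]),
  ([37,44,49,58], [(351,[],[]),(351,[56,56,44,41,41,44,56,41,38],[]),(351,[56,56,41,44,56,41,41,38,38],[])]),
  ([38,44,49,58], [(352,[],[]),(352,[56,56,41,44,56,41,41,38],[]),(352,[56,56,44,41,41,44,56,41,38,38],[])]),
  ([46,49,58], [(353,[],[]),(438,[56,41,38],[71]),(643,[41,41,38,38],[71])]),
  ([43,46,49,58], [(354,[],[]),(679,[41,41,38],[71]),(413,[56,41,41,38,38],[70])]),
  ([44,46,49,58], [(355,[],[]),(604,[56,41,41,38,38],[70]),(414,[56,56,41,38],[71])]),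
  ([47,49,58], [(356,[],[]),(619,[56,56,41],[71]),(441,[56,56,41,41,38],[71])]),
  ([43,47,49,58], [(357,[],[]),(410,[56,41,41,38],[71]),(621,[41,41,38,38],[70])]),
  ([44,47,49,58], [(358,[],[]),(411,[56,56,41,38,38],[70]),(639,[41,41,38,38],[71])]),
  ([50,58], [(359,[],[]),(671,[56,56,38],[70]),(646,[56,56,38,38],[71])]),
  ([37,50,58], [(360,[],[]),(360,[44,44,56,41,44,56,38],[]),(360,[56,44,44,56,41,44,38],[])]),
  ([38,50,58], [(361,[],[]),(361,[44,56,44,41,41,44,38],[70]),(361,[56,44,56,41,44,44,38],[70])]),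
  ([43,50,58], [(362,[],[]),(586,[56,56,41,41,38],[]),(583,[56,56,41,41,38,38],[])]),
  ([37,43,50,58], [(363,[],[]),(363,[56,41,44,56,56,41,41,38],[]),(363,[56,44,56,41,44,56,41,44,41],[71])]),
  ([38,43,50,58], [(364,[],[]),(364,[56,56,41,44,56,44,41,41,38],[]),(364,[56,56,41,41,44,56,41,44,38],[71])]),
  ([44,50,58], [(365,[],[]),(633,[56,56,38],[71]),(620,[41,41,38,38],[70])]),
  ([37,44,50,58], [(366,[],[]),(366,[56,56,41,41,44,56,41,38,38],[]),(366,[56,56,44,41,44,56,41,41,38],[])]),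
  ([38,44,50,58], [(367,[],[]),(367,[56,44,56,41,44,56,41,44,41],[71]),(367,[56,56,41,41,44,56,41,38],[])]),
  ([46,50,58], [(368,[],[]),(622,[56,56,38],[71]),(447,[56,56,41,38,38],[71])]),
  ([43,46,50,58], [(369,[],[]),(404,[56,41,38,38],[71]),(614,[41,41,38,38],[70])]),
  ([44,46,50,58], [(370,[],[]),(405,[56,56,41,41,38],[70]),(642,[41,41,38,38],[71])]),
  ([47,50,58], [(371,[],[]),(450,[56,41,41,38,38],[71]),(624,[41,41,38,38],[70])]),
  ([43,47,50,58], [(372,[],[]),(609,[56,56,41],[71]),(401,[56,41,38],[70])]),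
  ([44,47,50,58], [(373,[],[]),(668,[41,41,38],[70]),(402,[56,56,41,41,38,38],[71])]),
  ([59], [(374,[],[]),(602,[41,38],[]),(663,[41,38,38],[])]),
  ([37,59], [(375,[],[]),(375,[41,41,44,56,44,44,41,38],[]),(375,[44,56,41,44,56,41,44,41],[])]),
  ([38,59], [(376,[],[]),(376,[44,56,41,44,56,41,44,41],[]),(376,[41,44,44,56,44,41,41,38],[])]),
  ([40,59], [(377,[],[]),(377,[41,38,38,44,56,44,44,38],[]),(377,[44,56,38,44,56,38,44,38],[])]),
  ([37,40,59], [(378,[],[]),(378,[41,38,44,56,44,44],[]),(378,[41,44,56,44,44,38],[])]),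
  ([38,40,59], [(379,[],[]),(379,[44,44,56,44,41,41,38],[]),(379,[44,41,44,56,41,44,38],[])]),
  ([41,59], [(380,[],[]),(380,[44,56,38,44,56,38,44,38],[]),(380,[41,38,44,44,56,44,38,38],[])]),
  ([37,41,59], [(381,[],[]),(381,[44,44,56,44,41,38,38],[]),(381,[44,38,44,56,38,44,41],[])]),
  ([38,41,59], [(382,[],[]),(382,[41,44,44,56,44,38],[]),(382,[44,44,56,44,41,38],[])]),
  ([46,59], [(383,[],[]),(651,[56,41],[70]),(682,[56,56,41],[70])]),
  ([40,46,59], [(384,[],[]),(384,[56,44,56,41,38,44,44],[]),(384,[44,56,44,41,38,38,44],[])]),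
  ([37,40,46,59], [(385,[],[]),(385,[56,44,44,56,41,44,41],[70]),(385,[44,56,41,44,44],[71])]),
  ([38,40,46,59], [(386,[],[]),(386,[56,44,56,44,41,44],[71]),(386,[44,56,44,41,44,56],[70])]),
  ([41,46,59], [(387,[],[]),(387,[56,44,44,56,41,38,44],[70]),(387,[44,44,56,41,38,44,56],[])]),
  ([37,41,46,59], [(388,[],[]),(388,[56,44,41,44,56,44],[70]),(388,[44,56,56,41,44,44],[71])]),
  ([38,41,46,59], [(389,[],[]),(389,[44,44,56,41,44],[71]),(389,[56,44,56,44,41,41,44],[70])]),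
  ([47,59], [(390,[],[]),(626,[41,38],[71]),(672,[56,41],[71])]),
  ([40,47,59], [(391,[],[]),(391,[44,56,44,41,38,44],[]),(391,[44,56,38,44,56,38,44],[])]),
  ([37,40,47,59], [(392,[],[]),(392,[44,56,44,41,44,56],[71]),(392,[56,44,56,44,41,44],[70])]),
  ([38,40,47,59], [(393,[],[]),(393,[44,56,41,44,44],[70]),(393,[56,44,56,44,38,44,41],[])]),
  ([41,47,59], [(394,[],[]),(394,[44,56,38,44,56,38,44],[]),(394,[44,41,38,44,56,44],[])]),
  ([37,41,47,59], [(395,[],[]),(395,[56,44,56,44,41,41,44],[71]),(395,[44,44,56,41,44],[70])]),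
  ([38,41,47,59], [(396,[],[]),(396,[44,56,56,41,44,44],[70]),(396,[56,44,41,44,56,44],[71])]),
  ([49,59], [(397,[],[]),(653,[56,38],[70]),(673,[56,38,38],[71])]),
  ([37,49,59], [(398,[],[]),(398,[56,44,56,41,44,44,38],[]),(398,[44,56,44,41,41,44,38],[])]),
  ([38,49,59], [(399,[],[]),(399,[56,44,44,56,41,44,38],[70]),(399,[44,44,56,41,44,56,38],[70])])
]

theorem rows24_ok : rows24.all (chkRow 10) = true := by decide +kernel

end Cfsg.Lib.D4Three
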