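import Cfsg.Agent.Lib.D4Three.Check

/-! A part of the tree at level 10. -/

set_option autoImplicit false
set_option maxRecDepth 100000

namespace Cfsg.Lib.D4Three

def rows25 : List (List Nat × List (Nat × List Nat × List Nat)) := [
  ([46,49,59], [(400,[],[]),(628,[41,38],[71]),(465,[56,56,41,38],[70])]),
  ([47,49,59], [(403,[],[]),(467,[56,41,41,38],[70]),(629,[56,38,38],[70])]),
  ([50,59], [(406,[],[]),(630,[41,38],[71]),(683,[41,38,38],[70])]),
  ([37,50,59], [(407,[],[]),(407,[44,56,44,41,44,38],[]),(407,[44,56,41,44,56,41,44],[])]),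
  ([38,50,59], [(408,[],[]),(408,[44,56,41,44,56,41,44],[]),(408,[44,41,44,56,44,38],[71])]),
  ([46,50,59], [(409,[],[]),(472,[56,41,38,38],[70]),(632,[56,41,41],[70])]),
  ([47,50,59], [(412,[],[]),(658,[41,38],[70]),(474,[56,56,41,41,38,38],[70])]),
  ([52], [(415,[],[]),(415,[56,56],[]),(415,[56],[])]),
  ([55,52], [(416,[],[]),(416,[56,56],[]),(416,[56],[])]),
  ([37,55,52], [(417,[],[]),(417,[56,56],[]),(417,[56],[])]),
  ([38,55,52], [(418,[],[]),(418,[56,56],[]),(418,[56],[])]),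
  ([40,55,52], [(419,[],[]),(419,[56,56],[]),(419,[56],[])]),
  ([41,55,52], [(420,[],[]),(420,[56,56],[]),(420,[56],[])]),
  ([56,52], [(421,[],[]),(421,[56,56],[]),(421,[56],[])]),
  ([37,56,52], [(422,[],[]),(422,[56,56],[]),(422,[56],[])]),
  ([38,56,52], [(423,[],[]),(423,[56,56],[]),(423,[56],[])]),
  ([40,56,52], [(424,[],[]),(424,[56,56],[]),(424,[56],[])]),
  ([41,56,52], [(425,[],[]),(425,[56,56],[]),(425,[56],[])]),
  ([58,52], [(426,[],[]),(426,[56,56],[]),(426,[56],[])]),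
  ([46,58,52], [(429,[],[]),(429,[56,56,38,38],[]),(429,[56,38],[])]),
  ([43,46,58,52], [(430,[],[]),(574,[56,56,38],[]),(460,[56,38,38],[])]),
  ([44,46,58,52], [(431,[],[]),(461,[56,56,38],[]),(548,[56,38,38],[])]),
  ([47,58,52], [(432,[],[]),(432,[56,56,38],[]),(432,[56,38,38],[])]),
  ([43,47,58,52], [(433,[],[]),(547,[56,56,38,38],[]),(457,[56,38],[])]),
  ([44,47,58,52], [(434,[],[]),(458,[56,56,38,38],[]),(575,[56,38],[])]),
  ([49,58,52], [(435,[],[]),(435,[56,56,41,41],[]),(435,[56,41],[])]),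
  ([43,49,58,52], [(436,[],[]),(681,[41,41,38],[70]),(470,[56,41,41],[])]),
  ([44,49,58,52], [(437,[],[]),(471,[56,56,41],[]),(590,[56,41,41],[])]),
  ([43,46,49,58,52], [(439,[],[]),(475,[56,41,41,38,38],[70]),(625,[41,41,38,38],[])]),
  ([44,46,49,58,52], [(440,[],[]),(611,[56,41,38],[70]),(608,[56],[70])]),
  ([43,47,49,58,52], [(442,[],[]),(654,[56,38,38],[70]),(647,[41,41,38,38],[70])]),
  ([44,47,49,58,52], [(443,[],[]),(661,[56,41,41,38],[71]),(473,[56,56,41,38,38],[70])]),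
  ([50,58,52], [(444,[],[]),(444,[56,56,41],[]),(444,[56,41,41],[])]),
  ([43,50,58,52], [(445,[],[]),(589,[56,56,41,41],[]),(463,[56,41],[])]),
  ([44,50,58,52], [(446,[],[]),(464,[56,56,41,41],[]),(645,[41,41,38,38],[70])]),
  ([43,46,50,58,52], [(448,[],[]),(652,[56,41,41],[70]),(641,[41,41,38,38],[70])]),
  ([44,46,50,58,52], [(449,[],[]),(670,[41,41,38],[]),(468,[56,56,41,41,38],[70])]),
  ([43,47,50,58,52], [(451,[],[]),(466,[56,41,38],[70]),(599,[56,56,41,41,38,38],[71])]),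
  ([44,47,50,58,52], [(452,[],[]),(635,[56,56],[71]),(618,[41,41,38,38],[])]),
  ([59,52], [(453,[],[]),(453,[56,56],[]),(453,[56],[])]),
  ([46,59,52], [(456,[],[]),(456,[56,56,38],[]),(456,[56,38,38],[])]),
  ([47,59,52], [(459,[],[]),(459,[56,56,38,38],[]),(459,[56,38],[])]),
  ([49,59,52], [(462,[],[]),(462,[56,56,41],[]),(462,[56,41,41],[])]),
  ([50,59,52], [(469,[],[]),(469,[56,56,41,41],[]),(469,[56,41],[])]),
  ([53], [(476,[],[]),(476,[56],[]),(476,[56,56],[])]),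
  ([55,53], [(477,[],[]),(477,[56],[]),(477,[56,56],[])]),
  ([37,55,53], [(478,[],[]),(478,[56],[]),(478,[56,56],[])]),
  ([38,55,53], [(479,[],[]),(479,[56],[]),(479,[56,56],[])]),
  ([40,55,53], [(480,[],[]),(480,[56],[]),(480,[56,56],[])]),
  ([41,55,53], [(481,[],[]),(481,[56],[]),(481,[56,56],[])]),
  ([56,53], [(482,[],[]),(482,[56],[]),(482,[56,56],[])]),
  ([37,56,53], [(483,[],[]),(483,[56],[]),(483,[56,56],[])]),
  ([38,56,53], [(484,[],[]),(484,[56],[]),(484,[56,56],[])]),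
  ([40,56,53], [(485,[],[]),(485,[56],[]),(485,[56,56],[])]),
  ([41,56,53], [(486,[],[]),(486,[56],[]),(486,[56,56],[])]),
  ([58,53], [(487,[],[]),(487,[56],[]),(487,[56,56],[])]),
  ([46,58,53], [(490,[],[]),(490,[56,38],[]),(490,[56,56,38,38],[])]),
  ([43,46,58,53], [(491,[],[]),(517,[56,38,38],[]),(577,[56,56,38],[])]),
  ([44,46,58,53], [(492,[],[]),(553,[56,38,38],[]),(518,[56,56,38],[])]),
  ([47,58,53], [(493,[],[]),(493,[56,38,38],[]),(493,[56,56,38],[])]),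
  ([43,47,58,53], [(494,[],[]),(514,[56,38],[]),(552,[56,56,38,38],[])]),
  ([44,47,58,53], [(495,[],[]),(578,[56,38],[]),(515,[56,56,38,38],[])]),
  ([49,58,53], [(496,[],[]),(496,[56,41],[]),(496,[56,56,41,41],[])]),
  ([43,49,58,53], [(497,[],[]),(525,[56,41,41],[]),(623,[41,41,38,38],[71])]),
  ([44,49,58,53], [(498,[],[]),(595,[56,41,41],[]),(526,[56,56,41],[])]),
  ([43,46,49,58,53], [(499,[],[]),(655,[56],[70]),(649,[41,41,38,38],[])]),
  ([44,46,49,58,53], [(500,[],[]),(528,[56,56,41,38],[71]),(600,[56,41,41,38,38],[70])]),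
  ([43,47,49,58,53], [(501,[],[]),(680,[41,41,38],[]),(527,[56,41,41,38],[71])]),
  ([44,47,49,58,53], [(502,[],[]),(627,[56,56,41,41],[71]),(613,[41,41,38,38],[71])]),
  ([50,58,53], [(503,[],[]),(503,[56,41,41],[]),(503,[56,56,41],[])]),
  ([43,50,58,53], [(504,[],[]),(520,[56,41],[]),(594,[56,56,41,41],[])]),
  ([44,50,58,53], [(505,[],[]),(669,[41,41,38],[71]),(521,[56,56,41,41],[])]),
  ([43,46,50,58,53], [(506,[],[]),(660,[56,56,41,41,38],[70]),(523,[56,41,38,38],[71])]),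
  ([44,46,50,58,53], [(507,[],[]),(631,[56,56,38,38],[71]),(616,[41,41,38,38],[71])]),
  ([43,47,50,58,53], [(508,[],[]),(606,[56,56,41,41],[71]),(605,[56,56,41,41,38],[71])]),
  ([44,47,50,58,53], [(509,[],[]),(522,[56,56,41,41,38,38],[71]),(644,[41,41,38,38],[])]),
  ([59,53], [(510,[],[]),(510,[56],[]),(510,[56,56],[])]),
  ([46,59,53], [(513,[],[]),(513,[56,38,38],[]),(513,[56,56,38],[])]),
  ([47,59,53], [(516,[],[]),(516,[56,38],[]),(516,[56,56,38,38],[])]),
  ([49,59,53], [(519,[],[]),(519,[56,41,41],[]),(519,[56,56,41],[])]),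
  ([50,59,53], [(524,[],[]),(524,[56,41],[]),(524,[56,56,41,41],[])]),
  ([61], [(529,[],[]),(529,[41],[]),(529,[41,41],[])]),
  ([40,61], [(530,[],[]),(530,[41],[]),(530,[41,41],[])]),
  ([37,40,61], [(531,[],[]),(531,[41],[]),(531,[41,41],[])]),
  ([38,40,61], [(532,[],[]),(532,[41],[]),(532,[41,41],[])]),
  ([41,61], [(533,[],[]),(533,[41],[]),(533,[41,41],[])]),
  ([37,41,61], [(534,[],[]),(534,[41],[]),(534,[41,41],[])]),
  ([38,41,61], [(535,[],[]),(535,[41],[]),(535,[41,41],[])]),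
  ([49,61], [(536,[],[]),(536,[41],[]),(536,[41,41],[])]),
  ([46,49,61], [(539,[],[]),(539,[41,38,38],[]),(539,[41,41,38],[])]),
  ([47,49,61], [(540,[],[]),(540,[41,38],[]),(540,[41,41,38,38],[])]),
  ([50,61], [(541,[],[]),(541,[41],[]),(541,[41,41],[])]),
  ([46,50,61], [(544,[],[]),(544,[41,38],[]),(544,[41,41,38,38],[])]),
  ([47,50,61], [(545,[],[]),(545,[41,38,38],[]),(545,[41,41,38],[])]),
  ([52,61], [(546,[],[]),(546,[41],[]),(546,[56],[])]),
  ([53,61], [(551,[],[]),(551,[56],[]),(551,[56,56],[])]),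
  ([62], [(556,[],[]),(556,[41,41],[]),(556,[41],[])]),
  ([40,62], [(557,[],[]),(557,[41,41],[]),(557,[41],[])]),
  ([37,40,62], [(558,[],[]),(558,[41,41],[]),(558,[41],[])]),
  ([38,40,62], [(559,[],[]),(559,[41,41],[]),(559,[41],[])])
]

theorem rows25_ok : rows25.all (chkRow 10) = true := by decide +kernel

end Cfsg.Lib.D4Three
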