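import Cfsg.Agent.Lib.D4Three.Check

/-! A part of the tree at level 10. -/

set_option autoImplicit false
set_option maxRecDepth 100000

namespace Cfsg.Lib.D4Three

def rows26 : List (List Nat × List (Nat × List Nat × List Nat)) := [
  ([41,62], [(560,[],[]),(560,[41,41],[]),(560,[41],[])]),
  ([37,41,62], [(561,[],[]),(561,[41,41],[]),(561,[41],[])]),
  ([38,41,62], [(562,[],[]),(562,[41,41],[]),(562,[41],[])]),
  ([49,62], [(563,[],[]),(563,[41,41],[]),(563,[41],[])]),
  ([46,49,62], [(566,[],[]),(566,[41,41,38],[]),(566,[41,38,38],[])]),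
  ([47,49,62], [(567,[],[]),(567,[41,41,38,38],[]),(567,[41,38],[])]),
  ([50,62], [(568,[],[]),(568,[41,41],[]),(568,[41],[])]),
  ([46,50,62], [(571,[],[]),(571,[41,41,38,38],[]),(571,[41,38],[])]),
  ([47,50,62], [(572,[],[]),(572,[41,41,38],[]),(572,[41,38,38],[])]),
  ([52,62], [(573,[],[]),(573,[56,56],[]),(573,[56],[])]),
  ([53,62], [(576,[],[]),(576,[56],[]),(576,[41],[])]),
  ([64], [(579,[],[]),(579,[38],[]),(579,[38,38],[])]),
  ([37,64], [(580,[],[]),(580,[38],[]),(580,[38,38],[])]),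
  ([38,64], [(581,[],[]),(581,[38],[]),(581,[38,38],[])]),
  ([46,64], [(582,[],[]),(582,[38],[]),(582,[38,38],[])]),
  ([47,64], [(585,[],[]),(585,[38],[]),(585,[38,38],[])]),
  ([52,64], [(588,[],[]),(588,[38],[]),(588,[56],[])]),
  ([53,64], [(593,[],[]),(593,[56],[]),(593,[56,56],[])]),
  ([61,64], [(598,[],[]),(598,[41],[]),(598,[41,41],[])]),
  ([52,61,64], [(603,[],[]),(603,[41],[]),(603,[56],[])]),
  ([53,61,64], [(636,[],[]),(636,[56],[]),(636,[56,56],[])]),
  ([62,64], [(659,[],[]),(659,[38],[]),(659,[41],[])]),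
  ([52,62,64], [(664,[],[]),(664,[38],[]),(664,[56],[])]),
  ([53,62,64], [(674,[],[]),(674,[56],[]),(674,[41],[])]),
  ([65], [(684,[],[]),(684,[38,38],[]),(684,[38],[])]),
  ([37,65], [(685,[],[]),(685,[38,38],[]),(685,[38],[])]),
  ([38,65], [(686,[],[]),(686,[38,38],[]),(686,[38],[])]),
  ([46,65], [(687,[],[]),(687,[38,38],[]),(687,[38],[])]),
  ([47,65], [(688,[],[]),(688,[38,38],[]),(688,[38],[])]),
  ([52,65], [(689,[],[]),(689,[56,56],[]),(689,[56],[])]),
  ([53,65], [(690,[],[]),(690,[56],[]),(690,[38],[])]),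
  ([61,65], [(691,[],[]),(691,[41],[]),(691,[38],[])]),
  ([52,61,65], [(692,[],[]),(692,[41],[]),(692,[56],[])]),
  ([53,61,65], [(693,[],[]),(693,[56],[]),(693,[38],[])]),
  ([62,65], [(694,[],[]),(694,[41,41],[]),(694,[41],[])]),
  ([52,62,65], [(695,[],[]),(695,[56,56],[]),(695,[56],[])]),
  ([53,62,65], [(696,[],[]),(696,[56],[]),(696,[41],[])])
]

theorem rows26_ok : rows26.all (chkRow 10) = true := by decide +kernel

end Cfsg.Lib.D4Three
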