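import Cfsg.Agent.Lib.D4Three.Check

/-! A part of the tree at level 11. -/

set_option autoImplicit false
set_option maxRecDepth 100000

namespace Cfsg.Lib.D4Three

def rows28 : List (List Nat × List (Nat × List Nat × List Nat)) := [
  ([41,44,55,46], [(100,[],[]),(100,[38,38,44,56,41,41,38,44],[]),(100,[41,44,56,38,38,44,41,38],[])]),
  ([56,46], [(101,[],[]),(101,[41,44,56,41,44,41,38,44],[]),(101,[56,56,41,44,44,56,44,41,41],[])]),
  ([37,56,46], [(102,[],[]),(102,[41,44,56,41,38,44,56,41,44],[]),(102,[56,56,41,44,44,56,38,44,41,41],[])]),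
  ([38,56,46], [(103,[],[]),(103,[56,56,41,44,56,44,38,44,41,41],[]),(103,[56,56,41,44,38,44,56,44,41,41],[])]),
  ([40,56,46], [(104,[],[]),(104,[44,56,56,38,44,41,44],[]),(104,[44,38,44,56,41,44,56],[])]),
  ([37,40,56,46], [(105,[],[]),(105,[44,44,56,41,38,44,56,56],[]),(105,[41,41,44,38,44,56,41,44],[])]),
  ([38,40,56,46], [(106,[],[]),(106,[41,41,44,56,41,38,44,44],[]),(106,[44,56,41,44,38,44,56,56],[])]),
  ([41,56,46], [(107,[],[]),(107,[44,56,41,38,44,56,41,44],[]),(107,[44,56,44,41,38,44],[])]),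
  ([37,41,56,46], [(108,[],[]),(108,[56,44,41,38,44,56,38,44],[]),(108,[56,44,56,44,41,38,44,41,41],[])]),
  ([38,41,56,46], [(109,[],[]),(109,[44,56,56,41,44,38,44,41,41],[]),(109,[56,44,56,56,41,38,44,44],[])]),
  ([40,43,56,46], [(110,[],[]),(110,[44,56,41,41,38,44,38,38],[]),(110,[41,38,44,56,38,38,44,41],[])]),
  ([41,43,56,46], [(111,[],[]),(111,[56,56,44,41,44,56,44,41,41],[]),(111,[44,56,41,38,44,38,38],[])]),
  ([40,44,56,46], [(112,[],[]),(112,[56,41,38,38,44,56,38,44],[]),(112,[56,56,44,41,41,44,56,44,41],[])]),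
  ([41,44,56,46], [(113,[],[]),(113,[56,56,44,41,44,56,44,41,41],[]),(113,[56,56,44,41,41,44,56,41,44],[])]),
  ([47], [(114,[],[]),(114,[56,56,41,41,44,56,41],[]),(114,[56,56,41,44,56,41,41],[])]),
  ([40,47], [(115,[],[]),(115,[56,56,44,44,41,41,44,56,41],[]),(115,[56,44,56,41,44,56,38,44],[])]),
  ([37,40,47], [(116,[],[]),(116,[56,56,44,44,41,41,38,44,56,41],[]),(116,[56,56,44,41,41,38,44,44,56,41],[])]),
  ([38,40,47], [(117,[],[]),(117,[56,56,44,41,41,38,44,41,44,56],[]),(117,[56,44,56,41,38,44,56,41,44],[])]),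
  ([41,47], [(118,[],[]),(118,[56,56,44,44,41,41,44,56,41],[]),(118,[44,56,38,44,56,41,44,56],[])]),
  ([37,41,47], [(119,[],[]),(119,[56,56,44,41,41,38,44,41,44,56],[]),(119,[44,56,41,44,56,41,38,44,56],[])]),
  ([38,41,47], [(120,[],[]),(120,[56,56,44,44,41,41,38,44,56,41],[]),(120,[56,56,44,41,41,38,44,44,56,41],[])]),
  ([55,47], [(121,[],[]),(121,[56,56,41,44,44,56,44,41,41],[]),(121,[41,44,56,41,44,41,38,44],[])]),
  ([37,55,47], [(122,[],[]),(122,[56,56,41,44,38,44,56,44,41,41],[]),(122,[56,56,41,44,56,44,38,44,41,41],[])]),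
  ([38,55,47], [(123,[],[]),(123,[56,56,41,44,44,56,38,44,41,41],[]),(123,[41,44,56,41,38,44,56,41,44],[])]),
  ([40,55,47], [(124,[],[]),(124,[44,56,38,38,44,41,44],[]),(124,[56,44,56,41,41,38,44,44],[])]),
  ([37,40,55,47], [(125,[],[]),(125,[56,56,44,56,41,41,44,38,44],[]),(125,[44,56,56,41,38,44,44,56],[])]),
  ([38,40,55,47], [(126,[],[]),(126,[44,38,44,56,56,41,44,56],[]),(126,[56,56,44,56,38,44,41,44],[])]),
  ([41,55,47], [(127,[],[]),(127,[56,44,56,41,38,44,44],[]),(127,[56,44,38,44,56,41,44],[])]),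
  ([37,41,55,47], [(128,[],[]),(128,[44,56,41,41,38,44,41,44],[]),(128,[56,56,44,56,41,44,38,44],[])]),
  ([38,41,55,47], [(129,[],[]),(129,[56,56,44,44,56,41,38,44],[]),(129,[44,38,44,56,41,44,41,41],[])]),
  ([40,43,55,47], [(130,[],[]),(130,[56,56,44,41,41,44,56,41,44],[]),(130,[56,56,44,41,44,56,44,41,41],[])]),
  ([41,43,55,47], [(131,[],[]),(131,[56,56,44,41,41,44,56,44,41],[]),(131,[44,56,56,41,38,38,44,38],[])]),
  ([40,44,55,47], [(132,[],[]),(132,[38,44,56,41,38,38,44],[]),(132,[56,56,44,41,44,56,44,41,41],[])]),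
  ([41,44,55,47], [(133,[],[]),(133,[41,44,56,38,44,41,38,38],[]),(133,[38,44,56,41,41,38,38,44],[])]),
  ([56,47], [(134,[],[]),(134,[56,56,41,44,44,56,44,41,41],[]),(134,[44,41,38,44,56,41,44,41],[])]),
  ([37,56,47], [(135,[],[]),(135,[56,56,41,44,44,56,38,44,41,41],[]),(135,[44,56,41,44,56,41,38,44,41],[])]),
  ([38,56,47], [(136,[],[]),(136,[56,56,41,44,38,44,56,44,41,41],[]),(136,[56,56,41,44,56,44,38,44,41,41],[])]),
  ([40,56,47], [(137,[],[]),(137,[44,44,56,41,38,44,56],[]),(137,[44,56,41,44,38,44,56],[])]),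
  ([37,40,56,47], [(138,[],[]),(138,[44,56,56,41,38,44,56,44],[]),(138,[41,41,44,56,41,44,38,44],[])]),
  ([38,40,56,47], [(139,[],[]),(139,[56,44,56,56,38,44,41,44],[]),(139,[44,38,44,56,41,44,56,56],[])]),
  ([41,56,47], [(140,[],[]),(140,[44,56,44,41,38,38,44],[]),(140,[56,44,56,44,41,38,44,41],[])]),
  ([37,41,56,47], [(141,[],[]),(141,[56,44,56,56,41,44,38,44],[]),(141,[44,56,44,41,38,44,41,41],[])]),
  ([38,41,56,47], [(142,[],[]),(142,[44,38,44,56,56,41,44,41,41],[]),(142,[56,56,44,56,44,41,38,44],[])]),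
  ([40,43,56,47], [(143,[],[]),(143,[41,38,38,44,56,38,44,41],[]),(143,[44,56,41,41,38,38,44,38],[])]),
  ([41,43,56,47], [(144,[],[]),(144,[44,56,41,38,38,44,38],[]),(144,[56,56,44,41,44,56,44,41,41],[])]),
  ([40,44,56,47], [(145,[],[]),(145,[56,56,44,41,41,44,56,44,41],[]),(145,[56,41,38,44,56,38,38,44],[])]),
  ([41,44,56,47], [(146,[],[]),(146,[56,56,44,41,41,44,56,41,44],[]),(146,[56,56,44,41,44,56,44,41,41],[])]),
  ([49], [(147,[],[]),(147,[56,56,38,44,56,38,38],[]),(147,[56,56,38,38,44,56,38],[])]),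
  ([37,49], [(148,[],[]),(148,[44,56,41,44,56,38,44,56],[]),(148,[56,56,44,44,38,38,44,56,38],[])]),
  ([38,49], [(149,[],[]),(149,[56,44,56,38,44,56,41,44],[]),(149,[56,56,44,44,38,38,44,56,38],[])]),
  ([55,49], [(150,[],[]),(150,[44,41,38,44,56,38,44,38],[]),(150,[56,56,38,44,44,56,44,38,38],[])]),
  ([37,55,49], [(151,[],[]),(151,[56,44,56,38,38,44,41,44],[]),(151,[44,56,41,44,38,44],[])]),
  ([38,55,49], [(152,[],[]),(152,[56,44,44,56,41,38,44],[]),(152,[56,44,56,38,44,41,44],[])]),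
  ([40,55,49], [(153,[],[]),(153,[56,56,38,44,56,44,41,44,38,38],[]),(153,[56,56,38,44,41,44,56,44,38,38],[])]),
  ([37,40,55,49], [(154,[],[]),(154,[56,56,44,56,41,41,44,38,44],[]),(154,[56,44,56,44,41,38,44,56],[])]),
  ([38,40,55,49], [(155,[],[]),(155,[44,44,56,41,38,44,38,38],[]),(155,[56,56,44,41,44,56,38,44],[])]),
  ([41,55,49], [(156,[],[]),(156,[44,56,38,44,56,41,38,44,38],[]),(156,[56,56,38,44,44,56,41,44,38,38],[])]),
  ([37,41,55,49], [(157,[],[]),(157,[44,56,56,38,44,41,44,56],[]),(157,[56,56,44,56,41,44,38,44,38],[])]),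
  ([38,41,55,49], [(158,[],[]),(158,[56,56,44,56,41,38,44,44],[]),(158,[44,56,38,44,41,44,38,38],[])]),
  ([37,43,55,49], [(159,[],[]),(159,[56,56,44,38,44,56,44,38,38],[]),(159,[56,56,44,38,38,44,56,38,44],[])]),
  ([38,43,55,49], [(160,[],[]),(160,[44,56,56,41,38,44,41,41],[]),(160,[56,56,44,38,38,44,56,44,38],[])]),
  ([37,44,55,49], [(161,[],[]),(161,[56,56,44,38,44,56,44,38,38],[]),(161,[41,41,44,56,41,38,44],[])]),
  ([38,44,55,49], [(162,[],[]),(162,[41,41,44,56,41,38,38,44],[]),(162,[38,44,56,41,41,44,41,38],[])]),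
  ([56,49], [(163,[],[]),(163,[38,44,56,38,44,41,38,44],[]),(163,[56,56,38,44,44,56,44,38,38],[])]),
  ([37,56,49], [(164,[],[]),(164,[44,56,56,41,44,38,44],[]),(164,[44,41,44,56,38,44,56],[])]),
  ([38,56,49], [(165,[],[]),(165,[44,56,41,38,44,56,38,44],[]),(165,[44,56,44,41,38,44],[])]),
  ([40,56,49], [(166,[],[]),(166,[38,44,56,41,38,44,56,38,44],[]),(166,[56,56,38,44,44,56,41,44,38,38],[])]),
  ([37,40,56,49], [(167,[],[]),(167,[44,44,56,41,38,44,56,56],[]),(167,[38,38,44,41,44,56,38,44],[])]),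
  ([38,40,56,49], [(168,[],[]),(168,[56,44,41,44,56,56,38,44],[]),(168,[56,44,56,44,41,38,44,38,38],[])]),
  ([41,56,49], [(169,[],[]),(169,[56,56,38,44,56,44,41,44,38,38],[]),(169,[56,56,38,44,41,44,56,44,38,38],[])]),
  ([37,41,56,49], [(170,[],[]),(170,[38,38,44,56,41,38,44,44],[]),(170,[44,56,38,44,41,44,56,56],[])]),
  ([38,41,56,49], [(171,[],[]),(171,[44,56,56,38,44,41,44,38,38],[]),(171,[56,44,56,56,41,38,44,44],[])]),
  ([37,43,56,49], [(172,[],[]),(172,[44,56,41,38,38,44,41,41],[]),(172,[41,38,44,56,41,41,44,38],[])]),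
  ([38,43,56,49], [(173,[],[]),(173,[56,56,44,38,44,56,44,38,38],[]),(173,[44,56,41,38,44,41,41],[])]),
  ([37,44,56,49], [(174,[],[]),(174,[56,41,41,38,44,56,41,44],[]),(174,[56,56,44,38,38,44,56,44,38],[])]),
  ([38,44,56,49], [(175,[],[]),(175,[56,56,44,38,44,56,44,38,38],[]),(175,[56,56,44,38,38,44,56,38,44],[])]),
  ([46,49], [(176,[],[]),(176,[56,56,41,44,56,41,41],[]),(176,[56,56,41,41,44,56,41],[])]),
  ([43,46,49], [(177,[],[]),(177,[56,56,41,44,56,41,41],[]),(177,[56,56,41,41,44,56,41],[])]),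
  ([44,46,49], [(178,[],[]),(178,[56,56,41,44,56,41,41],[]),(178,[56,56,41,41,44,56,41],[])]),
  ([55,46,49], [(179,[],[]),(179,[56,56,44,41,44,56,41,44,41],[]),(179,[56,56,41,44,44,56,44,41,41],[])]),
  ([37,55,46,49], [(180,[],[]),(180,[44,44,41,38,44,56,56],[]),(180,[56,44,44,41,41,38,38,44],[])]),
  ([38,55,46,49], [(181,[],[]),(181,[56,56,44,41,44,56,41,38,44],[]),(181,[56,44,41,38,44,44],[])]),
  ([40,55,46,49], [(182,[],[]),(182,[44,44,41,38,44,56,56],[]),(182,[56,44,44,41,41,38,38,44],[])]),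
  ([37,40,55,46,49], [(183,[],[]),(183,[44,41,41,44,56,38,44,41],[]),(183,[56,44,41,38,44,44],[])]),
  ([38,40,55,46,49], [(184,[],[]),(184,[44,38,44,56,56,41,44,56],[]),(184,[56,56,44,56,38,44,41,44],[])]),
  ([41,55,46,49], [(185,[],[]),(185,[56,56,44,41,44,56,41,41,44],[]),(185,[56,44,41,38,44,44],[])]),
  ([37,41,55,46,49], [(186,[],[]),(186,[44,41,44,56,56,38,44,56],[]),(186,[56,56,44,56,41,44,38,44],[])]),
  ([38,41,55,46,49], [(187,[],[]),(187,[44,44,41,38,44,56,56],[]),(187,[56,44,44,41,41,38,38,44],[])]),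
  ([43,55,46,49], [(188,[],[]),(188,[56,56,44,41,44,56,41,44,41],[]),(188,[56,56,41,44,44,56,44,41,41],[])]),
  ([37,43,55,46,49], [(189,[],[]),(189,[56,56,44,38,44,56,44,38,38],[]),(189,[56,56,44,38,38,44,56,38,44],[])]),
  ([44,55,46,49], [(190,[],[]),(190,[56,56,44,41,44,56,41,44,41],[]),(190,[56,56,41,44,44,56,44,41,41],[])]),
  ([38,44,55,46,49], [(191,[],[]),(191,[41,44,56,38,44,41,41,38],[]),(191,[56,41,44,56,41,41,38],[])]),
  ([56,46,49], [(192,[],[]),(192,[56,56,44,41,44,56,41,44,41],[]),(192,[56,56,41,44,44,56,44,41,41],[])]),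
  ([37,56,46,49], [(193,[],[]),(193,[56,56,44,44,41,41,38,38,44],[]),(193,[44,44,41,38,44,56],[])]),
  ([38,56,46,49], [(194,[],[]),(194,[56,56,44,41,38,44,44],[]),(194,[44,56,41,41,44,38,38,44],[])]),
  ([40,56,46,49], [(195,[],[]),(195,[56,56,44,44,41,41,38,38,44],[]),(195,[44,44,41,38,44,56],[])]),
  ([37,40,56,46,49], [(196,[],[]),(196,[56,56,44,41,38,44,44],[]),(196,[44,41,41,44,38,44,56,41],[])]),
  ([38,40,56,46,49], [(197,[],[]),(197,[56,44,56,56,38,44,41,44],[]),(197,[44,56,38,44,56,41,41,44],[])]),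
  ([41,56,46,49], [(198,[],[]),(198,[56,56,44,41,38,44,44],[]),(198,[44,56,41,44,38,44,41,41],[])]),
  ([37,41,56,46,49], [(199,[],[]),(199,[56,44,56,56,41,44,38,44],[]),(199,[44,56,41,44,56,38,38,44],[])])
]

theorem rows28_ok : rows28.all (chkRow 11) = true := by decide +kernel

end Cfsg.Lib.D4Three
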