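import Cfsg.Agent.Lib.D4Three.Check

/-! A part of the tree at level 11. -/

set_option autoImplicit false
set_option maxRecDepth 100000

namespace Cfsg.Lib.D4Three

def rows29 : List (List Nat × List (Nat × List Nat × List Nat)) := [
  ([38,41,56,46,49], [(200,[],[]),(200,[41,44,56,41,44,38,38,44],[]),(200,[44,44,41,38,44,56],[])]),
  ([43,56,46,49], [(201,[],[]),(201,[56,56,44,41,44,56,41,44,41],[]),(201,[56,56,41,44,44,56,44,41,41],[])]),
  ([37,43,56,46,49], [(202,[],[]),(202,[41,41,44,56,44,41,38,38],[]),(202,[56,41,41,38,44,56,41],[])]),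
  ([44,56,46,49], [(203,[],[]),(203,[56,56,44,41,44,56,41,44,41],[]),(203,[56,56,41,44,44,56,44,41,41],[])]),
  ([38,44,56,46,49], [(204,[],[]),(204,[56,56,44,38,44,56,44,38,38],[]),(204,[56,56,44,38,38,44,56,38,44],[])]),
  ([47,49], [(205,[],[]),(205,[56,56,38,44,56,41],[]),(205,[56,56,41,44,56,38],[])]),
  ([43,47,49], [(206,[],[]),(206,[56,56,41,41,44,56,41],[]),(206,[56,56,41,44,56,41,41],[])]),
  ([44,47,49], [(207,[],[]),(207,[56,56,41,41,44,56,41],[]),(207,[56,56,41,44,56,41,41],[])]),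
  ([55,47,49], [(208,[],[]),(208,[56,56,41,44,44,56,44,38],[]),(208,[56,56,41,44,56,44,44,38],[])]),
  ([37,55,47,49], [(209,[],[]),(209,[56,44,41,44,38,44,38],[]),(209,[56,56,41,44,56,44,38,44],[])]),
  ([38,55,47,49], [(210,[],[]),(210,[56,44,44,41,41,38,44],[]),(210,[56,56,41,44,56,38,44,44],[])]),
  ([40,55,47,49], [(211,[],[]),(211,[56,44,44,41,41,38,44],[]),(211,[44,56,41,44,41,38,44],[])]),
  ([37,40,55,47,49], [(212,[],[]),(212,[44,56,38,44,56,41,44],[]),(212,[56,56,44,38,44,56,41,41,44],[])]),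
  ([38,40,55,47,49], [(213,[],[]),(213,[56,44,41,44,38,44,38],[]),(213,[44,38,44,56,41,44,41],[])]),
  ([41,55,47,49], [(214,[],[]),(214,[56,44,41,44,38,44,38],[]),(214,[56,56,38,44,44,56,41,44],[])]),
  ([37,41,55,47,49], [(215,[],[]),(215,[56,44,44,41,41,38,44],[]),(215,[38,44,56,38,44,41,44],[])]),
  ([38,41,55,47,49], [(216,[],[]),(216,[56,38,44,41,44,38,44,41],[]),(216,[44,56,38,44,41,38,44],[])]),
  ([43,55,47,49], [(217,[],[]),(217,[56,56,44,38,44,56,38,44,38],[]),(217,[56,56,44,41,44,56,41,44,41],[])]),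
  ([38,43,55,47,49], [(218,[],[]),(218,[56,41,41,38,44,41,38],[]),(218,[56,44,56,41,38,44,41,41],[])]),
  ([44,55,47,49], [(219,[],[]),(219,[56,56,44,38,44,56,38,44,38],[]),(219,[56,56,44,41,44,56,41,44,41],[])]),
  ([37,44,55,47,49], [(220,[],[]),(220,[56,41,44,38,44,41,41],[]),(220,[41,38,44,56,44,41,41],[])]),
  ([56,47,49], [(221,[],[]),(221,[56,56,41,44,44,56,44,38],[]),(221,[56,56,41,44,56,44,44,38],[])]),
  ([37,56,47,49], [(222,[],[]),(222,[44,56,41,41,44,38,44],[]),(222,[56,56,44,41,44,38,44,38],[])]),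
  ([38,56,47,49], [(223,[],[]),(223,[44,44,56,41,38,44,38],[]),(223,[56,56,44,44,41,41,38,44],[])]),
  ([40,56,47,49], [(224,[],[]),(224,[44,44,41,38,38,44,56],[]),(224,[56,56,44,44,41,41,38,44],[])]),
  ([37,40,56,47,49], [(225,[],[]),(225,[41,44,38,44,41,44,56,38],[]),(225,[44,41,38,44,56,38,44],[])]),
  ([38,40,56,47,49], [(226,[],[]),(226,[44,41,41,38,44,44,56],[]),(226,[44,41,44,56,38,44,38],[])]),
  ([41,56,47,49], [(227,[],[]),(227,[44,56,41,38,44,44,41],[]),(227,[44,41,38,44,56,41,44],[])]),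
  ([37,41,56,47,49], [(228,[],[]),(228,[44,44,41,38,38,44,56],[]),(228,[41,44,56,41,44,38,44],[])]),
  ([38,41,56,47,49], [(229,[],[]),(229,[44,56,41,44,56,38,44],[]),(229,[56,56,44,56,44,41,38,44,41],[])]),
  ([43,56,47,49], [(230,[],[]),(230,[56,56,44,38,44,56,38,44,38],[]),(230,[56,56,44,41,44,56,41,44,41],[])]),
  ([38,43,56,47,49], [(231,[],[]),(231,[41,41,44,38,44,56,41],[]),(231,[41,41,44,56,44,41,38],[])]),
  ([44,56,47,49], [(232,[],[]),(232,[56,56,44,38,44,56,38,44,38],[]),(232,[56,56,44,41,44,56,41,44,41],[])]),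
  ([37,44,56,47,49], [(233,[],[]),(233,[41,38,44,56,41,41,38],[]),(233,[56,56,41,44,38,44,41,41],[])]),
  ([50], [(234,[],[]),(234,[56,56,38,38,44,56,38],[]),(234,[56,56,38,44,56,38,38],[])]),
  ([37,50], [(235,[],[]),(235,[56,56,44,44,38,38,44,56,38],[]),(235,[56,44,56,38,44,56,41,44],[])]),
  ([38,50], [(236,[],[]),(236,[56,56,44,44,38,38,44,56,38],[]),(236,[44,56,41,44,56,38,44,56],[])]),
  ([55,50], [(237,[],[]),(237,[56,56,38,44,44,56,44,38,38],[]),(237,[38,44,56,38,44,41,38,44],[])]),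
  ([37,55,50], [(238,[],[]),(238,[44,56,41,41,44,38,44],[]),(238,[56,44,56,41,44,38,44,38],[])]),
  ([38,55,50], [(239,[],[]),(239,[56,44,56,41,38,44,44],[]),(239,[56,44,41,44,56,38,44],[])]),
  ([40,55,50], [(240,[],[]),(240,[56,56,38,44,41,44,56,44,38,38],[]),(240,[56,56,38,44,56,44,41,44,38,38],[])]),
  ([37,40,55,50], [(241,[],[]),(241,[56,56,44,56,38,38,44,41,44],[]),(241,[44,56,56,41,38,44,44,56],[])]),
  ([38,40,55,50], [(242,[],[]),(242,[44,56,41,44,38,38,44,38],[]),(242,[56,56,44,56,38,44,41,44],[])]),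
  ([41,55,50], [(243,[],[]),(243,[56,56,38,44,44,56,41,44,38,38],[]),(243,[38,44,56,41,38,44,56,38,44],[])]),
  ([37,41,55,50], [(244,[],[]),(244,[44,41,44,56,56,38,44,56],[]),(244,[56,56,44,56,41,44,38,44],[])]),
  ([38,41,55,50], [(245,[],[]),(245,[56,56,44,44,56,41,38,44],[]),(245,[44,41,44,56,38,44,38,38],[])]),
  ([56,50], [(246,[],[]),(246,[56,56,38,44,44,56,44,38,38],[]),(246,[44,41,38,44,56,38,44,38],[])]),
  ([37,56,50], [(247,[],[]),(247,[44,44,56,41,38,44,56],[]),(247,[44,56,38,44,41,44,56],[])]),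
  ([38,56,50], [(248,[],[]),(248,[44,56,44,41,41,38,44],[]),(248,[56,44,56,44,41,38,44,38],[])]),
  ([40,56,50], [(249,[],[]),(249,[56,56,38,44,44,56,41,44,38,38],[]),(249,[44,56,38,44,56,41,38,44,38],[])]),
  ([37,40,56,50], [(250,[],[]),(250,[44,56,56,41,38,44,56,44],[]),(250,[38,38,44,56,38,44,41,44],[])]),
  ([38,40,56,50], [(251,[],[]),(251,[56,44,56,56,38,44,41,44],[]),(251,[44,56,44,41,38,44,38,38],[])]),
  ([41,56,50], [(252,[],[]),(252,[56,56,38,44,41,44,56,44,38,38],[]),(252,[56,56,38,44,56,44,41,44,38,38],[])]),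
  ([37,41,56,50], [(253,[],[]),(253,[56,44,56,56,41,44,38,44],[]),(253,[44,41,44,56,38,44,56,56],[])]),
  ([38,41,56,50], [(254,[],[]),(254,[44,41,44,56,56,38,44,38,38],[]),(254,[56,56,44,56,44,41,38,44],[])]),
  ([46,50], [(255,[],[]),(255,[56,56,41,44,56,38],[]),(255,[56,56,38,44,56,41],[])]),
  ([55,46,50], [(256,[],[]),(256,[56,56,41,44,56,44,44,38],[]),(256,[56,56,41,44,44,56,44,38],[])]),
  ([37,55,46,50], [(257,[],[]),(257,[56,44,44,41,38,38,44],[]),(257,[44,56,38,44,41,38,44],[])]),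
  ([38,55,46,50], [(258,[],[]),(258,[56,44,41,41,38,44,44],[]),(258,[56,56,41,44,44,56,38,44],[])]),
  ([40,55,46,50], [(259,[],[]),(259,[56,44,41,41,38,44,44],[]),(259,[56,56,38,44,56,44,41,44],[])]),
  ([37,40,55,46,50], [(260,[],[]),(260,[44,56,41,44,56,38,44],[]),(260,[56,56,44,41,44,56,38,38,44],[])]),
  ([38,40,55,46,50], [(261,[],[]),(261,[56,44,44,41,38,38,44],[]),(261,[41,44,56,41,44,38,44],[])]),
  ([41,55,46,50], [(262,[],[]),(262,[56,44,44,41,38,38,44],[]),(262,[56,56,38,44,56,41,44,44],[])]),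
  ([37,41,55,46,50], [(263,[],[]),(263,[56,44,41,41,38,44,44],[]),(263,[44,41,44,56,38,44,38],[])]),
  ([38,41,55,46,50], [(264,[],[]),(264,[56,41,44,38,44,41,44,38],[]),(264,[44,56,41,44,41,38,44],[])]),
  ([56,46,50], [(265,[],[]),(265,[56,56,41,44,56,44,44,38],[]),(265,[56,56,41,44,44,56,44,38],[])]),
  ([37,56,46,50], [(266,[],[]),(266,[44,44,41,41,38,44,56],[]),(266,[56,56,44,44,41,38,38,44],[])]),
  ([38,56,46,50], [(267,[],[]),(267,[44,56,41,44,38,38,44],[]),(267,[44,41,38,44,56,38,44],[])]),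
  ([40,56,46,50], [(268,[],[]),(268,[44,56,38,38,44,41,44],[]),(268,[56,56,44,41,41,38,44,44],[])]),
  ([37,40,56,46,50], [(269,[],[]),(269,[38,44,41,44,38,44,56,41],[]),(269,[44,41,38,44,56,41,44],[])]),
  ([38,40,56,46,50], [(270,[],[]),(270,[44,44,41,41,38,44,56],[]),(270,[38,44,56,38,44,41,44],[])]),
  ([41,56,46,50], [(271,[],[]),(271,[44,44,56,41,38,44,41],[]),(271,[56,56,44,44,41,38,38,44],[])]),
  ([37,41,56,46,50], [(272,[],[]),(272,[44,41,44,38,44,56,38],[]),(272,[44,38,44,56,41,44,41],[])]),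
  ([38,41,56,46,50], [(273,[],[]),(273,[44,56,38,44,56,41,44],[]),(273,[56,56,44,56,44,41,38,44,38],[])]),
  ([47,50], [(274,[],[]),(274,[56,56,41,41,44,56,41],[]),(274,[56,56,41,44,56,41,41],[])]),
  ([55,47,50], [(275,[],[]),(275,[56,56,41,44,44,56,44,41,41],[]),(275,[56,56,44,41,44,56,41,44,41],[])]),
  ([37,55,47,50], [(276,[],[]),(276,[44,56,56,41,44,38,44],[]),(276,[56,44,41,41,44,38,44,41],[])]),
  ([38,55,47,50], [(277,[],[]),(277,[56,56,44,38,38,44,56,44,41],[]),(277,[56,44,44,41,38,44],[])]),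
  ([40,55,47,50], [(278,[],[]),(278,[44,56,56,38,44,41,44],[]),(278,[56,44,41,41,44,38,44,41],[])]),
  ([37,40,55,47,50], [(279,[],[]),(279,[41,44,56,41,44,38,38,44],[]),(279,[56,44,44,41,38,44],[])]),
  ([38,40,55,47,50], [(280,[],[]),(280,[56,56,44,41,44,56,38,44],[]),(280,[44,56,56,41,44,38,44,56],[])]),
  ([41,55,47,50], [(281,[],[]),(281,[56,56,44,41,41,44,56,44,41],[]),(281,[56,44,44,41,38,44],[])]),
  ([37,41,55,47,50], [(282,[],[]),(282,[56,56,44,38,44,56,41,44],[]),(282,[44,56,56,38,44,41,44,56],[])]),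
  ([38,41,55,47,50], [(283,[],[]),(283,[44,56,41,38,44,56,44],[]),(283,[56,44,41,41,44,38,44,41],[])]),
  ([56,47,50], [(284,[],[]),(284,[56,56,41,44,44,56,44,41,41],[]),(284,[56,56,44,41,44,56,41,44,41],[])]),
  ([37,56,47,50], [(285,[],[]),(285,[56,56,44,41,41,44,38,44,41],[]),(285,[44,56,41,44,38,44],[])]),
  ([38,56,47,50], [(286,[],[]),(286,[56,56,44,44,41,38,44],[]),(286,[44,44,56,41,41,38,44,41],[])]),
  ([40,56,47,50], [(287,[],[]),(287,[56,56,44,41,41,44,56,44,41],[]),(287,[44,56,38,44,41,44],[])]),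
  ([37,40,56,47,50], [(288,[],[]),(288,[56,56,44,44,41,38,44],[]),(288,[44,44,41,41,38,38,44,56],[])]),
  ([38,40,56,47,50], [(289,[],[]),(289,[44,56,41,44,38,44,56,56],[]),(289,[56,44,41,44,56,56,38,44],[])]),
  ([41,56,47,50], [(290,[],[]),(290,[56,56,44,44,41,38,44],[]),(290,[44,44,56,41,38,38,44,41],[])]),
  ([37,41,56,47,50], [(291,[],[]),(291,[44,56,38,44,41,44,56,56],[]),(291,[56,44,38,44,56,56,41,44],[])]),
  ([38,41,56,47,50], [(292,[],[]),(292,[44,41,41,44,56,38,44,41],[]),(292,[44,41,38,44,44,56],[])]),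
  ([58], [(293,[],[]),(293,[41,41,38,38,44,41,38],[]),(293,[41,41,38,44,41,38,38],[])]),
  ([37,58], [(294,[],[]),(294,[44,56,41,44,41,38,38,44,41],[]),(294,[41,44,41,38,44,56,41,44],[])]),
  ([38,58], [(295,[],[]),(295,[44,41,44,41,38,38,44,41,38],[]),(295,[44,56,41,44,41,38,44,41],[])]),
  ([40,58], [(296,[],[]),(296,[44,56,38,44,41,41,38,44,38],[]),(296,[38,44,41,38,44,56,38,44],[])]),
  ([37,40,58], [(297,[],[]),(297,[44,56,56,41,44,38,44],[]),(297,[41,44,56,41,44,38,44,38],[])]),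
  ([38,40,58], [(298,[],[]),(298,[44,44,56,41,38,44,38],[]),(298,[44,41,38,44,56,44,38],[])]),
  ([41,58], [(299,[],[]),(299,[44,41,38,44,41,41,38,44,38],[]),(299,[44,56,38,44,41,38,44,38],[])])
]

theorem rows29_ok : rows29.all (chkRow 11) = true := by decide +kernel

end Cfsg.Lib.D4Three
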