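import Cfsg.Agent.Lib.D4Three.Check

/-! A part of the tree at level 3. -/

set_option autoImplicit false
set_option maxRecDepth 100000

namespace Cfsg.Lib.D4Three

def rows3 : List (List Nat × List (Nat × List Nat × List Nat)) := [
  ([], [(0,[],[]),(27,[],[]),(54,[],[])]),
  ([37], [(1,[],[]),(28,[],[]),(55,[],[])]),
  ([38], [(2,[],[]),(29,[],[]),(56,[],[])]),
  ([40], [(3,[],[]),(30,[],[]),(57,[],[])]),
  ([37,40], [(4,[],[]),(31,[],[]),(58,[],[])]),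
  ([38,40], [(5,[],[]),(32,[],[]),(59,[],[])]),
  ([41], [(6,[],[]),(33,[],[]),(60,[],[])]),
  ([37,41], [(7,[],[]),(34,[],[]),(61,[],[])]),
  ([38,41], [(8,[],[]),(35,[],[]),(62,[],[])]),
  ([43], [(9,[],[]),(36,[],[]),(63,[],[])]),
  ([37,43], [(10,[],[]),(37,[],[]),(64,[],[])]),
  ([38,43], [(11,[],[]),(38,[],[]),(65,[],[])]),
  ([40,43], [(12,[],[]),(39,[],[]),(66,[],[])]),
  ([37,40,43], [(13,[],[]),(40,[],[]),(67,[],[])]),
  ([38,40,43], [(14,[],[]),(41,[],[]),(68,[],[])]),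
  ([41,43], [(15,[],[]),(42,[],[]),(69,[],[])]),
  ([37,41,43], [(16,[],[]),(43,[],[]),(70,[],[])]),
  ([38,41,43], [(17,[],[]),(44,[],[]),(71,[],[])]),
  ([44], [(18,[],[]),(45,[],[]),(72,[],[])]),
  ([37,44], [(19,[],[]),(46,[],[]),(73,[],[])]),
  ([38,44], [(20,[],[]),(47,[],[]),(74,[],[])]),
  ([40,44], [(21,[],[]),(48,[],[]),(75,[],[])]),
  ([37,40,44], [(22,[],[]),(49,[],[]),(76,[],[])]),
  ([38,40,44], [(23,[],[]),(50,[],[]),(77,[],[])]),
  ([41,44], [(24,[],[]),(51,[],[]),(78,[],[])]),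
  ([37,41,44], [(25,[],[]),(52,[],[]),(79,[],[])]),
  ([38,41,44], [(26,[],[]),(53,[],[]),(80,[],[])])
]

theorem rows3_ok : rows3.all (chkRow 3) = true := by decide +kernel

end Cfsg.Lib.D4Three
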