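import Cfsg.Agent.Lib.D4Three.Check

/-! A part of the tree at level 11. -/

set_option autoImplicit false
set_option maxRecDepth 100000

namespace Cfsg.Lib.D4Three

def rows30 : List (List Nat × List (Nat × List Nat × List Nat)) := [
  ([37,41,58], [(300,[],[]),(300,[44,44,56,41,38,44,41],[]),(300,[44,41,38,44,56,44,41],[])]),
  ([38,41,58], [(301,[],[]),(301,[44,41,44,56,56,38,44],[]),(301,[44,44,56,41,41,38,44,38],[])]),
  ([46,58], [(302,[],[]),(302,[56,41,41,44,41,38],[]),(302,[56,41,44,41,41,38],[])]),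
  ([40,46,58], [(303,[],[]),(303,[56,44,44,41,41,44,41,38],[]),(303,[56,44,44,41,44,41,41,38],[])]),
  ([37,40,46,58], [(304,[],[]),(304,[44,38,38,44,56,41,44],[]),(304,[44,41,38,44,56,38,44],[])]),
  ([38,40,46,58], [(305,[],[]),(305,[41,44,56,56,38,44,44],[]),(305,[56,44,41,44,41,41,38,44],[])]),
  ([41,46,58], [(306,[],[]),(306,[56,44,44,41,41,44,41,38],[]),(306,[56,44,44,41,44,41,41,38],[])]),
  ([37,41,46,58], [(307,[],[]),(307,[56,44,56,44,38,44,41],[]),(307,[56,44,41,44,41,41,38,44],[])]),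
  ([38,41,46,58], [(308,[],[]),(308,[44,56,44,38,44,41,38],[]),(308,[44,56,38,44,41,38,44],[])]),
  ([43,46,58], [(309,[],[]),(309,[56,56,41,44,56,41,41],[]),(309,[56,56,41,41,44,56,41],[])]),
  ([40,43,46,58], [(310,[],[]),(310,[56,56,44,44,41,44,56,41,41],[]),(310,[56,56,44,44,41,41,44,56,41],[])]),
  ([37,40,43,46,58], [(311,[],[]),(311,[56,56,44,44,56,44,41,38,44],[]),(311,[56,56,38,44,56,38,44,41,41],[])]),
  ([38,40,43,46,58], [(312,[],[]),(312,[56,56,41,44,56,38,44,41],[]),(312,[44,56,56,41,41,38,44,56],[])]),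
  ([41,43,46,58], [(313,[],[]),(313,[56,56,44,56,38,44,41,38,38],[]),(313,[56,56,44,56,41,38,44,38,38],[])]),
  ([37,41,43,46,58], [(314,[],[]),(314,[56,56,38,44,56,38,44,41],[]),(314,[44,41,44,38,38,44,41,41,38],[])]),
  ([38,41,43,46,58], [(315,[],[]),(315,[44,56,56,41,38,44,56],[]),(315,[44,44,41,41,38,44,41,38,38],[])]),
  ([44,46,58], [(316,[],[]),(316,[56,56,41,44,56,41,41],[]),(316,[56,56,41,41,44,56,41],[])]),
  ([40,44,46,58], [(317,[],[]),(317,[56,56,44,44,41,44,56,41,41],[]),(317,[56,56,44,44,41,41,44,56,41],[])]),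
  ([37,40,44,46,58], [(318,[],[]),(318,[56,44,56,56,41,38,44],[]),(318,[44,44,41,41,38,44,41,38,38],[])]),
  ([38,40,44,46,58], [(319,[],[]),(319,[41,44,56,38,44,56,56,38],[]),(319,[44,41,44,38,38,44,41,41,38],[])]),
  ([41,44,46,58], [(320,[],[]),(320,[56,56,44,44,41,44,56,41,41],[]),(320,[56,56,44,44,41,41,44,56,41],[])]),
  ([37,41,44,46,58], [(321,[],[]),(321,[41,44,56,38,44,56,56,41],[]),(321,[56,44,56,56,41,41,38,44],[])]),
  ([38,41,44,46,58], [(322,[],[]),(322,[56,44,56,56,41,38,44,41,38],[]),(322,[44,56,44,38,44,56,56,41,44],[])]),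
  ([47,58], [(323,[],[]),(323,[56,56,41,41,44,56,41],[]),(323,[56,56,41,44,56,41,41],[])]),
  ([40,47,58], [(324,[],[]),(324,[56,56,44,44,41,41,44,56,41],[]),(324,[56,56,44,44,41,44,56,41,41],[])]),
  ([37,40,47,58], [(325,[],[]),(325,[44,56,41,41,44,38,44],[]),(325,[56,44,56,56,41,38,44,44],[])]),
  ([38,40,47,58], [(326,[],[]),(326,[56,56,44,41,41,44,38,44,41],[]),(326,[44,38,44,56,41,44],[])]),
  ([41,47,58], [(327,[],[]),(327,[56,56,44,44,41,41,44,56,41],[]),(327,[56,56,44,44,41,44,56,41,41],[])]),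
  ([37,41,47,58], [(328,[],[]),(328,[56,56,44,41,41,44,38,44,41],[]),(328,[44,56,41,44,38,44],[])]),
  ([38,41,47,58], [(329,[],[]),(329,[44,41,44,56,41,38,44],[]),(329,[56,44,56,44,41,38,44,56],[])]),
  ([43,47,58], [(330,[],[]),(330,[56,56,41,41,44,56,41],[]),(330,[56,56,41,44,56,41,41],[])]),
  ([40,43,47,58], [(331,[],[]),(331,[56,56,44,44,41,41,44,56,41],[]),(331,[56,56,44,44,41,44,56,41,41],[])]),
  ([37,40,43,47,58], [(332,[],[]),(332,[56,44,56,56,41,44,44,38,44],[]),(332,[56,56,44,44,56,41,38,44,44],[])]),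
  ([38,40,43,47,58], [(333,[],[]),(333,[44,44,41,41,38,38,44,41,38],[]),(333,[44,41,44,38,38,44,41,41,38],[])]),
  ([41,43,47,58], [(334,[],[]),(334,[56,56,44,56,41,38,38,44,38],[]),(334,[56,56,44,56,38,38,44,41,38],[])]),
  ([37,41,43,47,58], [(335,[],[]),(335,[44,44,41,41,38,38,44,41,38],[]),(335,[44,56,56,41,38,38,44,56],[])]),
  ([38,41,43,47,58], [(336,[],[]),(336,[44,41,44,38,44,41,41,38,38],[]),(336,[44,44,41,41,38,44,41,38,38],[])]),
  ([44,47,58], [(337,[],[]),(337,[56,56,41,41,44,56,41],[]),(337,[56,56,41,44,56,41,41],[])]),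
  ([40,44,47,58], [(338,[],[]),(338,[56,56,44,44,41,41,44,56,41],[]),(338,[56,56,44,44,41,44,56,41,41],[])]),
  ([37,40,44,47,58], [(339,[],[]),(339,[44,41,44,38,44,41,41,38,38],[]),(339,[44,44,41,41,38,44,41,38,38],[])]),
  ([38,40,44,47,58], [(340,[],[]),(340,[44,44,41,41,38,38,44,41,38],[]),(340,[56,44,56,56,41,38,38,44],[])]),
  ([41,44,47,58], [(341,[],[]),(341,[56,56,44,44,41,41,44,56,41],[]),(341,[56,56,44,44,41,44,56,41,41],[])]),
  ([37,41,44,47,58], [(342,[],[]),(342,[44,44,41,41,38,38,44,41,38],[]),(342,[44,41,44,38,38,44,41,41,38],[])]),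
  ([38,41,44,47,58], [(343,[],[]),(343,[56,44,56,56,41,41,38,38,44],[]),(343,[56,44,56,44,41,38,44,56,44],[])]),
  ([49,58], [(344,[],[]),(344,[56,38,38,44,41,38],[]),(344,[56,38,44,41,38,38],[])]),
  ([37,49,58], [(345,[],[]),(345,[56,44,44,38,38,44,41,38],[]),(345,[56,44,44,38,44,41,38,38],[])]),
  ([38,49,58], [(346,[],[]),(346,[56,44,44,38,38,44,41,38],[]),(346,[56,44,44,38,44,41,38,38],[])]),
  ([43,49,58], [(347,[],[]),(347,[56,56,38,44,56,38,38],[]),(347,[56,56,38,38,44,56,38],[])]),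
  ([37,43,49,58], [(348,[],[]),(348,[56,56,44,44,38,44,56,38,38],[]),(348,[56,56,44,44,38,38,44,56,38],[])]),
  ([38,43,49,58], [(349,[],[]),(349,[56,56,44,56,41,44,41,41,38],[]),(349,[56,56,44,56,41,38,44,41,41],[])]),
  ([44,49,58], [(350,[],[]),(350,[56,56,38,44,56,38,38],[]),(350,[56,56,38,38,44,56,38],[])]),
  ([37,44,49,58], [(351,[],[]),(351,[56,56,44,44,38,44,56,38,38],[]),(351,[56,56,44,44,38,38,44,56,38],[])]),
  ([38,44,49,58], [(352,[],[]),(352,[56,56,44,44,38,44,56,38,38],[]),(352,[56,56,44,44,38,38,44,56,38],[])]),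
  ([46,49,58], [(353,[],[]),(353,[56,56,41,44,56,41,41],[]),(353,[56,56,41,41,44,56,41],[])]),
  ([43,46,49,58], [(354,[],[]),(354,[56,56,41,44,56,41,41],[]),(354,[56,56,41,41,44,56,41],[])]),
  ([44,46,49,58], [(355,[],[]),(355,[56,56,41,44,56,41,41],[]),(355,[56,56,41,41,44,56,41],[])]),
  ([47,49,58], [(358,[],[]),(358,[56,56,41,41,44,56,41],[]),(358,[56,56,41,44,56,41,41],[])]),
  ([43,47,49,58], [(359,[],[]),(359,[56,56,41,41,44,56,41],[]),(359,[56,56,41,44,56,41,41],[])]),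
  ([44,47,49,58], [(360,[],[]),(360,[56,56,41,41,44,56,41],[]),(360,[56,56,41,44,56,41,41],[])]),
  ([50,58], [(363,[],[]),(363,[56,56,38,38,44,56,38],[]),(363,[56,56,38,44,56,38,38],[])]),
  ([37,50,58], [(364,[],[]),(364,[56,56,44,44,38,38,44,56,38],[]),(364,[56,56,44,44,38,44,56,38,38],[])]),
  ([38,50,58], [(365,[],[]),(365,[56,56,44,44,38,38,44,56,38],[]),(365,[56,56,44,44,38,44,56,38,38],[])]),
  ([43,50,58], [(366,[],[]),(366,[56,56,38,38,44,56,38],[]),(366,[56,56,38,44,56,38,38],[])]),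
  ([37,43,50,58], [(367,[],[]),(367,[56,56,44,44,38,38,44,56,38],[]),(367,[56,56,44,44,38,44,56,38,38],[])]),
  ([38,43,50,58], [(368,[],[]),(368,[56,56,44,56,41,41,38,44,41],[]),(368,[56,56,44,56,41,41,44,41,38],[])]),
  ([44,50,58], [(369,[],[]),(369,[56,56,38,38,44,56,38],[]),(369,[56,56,38,44,56,38,38],[])]),
  ([37,44,50,58], [(370,[],[]),(370,[56,56,44,44,38,38,44,56,38],[]),(370,[56,56,44,44,38,44,56,38,38],[])]),
  ([38,44,50,58], [(371,[],[]),(371,[56,56,44,44,38,38,44,56,38],[]),(371,[56,56,44,44,38,44,56,38,38],[])]),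
  ([46,50,58], [(372,[],[]),(372,[56,56,41,44,56,41,41],[]),(372,[56,56,41,41,44,56,41],[])]),
  ([43,46,50,58], [(373,[],[]),(373,[56,56,41,44,56,41,41],[]),(373,[56,56,41,41,44,56,41],[])]),
  ([44,46,50,58], [(374,[],[]),(374,[56,56,41,44,56,41,41],[]),(374,[56,56,41,41,44,56,41],[])]),
  ([47,50,58], [(377,[],[]),(377,[56,56,41,41,44,56,41],[]),(377,[56,56,41,44,56,41,41],[])]),
  ([43,47,50,58], [(378,[],[]),(378,[56,56,41,41,44,56,41],[]),(378,[56,56,41,44,56,41,41],[])]),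
  ([44,47,50,58], [(379,[],[]),(379,[56,56,41,41,44,56,41],[]),(379,[56,56,41,44,56,41,41],[])]),
  ([59], [(382,[],[]),(382,[41,41,38,44,41,38,38],[]),(382,[41,41,38,38,44,41,38],[])]),
  ([37,59], [(383,[],[]),(383,[44,56,41,44,41,38,44,41],[]),(383,[44,41,44,41,38,38,44,41,38],[])]),
  ([38,59], [(384,[],[]),(384,[41,44,41,38,44,56,41,44],[]),(384,[44,56,41,44,41,38,38,44,41],[])]),
  ([40,59], [(385,[],[]),(385,[44,56,38,44,41,38,44,38],[]),(385,[44,41,38,44,41,41,38,44,38],[])]),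
  ([37,40,59], [(386,[],[]),(386,[44,41,38,44,56,41,38,44],[]),(386,[44,56,41,44,38,44],[])]),
  ([38,40,59], [(387,[],[]),(387,[44,56,41,44,38,38,44],[]),(387,[44,56,44,41,38,44,38],[])]),
  ([41,59], [(388,[],[]),(388,[38,44,41,38,44,56,38,44],[]),(388,[44,56,38,44,41,41,38,44,38],[])]),
  ([37,41,59], [(389,[],[]),(389,[44,56,41,41,44,38,44],[]),(389,[44,56,44,41,38,44,41],[])]),
  ([38,41,59], [(390,[],[]),(390,[44,56,44,41,41,38,44,38],[]),(390,[44,41,44,56,38,44],[])]),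
  ([46,59], [(391,[],[]),(391,[56,56,41,44,56,41,41],[]),(391,[56,56,41,41,44,56,41],[])]),
  ([40,46,59], [(392,[],[]),(392,[56,56,44,44,41,44,56,41,41],[]),(392,[56,56,44,44,41,41,44,56,41],[])]),
  ([37,40,46,59], [(393,[],[]),(393,[44,44,56,38,44,41,41],[]),(393,[56,56,44,56,44,41,38,44],[])]),
  ([38,40,46,59], [(394,[],[]),(394,[56,56,44,56,38,44,41,38,44],[]),(394,[41,44,56,38,44,44],[])]),
  ([41,46,59], [(395,[],[]),(395,[56,56,44,44,41,44,56,41,41],[]),(395,[56,56,44,44,41,41,44,56,41],[])]),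
  ([37,41,46,59], [(396,[],[]),(396,[56,56,44,56,44,41,41,38,44],[]),(396,[44,44,56,38,44,41],[])]),
  ([38,41,46,59], [(397,[],[]),(397,[41,41,44,56,38,44,44],[]),(397,[56,44,44,56,38,44,56,41],[])]),
  ([47,59], [(398,[],[]),(398,[56,41,44,41,41,38],[]),(398,[56,41,41,44,41,38],[])]),
  ([40,47,59], [(399,[],[]),(399,[56,44,44,41,44,41,41,38],[]),(399,[56,44,44,41,41,44,41,38],[])]),
  ([37,40,47,59], [(400,[],[]),(400,[41,44,56,44,38,44,38],[]),(400,[56,44,41,41,44,41,38,44],[])]),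
  ([38,40,47,59], [(401,[],[]),(401,[56,41,44,56,44,38,44],[]),(401,[56,44,41,41,44,38,44,41],[])]),
  ([41,47,59], [(402,[],[]),(402,[56,44,44,41,44,41,41,38],[]),(402,[56,44,44,41,41,44,41,38],[])]),
  ([37,41,47,59], [(403,[],[]),(403,[44,56,56,41,44,38,44],[]),(403,[56,44,41,41,44,38,44,41],[])]),
  ([38,41,47,59], [(404,[],[]),(404,[44,44,56,41,38,44,38],[]),(404,[56,44,41,41,44,41,38,44],[])]),
  ([49,59], [(405,[],[]),(405,[56,56,38,44,56,38,38],[]),(405,[56,56,38,38,44,56,38],[])]),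
  ([37,49,59], [(406,[],[]),(406,[56,56,44,44,38,44,56,38,38],[]),(406,[56,56,44,44,38,38,44,56,38],[])]),
  ([38,49,59], [(407,[],[]),(407,[56,56,44,44,38,44,56,38,38],[]),(407,[56,56,44,44,38,38,44,56,38],[])])
]

theorem rows30_ok : rows30.all (chkRow 11) = true := by decide +kernel

end Cfsg.Lib.D4Three
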