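import Cfsg.Agent.Lib.D4Three.Check

/-! A part of the tree at level 11. -/

set_option autoImplicit false
set_option maxRecDepth 100000

namespace Cfsg.Lib.D4Three

def rows31 : List (List Nat × List (Nat × List Nat × List Nat)) := [
  ([46,49,59], [(408,[],[]),(408,[56,56,41,44,56,41,41],[]),(408,[56,56,41,41,44,56,41],[])]),
  ([43,46,49,59], [(409,[],[]),(409,[56,56,41,44,56,41,41],[]),(409,[56,56,41,41,44,56,41],[])]),
  ([44,46,49,59], [(410,[],[]),(410,[56,56,41,44,56,41,41],[]),(410,[56,56,41,41,44,56,41],[])]),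
  ([47,49,59], [(411,[],[]),(411,[56,56,41,41,44,56,41],[]),(411,[56,56,41,44,56,41,41],[])]),
  ([43,47,49,59], [(412,[],[]),(412,[56,56,41,41,44,56,41],[]),(412,[56,56,41,44,56,41,41],[])]),
  ([44,47,49,59], [(413,[],[]),(413,[56,56,41,41,44,56,41],[]),(413,[56,56,41,44,56,41,41],[])]),
  ([50,59], [(414,[],[]),(414,[56,38,44,41,38,38],[]),(414,[56,38,38,44,41,38],[])]),
  ([37,50,59], [(415,[],[]),(415,[56,44,44,38,44,41,38,38],[]),(415,[56,44,44,38,38,44,41,38],[])]),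
  ([38,50,59], [(416,[],[]),(416,[56,44,44,38,44,41,38,38],[]),(416,[56,44,44,38,38,44,41,38],[])]),
  ([46,50,59], [(417,[],[]),(417,[56,56,41,44,56,41,41],[]),(417,[56,56,41,41,44,56,41],[])]),
  ([43,46,50,59], [(418,[],[]),(418,[56,56,41,44,56,41,41],[]),(418,[56,56,41,41,44,56,41],[])]),
  ([44,46,50,59], [(419,[],[]),(419,[56,56,41,44,56,41,41],[]),(419,[56,56,41,41,44,56,41],[])]),
  ([47,50,59], [(420,[],[]),(420,[56,56,41,41,44,56,41],[]),(420,[56,56,41,44,56,41,41],[])]),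
  ([43,47,50,59], [(421,[],[]),(421,[56,56,41,41,44,56,41],[]),(421,[56,56,41,44,56,41,41],[])]),
  ([44,47,50,59], [(422,[],[]),(422,[56,56,41,41,44,56,41],[]),(422,[56,56,41,44,56,41,41],[])]),
  ([52], [(423,[],[]),(423,[56,56,44,56],[]),(423,[56,44,56,56],[])]),
  ([55,52], [(424,[],[]),(424,[56,56,44,56,44,44],[]),(424,[56,56,44,44,56,44],[])]),
  ([37,55,52], [(425,[],[]),(425,[56,56,44,56,44,38,44],[]),(425,[56,56,44,38,44,56,44],[])]),
  ([38,55,52], [(426,[],[]),(426,[56,56,44,56,38,44,44],[]),(426,[56,56,44,44,56,38,44],[])]),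
  ([40,55,52], [(427,[],[]),(427,[56,56,44,56,44,41,44],[]),(427,[56,56,44,41,44,56,44],[])]),
  ([41,55,52], [(428,[],[]),(428,[56,56,44,56,41,44,44],[]),(428,[56,56,44,44,56,41,44],[])]),
  ([56,52], [(429,[],[]),(429,[56,56,44,56,44,44],[]),(429,[56,56,44,44,56,44],[])]),
  ([37,56,52], [(430,[],[]),(430,[56,56,44,56,38,44,44],[]),(430,[56,56,44,44,56,38,44],[])]),
  ([38,56,52], [(431,[],[]),(431,[56,56,44,56,44,38,44],[]),(431,[56,56,44,38,44,56,44],[])]),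
  ([40,56,52], [(432,[],[]),(432,[56,56,44,56,41,44,44],[]),(432,[56,56,44,44,56,41,44],[])]),
  ([41,56,52], [(433,[],[]),(433,[56,56,44,56,44,41,44],[]),(433,[56,56,44,41,44,56,44],[])]),
  ([58,52], [(434,[],[]),(434,[56,56,44,56],[]),(434,[56,44,56,56],[])]),
  ([43,58,52], [(435,[],[]),(435,[56,56,44,56],[]),(435,[56,44,56,56],[])]),
  ([44,58,52], [(436,[],[]),(436,[56,56,44,56],[]),(436,[56,44,56,56],[])]),
  ([46,58,52], [(437,[],[]),(437,[56,56,44,56],[]),(437,[56,44,56,56],[])]),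
  ([43,46,58,52], [(438,[],[]),(438,[56,56,44,56],[]),(438,[56,44,56,56],[])]),
  ([44,46,58,52], [(439,[],[]),(439,[56,56,44,56],[]),(439,[56,44,56,56],[])]),
  ([47,58,52], [(440,[],[]),(440,[56,56,44,56],[]),(440,[56,44,56,56],[])]),
  ([43,47,58,52], [(441,[],[]),(441,[56,56,44,56],[]),(441,[56,44,56,56],[])]),
  ([44,47,58,52], [(442,[],[]),(442,[56,56,44,56],[]),(442,[56,44,56,56],[])]),
  ([49,58,52], [(443,[],[]),(443,[56,56,44,56],[]),(443,[56,44,56,56],[])]),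
  ([43,49,58,52], [(444,[],[]),(444,[56,56,44,56],[]),(444,[56,44,56,56],[])]),
  ([44,49,58,52], [(445,[],[]),(445,[56,56,44,56],[]),(445,[56,44,56,56],[])]),
  ([46,49,58,52], [(446,[],[]),(446,[56,56,44,56],[]),(446,[56,44,56,56],[])]),
  ([43,46,49,58,52], [(447,[],[]),(447,[56,56,44,56],[]),(447,[56,44,56,56],[])]),
  ([44,46,49,58,52], [(448,[],[]),(448,[56,56,44,56],[]),(448,[56,44,56,56],[])]),
  ([47,49,58,52], [(449,[],[]),(449,[56,56,44,56],[]),(449,[56,44,56,56],[])]),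
  ([43,47,49,58,52], [(450,[],[]),(450,[56,56,44,56],[]),(450,[56,44,56,56],[])]),
  ([44,47,49,58,52], [(451,[],[]),(451,[56,56,44,56],[]),(451,[56,44,56,56],[])]),
  ([50,58,52], [(452,[],[]),(452,[56,56,44,56],[]),(452,[56,44,56,56],[])]),
  ([43,50,58,52], [(453,[],[]),(453,[56,56,44,56],[]),(453,[56,44,56,56],[])]),
  ([44,50,58,52], [(454,[],[]),(454,[56,56,44,56],[]),(454,[56,44,56,56],[])]),
  ([46,50,58,52], [(455,[],[]),(455,[56,56,44,56],[]),(455,[56,44,56,56],[])]),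
  ([43,46,50,58,52], [(456,[],[]),(456,[56,56,44,56],[]),(456,[56,44,56,56],[])]),
  ([44,46,50,58,52], [(457,[],[]),(457,[56,56,44,56],[]),(457,[56,44,56,56],[])]),
  ([47,50,58,52], [(458,[],[]),(458,[56,56,44,56],[]),(458,[56,44,56,56],[])]),
  ([43,47,50,58,52], [(459,[],[]),(459,[56,56,44,56],[]),(459,[56,44,56,56],[])]),
  ([44,47,50,58,52], [(460,[],[]),(460,[56,56,44,56],[]),(460,[56,44,56,56],[])]),
  ([59,52], [(461,[],[]),(461,[56,56,44,56],[]),(461,[56,44,56,56],[])]),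
  ([43,59,52], [(462,[],[]),(462,[56,56,44,56],[]),(462,[56,44,56,56],[])]),
  ([44,59,52], [(463,[],[]),(463,[56,56,44,56],[]),(463,[56,44,56,56],[])]),
  ([46,59,52], [(464,[],[]),(464,[56,56,44,56],[]),(464,[56,44,56,56],[])]),
  ([43,46,59,52], [(465,[],[]),(465,[56,56,44,56],[]),(465,[56,44,56,56],[])]),
  ([44,46,59,52], [(466,[],[]),(466,[56,56,44,56],[]),(466,[56,44,56,56],[])]),
  ([47,59,52], [(467,[],[]),(467,[56,56,44,56],[]),(467,[56,44,56,56],[])]),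
  ([43,47,59,52], [(468,[],[]),(468,[56,56,44,56],[]),(468,[56,44,56,56],[])]),
  ([44,47,59,52], [(469,[],[]),(469,[56,56,44,56],[]),(469,[56,44,56,56],[])]),
  ([49,59,52], [(470,[],[]),(470,[56,56,44,56],[]),(470,[56,44,56,56],[])]),
  ([43,49,59,52], [(471,[],[]),(471,[56,56,44,56],[]),(471,[56,44,56,56],[])]),
  ([44,49,59,52], [(472,[],[]),(472,[56,56,44,56],[]),(472,[56,44,56,56],[])]),
  ([46,49,59,52], [(473,[],[]),(473,[56,56,44,56],[]),(473,[56,44,56,56],[])]),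
  ([43,46,49,59,52], [(474,[],[]),(474,[56,56,44,56],[]),(474,[56,44,56,56],[])]),
  ([47,49,59,52], [(475,[],[]),(475,[56,56,44,56],[]),(475,[56,44,56,56],[])]),
  ([44,47,49,59,52], [(476,[],[]),(476,[56,56,44,56],[]),(476,[56,44,56,56],[])]),
  ([50,59,52], [(477,[],[]),(477,[56,56,44,56],[]),(477,[56,44,56,56],[])]),
  ([43,50,59,52], [(478,[],[]),(478,[56,56,44,56],[]),(478,[56,44,56,56],[])]),
  ([44,50,59,52], [(479,[],[]),(479,[56,56,44,56],[]),(479,[56,44,56,56],[])]),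
  ([46,50,59,52], [(480,[],[]),(480,[56,56,44,56],[]),(480,[56,44,56,56],[])]),
  ([44,46,50,59,52], [(481,[],[]),(481,[56,56,44,56],[]),(481,[56,44,56,56],[])]),
  ([47,50,59,52], [(482,[],[]),(482,[56,56,44,56],[]),(482,[56,44,56,56],[])]),
  ([43,47,50,59,52], [(483,[],[]),(483,[56,56,44,56],[]),(483,[56,44,56,56],[])]),
  ([53], [(484,[],[]),(484,[56,44,56,56],[]),(484,[56,56,44,56],[])]),
  ([55,53], [(485,[],[]),(485,[56,56,44,44,56,44],[]),(485,[56,56,44,56,44,44],[])]),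
  ([37,55,53], [(486,[],[]),(486,[56,56,44,38,44,56,44],[]),(486,[56,56,44,56,44,38,44],[])]),
  ([38,55,53], [(487,[],[]),(487,[56,56,44,44,56,38,44],[]),(487,[56,56,44,56,38,44,44],[])]),
  ([40,55,53], [(488,[],[]),(488,[56,56,44,41,44,56,44],[]),(488,[56,56,44,56,44,41,44],[])]),
  ([41,55,53], [(489,[],[]),(489,[56,56,44,44,56,41,44],[]),(489,[56,56,44,56,41,44,44],[])]),
  ([56,53], [(490,[],[]),(490,[56,56,44,44,56,44],[]),(490,[56,56,44,56,44,44],[])]),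
  ([37,56,53], [(491,[],[]),(491,[56,56,44,44,56,38,44],[]),(491,[56,56,44,56,38,44,44],[])]),
  ([38,56,53], [(492,[],[]),(492,[56,56,44,38,44,56,44],[]),(492,[56,56,44,56,44,38,44],[])]),
  ([40,56,53], [(493,[],[]),(493,[56,56,44,44,56,41,44],[]),(493,[56,56,44,56,41,44,44],[])]),
  ([41,56,53], [(494,[],[]),(494,[56,56,44,41,44,56,44],[]),(494,[56,56,44,56,44,41,44],[])]),
  ([58,53], [(495,[],[]),(495,[56,44,56,56],[]),(495,[56,56,44,56],[])]),
  ([43,58,53], [(496,[],[]),(496,[56,44,56,56],[]),(496,[56,56,44,56],[])]),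
  ([44,58,53], [(497,[],[]),(497,[56,44,56,56],[]),(497,[56,56,44,56],[])]),
  ([46,58,53], [(498,[],[]),(498,[56,44,56,56],[]),(498,[56,56,44,56],[])]),
  ([43,46,58,53], [(499,[],[]),(499,[56,44,56,56],[]),(499,[56,56,44,56],[])]),
  ([44,46,58,53], [(500,[],[]),(500,[56,44,56,56],[]),(500,[56,56,44,56],[])]),
  ([47,58,53], [(501,[],[]),(501,[56,44,56,56],[]),(501,[56,56,44,56],[])]),
  ([43,47,58,53], [(502,[],[]),(502,[56,44,56,56],[]),(502,[56,56,44,56],[])]),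
  ([44,47,58,53], [(503,[],[]),(503,[56,44,56,56],[]),(503,[56,56,44,56],[])]),
  ([49,58,53], [(504,[],[]),(504,[56,44,56,56],[]),(504,[56,56,44,56],[])]),
  ([43,49,58,53], [(505,[],[]),(505,[56,44,56,56],[]),(505,[56,56,44,56],[])]),
  ([44,49,58,53], [(506,[],[]),(506,[56,44,56,56],[]),(506,[56,56,44,56],[])]),
  ([43,46,49,58,53], [(507,[],[]),(507,[56,44,56,56],[]),(507,[56,56,44,56],[])])
]

theorem rows31_ok : rows31.all (chkRow 11) = true := by decide +kernel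

end Cfsg.Lib.D4Three
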