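import Cfsg.Agent.Lib.D4Three.Check

/-! A part of the tree at level 11. -/

set_option autoImplicit false
set_option maxRecDepth 100000

namespace Cfsg.Lib.D4Three

def rows32 : List (List Nat × List (Nat × List Nat × List Nat)) := [
  ([44,46,49,58,53], [(508,[],[]),(508,[56,44,56,56],[]),(508,[56,56,44,56],[])]),
  ([43,47,49,58,53], [(509,[],[]),(509,[56,44,56,56],[]),(509,[56,56,44,56],[])]),
  ([44,47,49,58,53], [(510,[],[]),(510,[56,44,56,56],[]),(510,[56,56,44,56],[])]),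
  ([50,58,53], [(511,[],[]),(511,[56,44,56,56],[]),(511,[56,56,44,56],[])]),
  ([43,50,58,53], [(512,[],[]),(512,[56,44,56,56],[]),(512,[56,56,44,56],[])]),
  ([44,50,58,53], [(513,[],[]),(513,[56,44,56,56],[]),(513,[56,56,44,56],[])]),
  ([43,46,50,58,53], [(514,[],[]),(514,[56,44,56,56],[]),(514,[56,56,44,56],[])]),
  ([44,46,50,58,53], [(515,[],[]),(515,[56,44,56,56],[]),(515,[56,56,44,56],[])]),
  ([43,47,50,58,53], [(516,[],[]),(516,[56,44,56,56],[]),(516,[56,56,44,56],[])]),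
  ([44,47,50,58,53], [(517,[],[]),(517,[56,44,56,56],[]),(517,[56,56,44,56],[])]),
  ([59,53], [(518,[],[]),(518,[56,44,56,56],[]),(518,[56,56,44,56],[])]),
  ([43,59,53], [(519,[],[]),(519,[56,44,56,56],[]),(519,[56,56,44,56],[])]),
  ([44,59,53], [(520,[],[]),(520,[56,44,56,56],[]),(520,[56,56,44,56],[])]),
  ([46,59,53], [(521,[],[]),(521,[56,44,56,56],[]),(521,[56,56,44,56],[])]),
  ([43,46,59,53], [(522,[],[]),(522,[56,44,56,56],[]),(522,[56,56,44,56],[])]),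
  ([44,46,59,53], [(523,[],[]),(523,[56,44,56,56],[]),(523,[56,56,44,56],[])]),
  ([47,59,53], [(524,[],[]),(524,[56,44,56,56],[]),(524,[56,56,44,56],[])]),
  ([43,47,59,53], [(525,[],[]),(525,[56,44,56,56],[]),(525,[56,56,44,56],[])]),
  ([44,47,59,53], [(526,[],[]),(526,[56,44,56,56],[]),(526,[56,56,44,56],[])]),
  ([49,59,53], [(527,[],[]),(527,[56,44,56,56],[]),(527,[56,56,44,56],[])]),
  ([43,49,59,53], [(528,[],[]),(528,[56,44,56,56],[]),(528,[56,56,44,56],[])]),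
  ([44,49,59,53], [(529,[],[]),(529,[56,44,56,56],[]),(529,[56,56,44,56],[])]),
  ([44,46,49,59,53], [(530,[],[]),(530,[56,44,56,56],[]),(530,[56,56,44,56],[])]),
  ([43,47,49,59,53], [(531,[],[]),(531,[56,44,56,56],[]),(531,[56,56,44,56],[])]),
  ([50,59,53], [(532,[],[]),(532,[56,44,56,56],[]),(532,[56,56,44,56],[])]),
  ([43,50,59,53], [(533,[],[]),(533,[56,44,56,56],[]),(533,[56,56,44,56],[])]),
  ([44,50,59,53], [(534,[],[]),(534,[56,44,56,56],[]),(534,[56,56,44,56],[])]),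
  ([43,46,50,59,53], [(535,[],[]),(535,[56,44,56,56],[]),(535,[56,56,44,56],[])]),
  ([44,47,50,59,53], [(536,[],[]),(536,[56,44,56,56],[]),(536,[56,56,44,56],[])]),
  ([61], [(537,[],[]),(537,[41,44,41,41],[]),(537,[41,41,44,41],[])]),
  ([40,61], [(538,[],[]),(538,[44,44,41,44,41,41],[]),(538,[44,44,41,41,44,41],[])]),
  ([37,40,61], [(539,[],[]),(539,[44,56,38,44,56,41,44],[]),(539,[44,56,41,44,56,38,44],[])]),
  ([38,40,61], [(540,[],[]),(540,[44,44,41,38,44,41,41],[]),(540,[44,41,41,38,44,41,44],[])]),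
  ([41,61], [(541,[],[]),(541,[44,44,41,44,41,41],[]),(541,[44,44,41,41,44,41],[])]),
  ([37,41,61], [(542,[],[]),(542,[44,44,41,38,44,41,41],[]),(542,[44,41,41,38,44,41,44],[])]),
  ([38,41,61], [(543,[],[]),(543,[44,41,41,38,44,44,41],[]),(543,[44,44,41,41,38,44,41],[])]),
  ([49,61], [(544,[],[]),(544,[41,44,41,41],[]),(544,[41,41,44,41],[])]),
  ([43,49,61], [(545,[],[]),(545,[41,44,41,41],[]),(545,[41,41,44,41],[])]),
  ([44,49,61], [(546,[],[]),(546,[41,44,41,41],[]),(546,[41,41,44,41],[])]),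
  ([46,49,61], [(547,[],[]),(547,[41,44,41,41],[]),(547,[41,41,44,41],[])]),
  ([47,49,61], [(548,[],[]),(548,[41,44,41,41],[]),(548,[41,41,44,41],[])]),
  ([50,61], [(549,[],[]),(549,[41,44,41,41],[]),(549,[41,41,44,41],[])]),
  ([43,50,61], [(550,[],[]),(550,[41,44,41,41],[]),(550,[41,41,44,41],[])]),
  ([44,50,61], [(551,[],[]),(551,[41,44,41,41],[]),(551,[41,41,44,41],[])]),
  ([46,50,61], [(552,[],[]),(552,[41,44,41,41],[]),(552,[41,41,44,41],[])]),
  ([47,50,61], [(553,[],[]),(553,[41,44,41,41],[]),(553,[41,41,44,41],[])]),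
  ([52,61], [(554,[],[]),(554,[41,44,56],[]),(554,[56,44,41],[])]),
  ([43,52,61], [(557,[],[]),(557,[56,56,44,56],[]),(557,[56,44,56,56],[])]),
  ([44,52,61], [(558,[],[]),(558,[56,56,44,56],[]),(558,[56,44,56,56],[])]),
  ([46,52,61], [(559,[],[]),(559,[56,56,44,56],[]),(559,[56,44,56,56],[])]),
  ([47,52,61], [(560,[],[]),(560,[56,56,44,56],[]),(560,[56,44,56,56],[])]),
  ([53,61], [(573,[],[]),(573,[56,44,56,56],[]),(573,[56,56,44,56],[])]),
  ([43,53,61], [(576,[],[]),(576,[56,44,56,56],[]),(576,[56,56,44,56],[])]),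
  ([44,53,61], [(577,[],[]),(577,[56,44,56,56],[]),(577,[56,56,44,56],[])]),
  ([46,53,61], [(578,[],[]),(578,[56,44,56,56],[]),(578,[56,56,44,56],[])]),
  ([47,53,61], [(579,[],[]),(579,[56,44,56,56],[]),(579,[56,56,44,56],[])]),
  ([62], [(584,[],[]),(584,[41,41,44,41],[]),(584,[41,44,41,41],[])]),
  ([40,62], [(585,[],[]),(585,[44,44,41,41,44,41],[]),(585,[44,44,41,44,41,41],[])]),
  ([37,40,62], [(586,[],[]),(586,[44,44,41,41,38,44,41],[]),(586,[44,41,41,38,44,44,41],[])]),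
  ([38,40,62], [(587,[],[]),(587,[44,41,41,38,44,41,44],[]),(587,[44,44,41,38,44,41,41],[])]),
  ([41,62], [(588,[],[]),(588,[44,44,41,41,44,41],[]),(588,[44,44,41,44,41,41],[])]),
  ([37,41,62], [(589,[],[]),(589,[44,41,41,38,44,41,44],[]),(589,[44,44,41,38,44,41,41],[])]),
  ([38,41,62], [(590,[],[]),(590,[44,56,41,44,56,38,44],[]),(590,[44,56,38,44,56,41,44],[])]),
  ([49,62], [(591,[],[]),(591,[41,41,44,41],[]),(591,[41,44,41,41],[])]),
  ([43,49,62], [(592,[],[]),(592,[41,41,44,41],[]),(592,[41,44,41,41],[])]),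
  ([44,49,62], [(593,[],[]),(593,[41,41,44,41],[]),(593,[41,44,41,41],[])]),
  ([46,49,62], [(594,[],[]),(594,[41,41,44,41],[]),(594,[41,44,41,41],[])]),
  ([47,49,62], [(595,[],[]),(595,[41,41,44,41],[]),(595,[41,44,41,41],[])]),
  ([50,62], [(596,[],[]),(596,[41,41,44,41],[]),(596,[41,44,41,41],[])]),
  ([43,50,62], [(597,[],[]),(597,[41,41,44,41],[]),(597,[41,44,41,41],[])]),
  ([44,50,62], [(598,[],[]),(598,[41,41,44,41],[]),(598,[41,44,41,41],[])]),
  ([46,50,62], [(599,[],[]),(599,[41,41,44,41],[]),(599,[41,44,41,41],[])]),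
  ([47,50,62], [(600,[],[]),(600,[41,41,44,41],[]),(600,[41,44,41,41],[])]),
  ([52,62], [(601,[],[]),(601,[56,56,44,56],[]),(601,[56,44,56,56],[])]),
  ([43,52,62], [(602,[],[]),(602,[56,56,44,56],[]),(602,[56,44,56,56],[])]),
  ([44,52,62], [(603,[],[]),(603,[56,56,44,56],[]),(603,[56,44,56,56],[])]),
  ([53,62], [(604,[],[]),(604,[56,44,41],[]),(604,[41,44,56],[])]),
  ([43,53,62], [(605,[],[]),(605,[56,44,56,56],[]),(605,[56,56,44,56],[])]),
  ([44,53,62], [(606,[],[]),(606,[56,44,56,56],[]),(606,[56,56,44,56],[])]),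
  ([64], [(607,[],[]),(607,[38,44,38,38],[]),(607,[38,38,44,38],[])]),
  ([37,64], [(608,[],[]),(608,[44,44,38,44,38,38],[]),(608,[44,44,38,38,44,38],[])]),
  ([38,64], [(609,[],[]),(609,[44,44,38,44,38,38],[]),(609,[44,44,38,38,44,38],[])]),
  ([46,64], [(610,[],[]),(610,[38,44,38,38],[]),(610,[38,38,44,38],[])]),
  ([43,46,64], [(611,[],[]),(611,[38,44,38,38],[]),(611,[38,38,44,38],[])]),
  ([44,46,64], [(612,[],[]),(612,[38,44,38,38],[]),(612,[38,38,44,38],[])]),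
  ([47,64], [(613,[],[]),(613,[38,44,38,38],[]),(613,[38,38,44,38],[])]),
  ([43,47,64], [(614,[],[]),(614,[38,44,38,38],[]),(614,[38,38,44,38],[])]),
  ([44,47,64], [(615,[],[]),(615,[38,44,38,38],[]),(615,[38,38,44,38],[])]),
  ([52,64], [(616,[],[]),(616,[38,44,56],[]),(616,[56,44,38],[])]),
  ([43,52,64], [(619,[],[]),(619,[56,56,44,56],[]),(619,[56,44,56,56],[])]),
  ([44,52,64], [(620,[],[]),(620,[56,56,44,56],[]),(620,[56,44,56,56],[])]),
  ([49,52,64], [(621,[],[]),(621,[56,56,44,56],[]),(621,[56,44,56,56],[])]),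
  ([50,52,64], [(622,[],[]),(622,[56,56,44,56],[]),(622,[56,44,56,56],[])]),
  ([53,64], [(627,[],[]),(627,[56,44,56,56],[]),(627,[56,56,44,56],[])]),
  ([43,53,64], [(630,[],[]),(630,[56,44,56,56],[]),(630,[56,56,44,56],[])]),
  ([44,53,64], [(631,[],[]),(631,[56,44,56,56],[]),(631,[56,56,44,56],[])]),
  ([49,53,64], [(632,[],[]),(632,[56,44,56,56],[]),(632,[56,56,44,56],[])]),
  ([50,53,64], [(633,[],[]),(633,[56,44,56,56],[]),(633,[56,56,44,56],[])]),
  ([61,64], [(638,[],[]),(638,[41,44,41,41],[]),(638,[41,41,44,41],[])]),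
  ([43,61,64], [(639,[],[]),(639,[41,44,41,41],[]),(639,[41,41,44,41],[])])
]

theorem rows32_ok : rows32.all (chkRow 11) = true := by decide +kernel

end Cfsg.Lib.D4Three
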