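import Cfsg.Agent.Lib.D4Three.Check

/-! A part of the tree at level 11. -/

set_option autoImplicit false
set_option maxRecDepth 100000

namespace Cfsg.Lib.D4Three

def rows33 : List (List Nat × List (Nat × List Nat × List Nat)) := [
  ([44,61,64], [(640,[],[]),(640,[41,44,41,41],[]),(640,[41,41,44,41],[])]),
  ([58,61,64], [(647,[],[]),(647,[41,44,41,41],[]),(647,[41,41,44,41],[])]),
  ([59,61,64], [(648,[],[]),(648,[41,44,41,41],[]),(648,[41,41,44,41],[])]),
  ([52,61,64], [(649,[],[]),(649,[41,44,56],[]),(649,[56,44,41],[])]),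
  ([44,52,61,64], [(650,[],[]),(650,[56,56,44,56],[]),(650,[56,44,56,56],[])]),
  ([43,46,52,61,64], [(651,[],[]),(651,[56,56,44,56],[]),(651,[56,44,56,56],[])]),
  ([43,47,52,61,64], [(652,[],[]),(652,[56,56,44,56],[]),(652,[56,44,56,56],[])]),
  ([46,49,52,61,64], [(653,[],[]),(653,[56,56,44,56],[]),(653,[56,44,56,56],[])]),
  ([44,46,49,52,61,64], [(654,[],[]),(654,[56,56,44,56],[]),(654,[56,44,56,56],[])]),
  ([43,47,49,52,61,64], [(655,[],[]),(655,[56,56,44,56],[]),(655,[56,44,56,56],[])]),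
  ([47,50,52,61,64], [(656,[],[]),(656,[56,56,44,56],[]),(656,[56,44,56,56],[])]),
  ([44,47,50,52,61,64], [(657,[],[]),(657,[56,56,44,56],[]),(657,[56,44,56,56],[])]),
  ([46,58,52,61,64], [(658,[],[]),(658,[38,44,56],[]),(658,[56,44,38],[])]),
  ([44,46,58,52,61,64], [(659,[],[]),(659,[56,56,44,56],[]),(659,[56,44,56,56],[])]),
  ([43,47,58,52,61,64], [(660,[],[]),(660,[56,56,44,56],[]),(660,[56,44,56,56],[])]),
  ([49,58,52,61,64], [(661,[],[]),(661,[41,44,56],[]),(661,[56,44,41],[])]),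
  ([44,49,58,52,61,64], [(662,[],[]),(662,[56,56,44,56],[]),(662,[56,44,56,56],[])]),
  ([43,46,49,58,52,61,64], [(663,[],[]),(663,[56,56,44,56],[]),(663,[56,44,56,56],[])]),
  ([44,46,49,58,52,61,64], [(664,[],[]),(664,[56,56,44,56],[]),(664,[56,44,56,56],[])]),
  ([47,49,58,52,61,64], [(665,[],[]),(665,[56,56,44,56],[]),(665,[56,44,56,56],[])]),
  ([44,47,49,58,52,61,64], [(666,[],[]),(666,[56,56,44,56],[]),(666,[56,44,56,56],[])]),
  ([43,50,58,52,61,64], [(667,[],[]),(667,[56,56,44,56],[]),(667,[56,44,56,56],[])]),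
  ([46,50,58,52,61,64], [(668,[],[]),(668,[56,56,44,56],[]),(668,[56,44,56,56],[])]),
  ([43,46,50,58,52,61,64], [(669,[],[]),(669,[56,56,44,56],[]),(669,[56,44,56,56],[])]),
  ([47,50,58,52,61,64], [(670,[],[]),(670,[56,56,44,56],[]),(670,[56,44,56,56],[])]),
  ([43,47,50,58,52,61,64], [(671,[],[]),(671,[56,56,44,56],[]),(671,[56,44,56,56],[])]),
  ([47,59,52,61,64], [(672,[],[]),(672,[38,44,56],[]),(672,[56,44,38],[])]),
  ([44,47,59,52,61,64], [(673,[],[]),(673,[56,56,44,56],[]),(673,[56,44,56,56],[])]),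
  ([46,49,59,52,61,64], [(674,[],[]),(674,[56,56,44,56],[]),(674,[56,44,56,56],[])]),
  ([47,49,59,52,61,64], [(675,[],[]),(675,[56,56,44,56],[]),(675,[56,44,56,56],[])]),
  ([50,59,52,61,64], [(676,[],[]),(676,[41,44,56],[]),(676,[56,44,41],[])]),
  ([44,50,59,52,61,64], [(677,[],[]),(677,[56,56,44,56],[]),(677,[56,44,56,56],[])]),
  ([46,50,59,52,61,64], [(678,[],[]),(678,[56,56,44,56],[]),(678,[56,44,56,56],[])]),
  ([44,46,50,59,52,61,64], [(679,[],[]),(679,[56,56,44,56],[]),(679,[56,44,56,56],[])]),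
  ([43,47,50,59,52,61,64], [(680,[],[]),(680,[56,56,44,56],[]),(680,[56,44,56,56],[])]),
  ([44,47,50,59,52,61,64], [(681,[],[]),(681,[56,56,44,56],[]),(681,[56,44,56,56],[])]),
  ([53,61,64], [(682,[],[]),(682,[56,44,56,56],[]),(682,[56,56,44,56],[])]),
  ([46,49,53,61,64], [(683,[],[]),(683,[56,44,56,56],[]),(683,[56,56,44,56],[])]),
  ([47,50,53,61,64], [(684,[],[]),(684,[56,44,56,56],[]),(684,[56,56,44,56],[])]),
  ([44,46,58,53,61,64], [(685,[],[]),(685,[56,44,56,56],[]),(685,[56,56,44,56],[])]),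
  ([47,58,53,61,64], [(686,[],[]),(686,[56,44,56,56],[]),(686,[56,56,44,56],[])]),
  ([43,47,58,53,61,64], [(687,[],[]),(687,[56,44,56,56],[]),(687,[56,56,44,56],[])]),
  ([44,49,58,53,61,64], [(688,[],[]),(688,[56,44,56,56],[]),(688,[56,56,44,56],[])]),
  ([46,49,58,53,61,64], [(689,[],[]),(689,[56,44,56,56],[]),(689,[56,56,44,56],[])]),
  ([44,46,49,58,53,61,64], [(690,[],[]),(690,[56,44,56,56],[]),(690,[56,56,44,56],[])]),
  ([44,47,49,58,53,61,64], [(691,[],[]),(691,[56,44,56,56],[]),(691,[56,56,44,56],[])]),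
  ([50,58,53,61,64], [(692,[],[]),(692,[56,44,56,56],[]),(692,[56,56,44,56],[])]),
  ([43,50,58,53,61,64], [(693,[],[]),(693,[56,44,56,56],[]),(693,[56,56,44,56],[])]),
  ([43,46,50,58,53,61,64], [(694,[],[]),(694,[56,44,56,56],[]),(694,[56,56,44,56],[])]),
  ([43,47,50,58,53,61,64], [(695,[],[]),(695,[56,44,56,56],[]),(695,[56,56,44,56],[])]),
  ([44,47,50,58,53,61,64], [(696,[],[]),(696,[56,44,56,56],[]),(696,[56,56,44,56],[])]),
  ([46,59,53,61,64], [(697,[],[]),(697,[56,44,56,56],[]),(697,[56,56,44,56],[])]),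
  ([43,46,59,53,61,64], [(698,[],[]),(698,[56,44,56,56],[]),(698,[56,56,44,56],[])]),
  ([49,59,53,61,64], [(699,[],[]),(699,[56,44,56,56],[]),(699,[56,56,44,56],[])]),
  ([43,49,59,53,61,64], [(700,[],[]),(700,[56,44,56,56],[]),(700,[56,56,44,56],[])]),
  ([43,46,49,59,53,61,64], [(701,[],[]),(701,[56,44,56,56],[]),(701,[56,56,44,56],[])]),
  ([44,46,49,59,53,61,64], [(702,[],[]),(702,[56,44,56,56],[]),(702,[56,56,44,56],[])]),
  ([43,47,49,59,53,61,64], [(703,[],[]),(703,[56,44,56,56],[]),(703,[56,56,44,56],[])]),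
  ([47,50,59,53,61,64], [(704,[],[]),(704,[56,44,56,56],[]),(704,[56,56,44,56],[])]),
  ([62,64], [(705,[],[]),(705,[38,44,41],[]),(705,[41,44,38],[])]),
  ([43,62,64], [(706,[],[]),(706,[41,41,44,41],[]),(706,[41,44,41,41],[])]),
  ([44,62,64], [(707,[],[]),(707,[41,41,44,41],[]),(707,[41,44,41,41],[])]),
  ([58,62,64], [(714,[],[]),(714,[41,41,44,41],[]),(714,[41,44,41,41],[])]),
  ([59,62,64], [(715,[],[]),(715,[41,41,44,41],[]),(715,[41,44,41,41],[])]),
  ([52,62,64], [(716,[],[]),(716,[38,44,56],[]),(716,[56,44,38],[])]),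
  ([47,49,52,62,64], [(717,[],[]),(717,[38,44,41],[]),(717,[41,44,38],[])]),
  ([46,50,52,62,64], [(718,[],[]),(718,[38,44,41],[]),(718,[41,44,38],[])]),
  ([46,58,52,62,64], [(719,[],[]),(719,[38,44,56],[]),(719,[56,44,38],[])]),
  ([44,49,58,52,62,64], [(720,[],[]),(720,[56,56,44,56],[]),(720,[56,44,56,56],[])]),
  ([44,46,49,58,52,62,64], [(721,[],[]),(721,[56,56,44,56],[]),(721,[56,44,56,56],[])]),
  ([44,47,49,58,52,62,64], [(722,[],[]),(722,[56,56,44,56],[]),(722,[56,44,56,56],[])]),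
  ([50,58,52,62,64], [(723,[],[]),(723,[56,56,44,56],[]),(723,[56,44,56,56],[])]),
  ([47,59,52,62,64], [(724,[],[]),(724,[38,44,56],[]),(724,[56,44,38],[])]),
  ([49,59,52,62,64], [(725,[],[]),(725,[56,56,44,56],[]),(725,[56,44,56,56],[])]),
  ([53,62,64], [(726,[],[]),(726,[56,44,41],[]),(726,[41,44,56],[])]),
  ([47,49,53,62,64], [(727,[],[]),(727,[38,44,41],[]),(727,[41,44,38],[])]),
  ([46,50,53,62,64], [(728,[],[]),(728,[38,44,41],[]),(728,[41,44,38],[])]),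
  ([47,58,53,62,64], [(729,[],[]),(729,[56,44,56,56],[]),(729,[56,56,44,56],[])]),
  ([49,58,53,62,64], [(730,[],[]),(730,[56,44,41],[]),(730,[41,44,56],[])]),
  ([43,50,58,53,62,64], [(731,[],[]),(731,[56,44,56,56],[]),(731,[56,56,44,56],[])]),
  ([43,46,50,58,53,62,64], [(732,[],[]),(732,[56,44,56,56],[]),(732,[56,56,44,56],[])]),
  ([43,47,50,58,53,62,64], [(733,[],[]),(733,[56,44,56,56],[]),(733,[56,56,44,56],[])]),
  ([46,59,53,62,64], [(734,[],[]),(734,[56,44,56,56],[]),(734,[56,56,44,56],[])]),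
  ([50,59,53,62,64], [(735,[],[]),(735,[56,44,41],[]),(735,[41,44,56],[])]),
  ([65], [(736,[],[]),(736,[38,38,44,38],[]),(736,[38,44,38,38],[])]),
  ([37,65], [(737,[],[]),(737,[44,44,38,38,44,38],[]),(737,[44,44,38,44,38,38],[])]),
  ([38,65], [(738,[],[]),(738,[44,44,38,38,44,38],[]),(738,[44,44,38,44,38,38],[])]),
  ([46,65], [(739,[],[]),(739,[38,38,44,38],[]),(739,[38,44,38,38],[])]),
  ([47,65], [(740,[],[]),(740,[38,38,44,38],[]),(740,[38,44,38,38],[])]),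
  ([52,65], [(741,[],[]),(741,[56,56,44,56],[]),(741,[56,44,56,56],[])]),
  ([53,65], [(742,[],[]),(742,[56,44,38],[]),(742,[38,44,56],[])]),
  ([61,65], [(743,[],[]),(743,[41,44,38],[]),(743,[38,44,41],[])]),
  ([52,61,65], [(744,[],[]),(744,[41,44,56],[]),(744,[56,44,41],[])]),
  ([53,61,65], [(745,[],[]),(745,[56,44,38],[]),(745,[38,44,56],[])]),
  ([62,65], [(746,[],[]),(746,[41,41,44,41],[]),(746,[41,44,41,41],[])]),
  ([52,62,65], [(747,[],[]),(747,[56,56,44,56],[]),(747,[56,44,56,56],[])]),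
  ([53,62,65], [(748,[],[]),(748,[56,44,41],[]),(748,[41,44,56],[])]),
  ([67], [(749,[],[]),(749,[44],[]),(749,[44,44],[])]),
  ([68], [(750,[],[]),(750,[44,44],[]),(750,[44],[])])
]

theorem rows33_ok : rows33.all (chkRow 11) = true := by decide +kernel

end Cfsg.Lib.D4Three
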