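import Cfsg.Agent.Lib.D4Three.Check

/-! A part of the tree at level 4. -/

set_option autoImplicit false
set_option maxRecDepth 100000

namespace Cfsg.Lib.D4Three

def rows4 : List (List Nat × List (Nat × List Nat × List Nat)) := [
  ([], [(0,[],[]),(81,[],[]),(90,[],[])]),
  ([37], [(1,[],[]),(1,[44,44],[]),(1,[44],[])]),
  ([38], [(2,[],[]),(2,[44],[]),(2,[44,44],[])]),
  ([40], [(3,[],[]),(82,[],[]),(91,[],[])]),
  ([37,40], [(4,[],[]),(4,[44,44],[50,52]),(4,[44],[49,53])]),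
  ([38,40], [(5,[],[]),(5,[44],[49,52]),(5,[44,44],[50,53])]),
  ([41], [(6,[],[]),(83,[],[]),(92,[],[])]),
  ([37,41], [(7,[],[]),(7,[44,44],[49,53]),(7,[44],[50,52])]),
  ([38,41], [(8,[],[]),(8,[44],[50,53]),(8,[44,44],[49,52])]),
  ([43], [(9,[],[]),(9,[38],[]),(9,[38,38],[])]),
  ([37,43], [(10,[],[]),(10,[38],[]),(10,[44],[])]),
  ([38,43], [(11,[],[]),(11,[44],[]),(11,[44,44],[])]),
  ([40,43], [(12,[],[]),(12,[38],[]),(12,[38,38],[])]),
  ([37,40,43], [(13,[],[]),(13,[38],[]),(13,[44],[49,53])]),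
  ([38,40,43], [(14,[],[]),(14,[44],[49,52]),(14,[44,44],[50,53])]),
  ([41,43], [(15,[],[]),(15,[38],[]),(15,[38,38],[])]),
  ([37,41,43], [(16,[],[]),(16,[38],[]),(16,[44],[50,52])]),
  ([38,41,43], [(17,[],[]),(17,[44],[50,53]),(17,[44,44],[49,52])]),
  ([44], [(18,[],[]),(18,[38,38],[]),(18,[38],[])]),
  ([37,44], [(19,[],[]),(19,[44,44],[]),(19,[44],[])]),
  ([38,44], [(20,[],[]),(20,[44],[]),(20,[38],[])]),
  ([40,44], [(21,[],[]),(21,[38,38],[]),(21,[38],[])]),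
  ([37,40,44], [(22,[],[]),(22,[44,44],[50,52]),(22,[44],[49,53])]),
  ([38,40,44], [(23,[],[]),(23,[44],[49,52]),(23,[38],[])]),
  ([41,44], [(24,[],[]),(24,[38,38],[]),(24,[38],[])]),
  ([37,41,44], [(25,[],[]),(25,[44,44],[49,53]),(25,[44],[50,52])]),
  ([38,41,44], [(26,[],[]),(26,[44],[50,53]),(26,[38],[])]),
  ([55], [(27,[],[]),(84,[],[]),(93,[],[])]),
  ([37,55], [(28,[],[]),(28,[44,44],[58,62]),(28,[44],[59,61])]),
  ([38,55], [(29,[],[]),(29,[44],[59,62]),(29,[44,44],[58,61])]),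
  ([40,55], [(30,[],[]),(85,[],[]),(94,[],[])]),
  ([37,40,55], [(31,[],[]),(31,[44,44],[50,58,52,62,65,67,70]),(31,[44],[49,59,53,61,64,68,70])]),
  ([38,40,55], [(32,[],[]),(32,[44],[49,59,52,62,64,67,71]),(32,[44,44],[50,58,53,61,65,68,71])]),
  ([41,55], [(33,[],[]),(86,[],[]),(95,[],[])]),
  ([37,41,55], [(34,[],[]),(34,[44,44],[49,58,53,62,64,68,71]),(34,[44],[50,59,52,61,65,67,71])]),
  ([38,41,55], [(35,[],[]),(35,[44],[50,59,53,62,65,68,70]),(35,[44,44],[49,58,52,61,64,67,70])]),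
  ([43,55], [(36,[],[]),(36,[38],[62]),(36,[38,38],[61])]),
  ([37,43,55], [(37,[],[]),(37,[38],[62]),(37,[44],[59,61])]),
  ([38,43,55], [(38,[],[]),(38,[44],[59,62]),(38,[44,44],[58,61])]),
  ([40,43,55], [(39,[],[]),(39,[38],[62]),(39,[38,38],[61])]),
  ([37,40,43,55], [(40,[],[]),(40,[38],[62]),(40,[44],[49,59,53,61,64,68,70])]),
  ([38,40,43,55], [(41,[],[]),(41,[44],[49,59,52,62,64,67,71]),(41,[44,44],[50,58,53,61,65,68,71])]),
  ([41,43,55], [(42,[],[]),(42,[38],[62]),(42,[38,38],[61])]),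
  ([37,41,43,55], [(43,[],[]),(43,[38],[62]),(43,[44],[50,59,52,61,65,67,71])]),
  ([38,41,43,55], [(44,[],[]),(44,[44],[50,59,53,62,65,68,70]),(44,[44,44],[49,58,52,61,64,67,70])]),
  ([44,55], [(45,[],[]),(45,[38,38],[62]),(45,[38],[61])]),
  ([37,44,55], [(46,[],[]),(46,[44,44],[58,62]),(46,[44],[59,61])]),
  ([38,44,55], [(47,[],[]),(47,[44],[59,62]),(47,[38],[61])]),
  ([40,44,55], [(48,[],[]),(48,[38,38],[62]),(48,[38],[61])]),
  ([37,40,44,55], [(49,[],[]),(49,[44,44],[50,58,52,62,65,67,70]),(49,[44],[49,59,53,61,64,68,70])]),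
  ([38,40,44,55], [(50,[],[]),(50,[44],[49,59,52,62,64,67,71]),(50,[38],[61])]),
  ([41,44,55], [(51,[],[]),(51,[38,38],[62]),(51,[38],[61])]),
  ([37,41,44,55], [(52,[],[]),(52,[44,44],[49,58,53,62,64,68,71]),(52,[44],[50,59,52,61,65,67,71])]),
  ([38,41,44,55], [(53,[],[]),(53,[44],[50,59,53,62,65,68,70]),(53,[38],[61])]),
  ([56], [(54,[],[]),(87,[],[]),(96,[],[])]),
  ([37,56], [(55,[],[]),(55,[44,44],[59,61]),(55,[44],[58,62])]),
  ([38,56], [(56,[],[]),(56,[44],[58,61]),(56,[44,44],[59,62])]),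
  ([40,56], [(57,[],[]),(88,[],[]),(97,[],[])]),
  ([37,40,56], [(58,[],[]),(58,[44,44],[50,59,52,61,64,68,71]),(58,[44],[49,58,53,62,65,67,71])]),
  ([38,40,56], [(59,[],[]),(59,[44],[49,58,52,61,65,68,70]),(59,[44,44],[50,59,53,62,64,67,70])]),
  ([41,56], [(60,[],[]),(89,[],[]),(98,[],[])]),
  ([37,41,56], [(61,[],[]),(61,[44,44],[49,59,53,61,65,67,70]),(61,[44],[50,58,52,62,64,68,70])]),
  ([38,41,56], [(62,[],[]),(62,[44],[50,58,53,61,64,67,71]),(62,[44,44],[49,59,52,62,65,68,71])]),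
  ([43,56], [(63,[],[]),(63,[38],[61]),(63,[38,38],[62])]),
  ([37,43,56], [(64,[],[]),(64,[38],[61]),(64,[44],[58,62])]),
  ([38,43,56], [(65,[],[]),(65,[44],[58,61]),(65,[44,44],[59,62])]),
  ([40,43,56], [(66,[],[]),(66,[38],[61]),(66,[38,38],[62])]),
  ([37,40,43,56], [(67,[],[]),(67,[38],[61]),(67,[44],[49,58,53,62,65,67,71])]),
  ([38,40,43,56], [(68,[],[]),(68,[44],[49,58,52,61,65,68,70]),(68,[44,44],[50,59,53,62,64,67,70])]),
  ([41,43,56], [(69,[],[]),(69,[38],[61]),(69,[38,38],[62])]),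
  ([37,41,43,56], [(70,[],[]),(70,[38],[61]),(70,[44],[50,58,52,62,64,68,70])]),
  ([38,41,43,56], [(71,[],[]),(71,[44],[50,58,53,61,64,67,71]),(71,[44,44],[49,59,52,62,65,68,71])]),
  ([44,56], [(72,[],[]),(72,[38,38],[61]),(72,[38],[62])]),
  ([37,44,56], [(73,[],[]),(73,[44,44],[59,61]),(73,[44],[58,62])]),
  ([38,44,56], [(74,[],[]),(74,[44],[58,61]),(74,[38],[62])]),
  ([40,44,56], [(75,[],[]),(75,[38,38],[61]),(75,[38],[62])]),
  ([37,40,44,56], [(76,[],[]),(76,[44,44],[50,59,52,61,64,68,71]),(76,[44],[49,58,53,62,65,67,71])]),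
  ([38,40,44,56], [(77,[],[]),(77,[44],[49,58,52,61,65,68,70]),(77,[38],[62])]),
  ([41,44,56], [(78,[],[]),(78,[38,38],[61]),(78,[38],[62])]),
  ([37,41,44,56], [(79,[],[]),(79,[44,44],[49,59,53,61,65,67,70]),(79,[44],[50,58,52,62,64,68,70])]),
  ([38,41,44,56], [(80,[],[]),(80,[44],[50,58,53,61,64,67,71]),(80,[38],[62])])
]

theorem rows4_ok : rows4.all (chkRow 4) = true := by decide +kernel

end Cfsg.Lib.D4Three
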