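import Cfsg.Agent.Lib.D4Three.Check

/-! A part of the tree at level 5. -/

set_option autoImplicit false
set_option maxRecDepth 100000

namespace Cfsg.Lib.D4Three

def rows5 : List (List Nat × List (Nat × List Nat × List Nat)) := [
  ([], [(0,[],[]),(123,[],[]),(138,[],[])]),
  ([37], [(1,[],[]),(124,[],[]),(139,[],[])]),
  ([38], [(2,[],[]),(125,[],[]),(140,[],[])]),
  ([40], [(3,[],[]),(3,[44,44],[]),(3,[44],[])]),
  ([37,40], [(4,[],[]),(104,[44,44],[52]),(83,[44],[53])]),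
  ([38,40], [(5,[],[]),(84,[44,44],[53]),(105,[44],[52])]),
  ([41], [(6,[],[]),(6,[44],[]),(6,[44,44],[])]),
  ([37,41], [(7,[],[]),(86,[44],[52]),(107,[44,44],[53])]),
  ([38,41], [(8,[],[]),(108,[44],[53]),(87,[44,44],[52])]),
  ([43], [(9,[],[]),(9,[41],[]),(9,[41,41],[])]),
  ([37,43], [(10,[],[]),(10,[41],[]),(10,[41,41],[])]),
  ([38,43], [(11,[],[]),(11,[41],[]),(11,[41,41],[])]),
  ([40,43], [(12,[],[]),(12,[41],[]),(12,[44],[])]),
  ([37,40,43], [(13,[],[]),(13,[41],[]),(13,[44,38],[])]),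
  ([38,40,43], [(14,[],[]),(14,[41],[]),(14,[41,41],[])]),
  ([41,43], [(15,[],[]),(15,[44],[]),(15,[44,44],[])]),
  ([37,41,43], [(16,[],[]),(16,[41],[]),(16,[41,41],[])]),
  ([38,41,43], [(17,[],[]),(17,[41],[]),(17,[41,41],[])]),
  ([44], [(18,[],[]),(18,[41,41],[]),(18,[41],[])]),
  ([37,44], [(19,[],[]),(19,[41,41],[]),(19,[41],[])]),
  ([38,44], [(20,[],[]),(20,[41,41],[]),(20,[41],[])]),
  ([40,44], [(21,[],[]),(21,[44,44],[]),(21,[44],[])]),
  ([37,40,44], [(22,[],[]),(22,[41,41],[]),(22,[41],[])]),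
  ([38,40,44], [(23,[],[]),(23,[41,41],[]),(23,[41],[])]),
  ([41,44], [(24,[],[]),(24,[44],[]),(24,[41],[])]),
  ([37,41,44], [(25,[],[]),(25,[41,41],[]),(25,[41],[])]),
  ([38,41,44], [(26,[],[]),(26,[44,38],[52]),(26,[41],[])]),
  ([55], [(27,[],[]),(126,[],[]),(141,[],[])]),
  ([37,55], [(28,[],[]),(127,[],[]),(142,[],[])]),
  ([38,55], [(29,[],[]),(128,[],[]),(143,[],[])]),
  ([40,55], [(30,[],[]),(30,[44,44],[58,65]),(30,[44],[59,64])]),
  ([37,40,55], [(31,[],[]),(111,[44,44],[58,52,62,65,67,70]),(90,[44],[59,53,61,64,68,70])]),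
  ([38,40,55], [(32,[],[]),(91,[44,44],[58,53,61,65,68,71]),(112,[44],[59,52,62,64,67,71])]),
  ([41,55], [(33,[],[]),(33,[44],[59,65]),(33,[44,44],[58,64])]),
  ([37,41,55], [(34,[],[]),(93,[44],[59,52,61,65,67,71]),(114,[44,44],[58,53,62,64,68,71])]),
  ([38,41,55], [(35,[],[]),(115,[44],[59,53,62,65,68,70]),(94,[44,44],[58,52,61,64,67,70])]),
  ([43,55], [(36,[],[]),(36,[41],[65]),(36,[41,41],[64])]),
  ([37,43,55], [(37,[],[]),(37,[41],[65]),(37,[41,41],[64])]),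
  ([38,43,55], [(38,[],[]),(38,[41],[65]),(38,[41,41],[64])]),
  ([40,43,55], [(39,[],[]),(39,[41],[65]),(39,[44],[59,64])]),
  ([37,40,43,55], [(40,[],[]),(40,[41],[65]),(40,[44,38],[59,64,68,70])]),
  ([38,40,43,55], [(41,[],[]),(41,[41],[65]),(41,[41,41],[64])]),
  ([41,43,55], [(42,[],[]),(42,[44],[59,65]),(42,[44,44],[58,64])]),
  ([37,41,43,55], [(43,[],[]),(43,[41],[65]),(43,[41,41],[64])]),
  ([38,41,43,55], [(44,[],[]),(44,[41],[65]),(44,[41,41],[64])]),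
  ([44,55], [(45,[],[]),(45,[41,41],[65]),(45,[41],[64])]),
  ([37,44,55], [(46,[],[]),(46,[41,41],[65]),(46,[41],[64])]),
  ([38,44,55], [(47,[],[]),(47,[41,41],[65]),(47,[41],[64])]),
  ([40,44,55], [(48,[],[]),(48,[44,44],[58,65]),(48,[44],[59,64])]),
  ([37,40,44,55], [(49,[],[]),(49,[41,41],[65]),(49,[41],[64])]),
  ([38,40,44,55], [(50,[],[]),(50,[41,41],[65]),(50,[41],[64])]),
  ([41,44,55], [(51,[],[]),(51,[44],[59,65]),(51,[41],[64])]),
  ([37,41,44,55], [(52,[],[]),(52,[41,41],[65]),(52,[41],[64])]),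
  ([38,41,44,55], [(53,[],[]),(53,[44,38],[59,52,65,68,70]),(53,[41],[64])]),
  ([56], [(54,[],[]),(129,[],[]),(144,[],[])]),
  ([37,56], [(55,[],[]),(130,[],[]),(145,[],[])]),
  ([38,56], [(56,[],[]),(131,[],[]),(146,[],[])]),
  ([40,56], [(57,[],[]),(57,[44,44],[59,64]),(57,[44],[58,65])]),
  ([37,40,56], [(58,[],[]),(118,[44,44],[59,52,61,64,68,71]),(97,[44],[58,53,62,65,67,71])]),
  ([38,40,56], [(59,[],[]),(98,[44,44],[59,53,62,64,67,70]),(119,[44],[58,52,61,65,68,70])]),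
  ([41,56], [(60,[],[]),(60,[44],[58,64]),(60,[44,44],[59,65])]),
  ([37,41,56], [(61,[],[]),(100,[44],[58,52,62,64,68,70]),(121,[44,44],[59,53,61,65,67,70])]),
  ([38,41,56], [(62,[],[]),(122,[44],[58,53,61,64,67,71]),(101,[44,44],[59,52,62,65,68,71])]),
  ([43,56], [(63,[],[]),(63,[41],[64]),(63,[41,41],[65])]),
  ([37,43,56], [(64,[],[]),(64,[41],[64]),(64,[41,41],[65])]),
  ([38,43,56], [(65,[],[]),(65,[41],[64]),(65,[41,41],[65])]),
  ([40,43,56], [(66,[],[]),(66,[41],[64]),(66,[44],[58,65])]),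
  ([37,40,43,56], [(67,[],[]),(67,[41],[64]),(67,[44,38],[58,65,67,71])]),
  ([38,40,43,56], [(68,[],[]),(68,[41],[64]),(68,[41,41],[65])]),
  ([41,43,56], [(69,[],[]),(69,[44],[58,64]),(69,[44,44],[59,65])]),
  ([37,41,43,56], [(70,[],[]),(70,[41],[64]),(70,[41,41],[65])]),
  ([38,41,43,56], [(71,[],[]),(71,[41],[64]),(71,[41,41],[65])]),
  ([44,56], [(72,[],[]),(72,[41,41],[64]),(72,[41],[65])]),
  ([37,44,56], [(73,[],[]),(73,[41,41],[64]),(73,[41],[65])]),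
  ([38,44,56], [(74,[],[]),(74,[41,41],[64]),(74,[41],[65])]),
  ([40,44,56], [(75,[],[]),(75,[44,44],[59,64]),(75,[44],[58,65])]),
  ([37,40,44,56], [(76,[],[]),(76,[41,41],[64]),(76,[41],[65])]),
  ([38,40,44,56], [(77,[],[]),(77,[41,41],[64]),(77,[41],[65])]),
  ([41,44,56], [(78,[],[]),(78,[44],[58,64]),(78,[41],[65])]),
  ([37,41,44,56], [(79,[],[]),(79,[41,41],[64]),(79,[41],[65])]),
  ([38,41,44,56], [(80,[],[]),(80,[44,38],[58,52,64,67,71]),(80,[41],[65])]),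
  ([46], [(81,[],[]),(132,[],[]),(147,[],[])]),
  ([40,46], [(82,[],[]),(82,[44,44],[]),(82,[44],[])]),
  ([41,46], [(85,[],[]),(85,[44],[]),(85,[44,44],[])]),
  ([55,46], [(88,[],[]),(133,[],[]),(148,[],[])]),
  ([40,55,46], [(89,[],[]),(89,[44,44],[58,65,71]),(89,[44],[59,64,70])]),
  ([41,55,46], [(92,[],[]),(92,[44],[59,65,71]),(92,[44,44],[58,64,70])]),
  ([56,46], [(95,[],[]),(134,[],[]),(149,[],[])]),
  ([40,56,46], [(96,[],[]),(96,[44,44],[59,64,70]),(96,[44],[58,65,71])]),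
  ([41,56,46], [(99,[],[]),(99,[44],[58,64,70]),(99,[44,44],[59,65,71])]),
  ([47], [(102,[],[]),(135,[],[]),(150,[],[])]),
  ([40,47], [(103,[],[]),(103,[44,44],[]),(103,[44],[])]),
  ([41,47], [(106,[],[]),(106,[44],[]),(106,[44,44],[])]),
  ([55,47], [(109,[],[]),(136,[],[]),(151,[],[])]),
  ([40,55,47], [(110,[],[]),(110,[44,44],[58,65,70]),(110,[44],[59,64,71])]),
  ([41,55,47], [(113,[],[]),(113,[44],[59,65,70]),(113,[44,44],[58,64,71])]),
  ([56,47], [(116,[],[]),(137,[],[]),(152,[],[])]),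
  ([40,56,47], [(117,[],[]),(117,[44,44],[59,64,71]),(117,[44],[58,65,70])]),
  ([41,56,47], [(120,[],[]),(120,[44],[58,64,71]),(120,[44,44],[59,65,70])])
]

theorem rows5_ok : rows5.all (chkRow 5) = true := by decide +kernel

end Cfsg.Lib.D4Three
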