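import Cfsg.Agent.Lib.D4Three.Check

/-! A part of the tree at level 6. -/

set_option autoImplicit false
set_option maxRecDepth 100000

namespace Cfsg.Lib.D4Three

def rows6 : List (List Nat × List (Nat × List Nat × List Nat)) := [
  ([], [(0,[],[]),(249,[],[]),(282,[],[])]),
  ([37], [(1,[],[]),(250,[],[]),(283,[],[])]),
  ([38], [(2,[],[]),(251,[],[]),(284,[],[])]),
  ([40], [(3,[],[]),(252,[],[]),(285,[],[])]),
  ([37,40], [(4,[],[]),(253,[],[]),(286,[],[])]),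
  ([38,40], [(5,[],[]),(254,[],[]),(287,[],[])]),
  ([41], [(6,[],[]),(255,[],[]),(288,[],[])]),
  ([37,41], [(7,[],[]),(256,[],[]),(289,[],[])]),
  ([38,41], [(8,[],[]),(257,[],[]),(290,[],[])]),
  ([43], [(9,[],[]),(9,[56,56],[]),(9,[56],[])]),
  ([37,43], [(10,[],[]),(10,[56,56],[]),(10,[56],[])]),
  ([38,43], [(11,[],[]),(11,[56,56],[]),(11,[56],[])]),
  ([40,43], [(12,[],[]),(12,[56,56],[]),(12,[56],[])]),
  ([37,40,43], [(13,[],[]),(13,[56,56],[]),(13,[56],[])]),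
  ([38,40,43], [(14,[],[]),(14,[56,56],[]),(14,[56],[])]),
  ([41,43], [(15,[],[]),(15,[56,56],[]),(15,[56],[])]),
  ([37,41,43], [(16,[],[]),(16,[56,56],[]),(16,[56],[])]),
  ([38,41,43], [(17,[],[]),(17,[56,56],[]),(17,[56],[])]),
  ([44], [(18,[],[]),(18,[56],[]),(18,[56,56],[])]),
  ([37,44], [(19,[],[]),(19,[56],[]),(19,[56,56],[])]),
  ([38,44], [(20,[],[]),(20,[56],[]),(20,[56,56],[])]),
  ([40,44], [(21,[],[]),(21,[56],[]),(21,[56,56],[])]),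
  ([37,40,44], [(22,[],[]),(22,[56],[]),(22,[56,56],[])]),
  ([38,40,44], [(23,[],[]),(23,[56],[]),(23,[56,56],[])]),
  ([41,44], [(24,[],[]),(24,[56],[]),(24,[56,56],[])]),
  ([37,41,44], [(25,[],[]),(25,[56],[]),(25,[56,56],[])]),
  ([38,41,44], [(26,[],[]),(26,[56],[]),(26,[56,56],[])]),
  ([55], [(27,[],[]),(27,[44],[]),(27,[44,44],[])]),
  ([37,55], [(28,[],[]),(89,[44],[61]),(114,[44,44],[62])]),
  ([38,55], [(29,[],[]),(115,[44],[62]),(90,[44,44],[61])]),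
  ([40,55], [(30,[],[]),(137,[44],[64]),(196,[44,44],[65])]),
  ([37,40,55], [(31,[],[]),(157,[44],[53,61,64,68,70]),(235,[44,44],[52,62,65,67,70])]),
  ([38,40,55], [(32,[],[]),(177,[44],[52,62,64,67,71]),(217,[44,44],[53,61,65,68,71])]),
  ([41,55], [(33,[],[]),(199,[44],[65]),(140,[44,44],[64])]),
  ([37,41,55], [(34,[],[]),(219,[44],[52,61,65,67,71]),(179,[44,44],[53,62,64,68,71])]),
  ([38,41,55], [(35,[],[]),(239,[44],[53,62,65,68,70]),(161,[44,44],[52,61,64,67,70])]),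
  ([43,55], [(36,[],[]),(36,[44],[]),(36,[56],[])]),
  ([37,43,55], [(37,[],[]),(37,[56,56],[]),(37,[56],[])]),
  ([38,43,55], [(38,[],[]),(38,[56,56],[]),(38,[56],[])]),
  ([40,43,55], [(39,[],[]),(39,[56,56],[]),(39,[56],[])]),
  ([37,40,43,55], [(40,[],[]),(40,[56,56],[]),(40,[56],[])]),
  ([38,40,43,55], [(41,[],[]),(41,[56,56],[]),(41,[56],[])]),
  ([41,43,55], [(42,[],[]),(42,[56,56],[]),(42,[56],[])]),
  ([37,41,43,55], [(43,[],[]),(43,[56,56],[]),(43,[56],[])]),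
  ([38,41,43,55], [(44,[],[]),(44,[56,56],[]),(44,[56],[])]),
  ([44,55], [(45,[],[]),(45,[56],[]),(45,[56,56],[])]),
  ([37,44,55], [(46,[],[]),(46,[56],[]),(46,[56,56],[])]),
  ([38,44,55], [(47,[],[]),(47,[56],[]),(47,[56,56],[])]),
  ([40,44,55], [(48,[],[]),(48,[56],[]),(48,[56,56],[])]),
  ([37,40,44,55], [(49,[],[]),(49,[56],[]),(49,[56,56],[])]),
  ([38,40,44,55], [(50,[],[]),(50,[56],[]),(50,[56,56],[])]),
  ([41,44,55], [(51,[],[]),(51,[56],[]),(51,[56,56],[])]),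
  ([37,41,44,55], [(52,[],[]),(52,[56],[]),(52,[56,56],[])]),
  ([38,41,44,55], [(53,[],[]),(53,[56],[]),(53,[56,56],[])]),
  ([56], [(54,[],[]),(54,[44,44],[]),(54,[44],[])]),
  ([37,56], [(55,[],[]),(123,[44,44],[61]),(98,[44],[62])]),
  ([38,56], [(56,[],[]),(99,[44,44],[62]),(124,[44],[61])]),
  ([40,56], [(57,[],[]),(205,[44,44],[64]),(146,[44],[65])]),
  ([37,40,56], [(58,[],[]),(244,[44,44],[52,61,64,68,71]),(166,[44],[53,62,65,67,71])]),
  ([38,40,56], [(59,[],[]),(226,[44,44],[53,62,64,67,70]),(186,[44],[52,61,65,68,70])]),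
  ([41,56], [(60,[],[]),(149,[44,44],[65]),(208,[44],[64])]),
  ([37,41,56], [(61,[],[]),(188,[44,44],[53,61,65,67,70]),(228,[44],[52,62,64,68,70])]),
  ([38,41,56], [(62,[],[]),(170,[44,44],[52,62,65,68,71]),(248,[44],[53,61,64,67,71])]),
  ([43,56], [(63,[],[]),(63,[56,56],[]),(63,[56],[])]),
  ([37,43,56], [(64,[],[]),(64,[56,56],[]),(64,[56],[])]),
  ([38,43,56], [(65,[],[]),(65,[56,56],[]),(65,[56],[])]),
  ([40,43,56], [(66,[],[]),(66,[56,56],[]),(66,[56],[])]),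
  ([37,40,43,56], [(67,[],[]),(67,[56,56],[]),(67,[56],[])]),
  ([38,40,43,56], [(68,[],[]),(68,[56,56],[]),(68,[56],[])]),
  ([41,43,56], [(69,[],[]),(69,[56,56],[]),(69,[56],[])]),
  ([37,41,43,56], [(70,[],[]),(70,[56,56],[]),(70,[56],[])]),
  ([38,41,43,56], [(71,[],[]),(71,[56,56],[]),(71,[56],[])]),
  ([44,56], [(72,[],[]),(72,[56],[]),(72,[44],[])]),
  ([37,44,56], [(73,[],[]),(73,[56],[]),(73,[56,56],[])]),
  ([38,44,56], [(74,[],[]),(74,[56],[]),(74,[56,56],[])]),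
  ([40,44,56], [(75,[],[]),(75,[56],[]),(75,[56,56],[])]),
  ([37,40,44,56], [(76,[],[]),(76,[56],[]),(76,[56,56],[])]),
  ([38,40,44,56], [(77,[],[]),(77,[56],[]),(77,[56,56],[])]),
  ([41,44,56], [(78,[],[]),(78,[56],[]),(78,[56,56],[])]),
  ([37,41,44,56], [(79,[],[]),(79,[56],[]),(79,[56,56],[])]),
  ([38,41,44,56], [(80,[],[]),(80,[56],[]),(80,[56,56],[])]),
  ([46], [(81,[],[]),(258,[],[]),(291,[],[])]),
  ([40,46], [(82,[],[]),(259,[],[]),(292,[],[])]),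
  ([37,40,46], [(83,[],[]),(260,[],[]),(293,[],[])]),
  ([38,40,46], [(84,[],[]),(261,[],[]),(294,[],[])]),
  ([41,46], [(85,[],[]),(262,[],[]),(295,[],[])]),
  ([37,41,46], [(86,[],[]),(263,[],[]),(296,[],[])]),
  ([38,41,46], [(87,[],[]),(264,[],[]),(297,[],[])]),
  ([55,46], [(88,[],[]),(88,[44],[]),(88,[44,44],[])]),
  ([40,55,46], [(91,[],[]),(156,[44],[64,70]),(215,[44,44],[65,71])]),
  ([37,40,55,46], [(92,[],[]),(176,[44],[53,61,64,68,71]),(197,[44,44],[52,62,65,67])]),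
  ([38,40,55,46], [(93,[],[]),(139,[44],[52,62,64,67]),(236,[44,44],[53,61,65,68,70])]),
  ([41,55,46], [(94,[],[]),(218,[44],[65,71]),(159,[44,44],[64,70])]),
  ([37,41,55,46], [(95,[],[]),(238,[44],[52,61,65,67,70]),(141,[44,44],[53,62,64,68])]),
  ([38,41,55,46], [(96,[],[]),(201,[44],[53,62,65,68]),(180,[44,44],[52,61,64,67,71])]),
  ([56,46], [(97,[],[]),(97,[44,44],[]),(97,[44],[])]),
  ([40,56,46], [(100,[],[]),(224,[44,44],[64,70]),(165,[44],[65,71])]),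
  ([37,40,56,46], [(101,[],[]),(206,[44,44],[52,61,64,68]),(185,[44],[53,62,65,67,70])]),
  ([38,40,56,46], [(102,[],[]),(245,[44,44],[53,62,64,67,71]),(148,[44],[52,61,65,68])]),
  ([41,56,46], [(103,[],[]),(168,[44,44],[65,71]),(227,[44],[64,70])])
]

theorem rows6_ok : rows6.all (chkRow 6) = true := by decide +kernel

end Cfsg.Lib.D4Three
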