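import Cfsg.Agent.Lib.D4Three.Check

/-! A part of the tree at level 6. -/

set_option autoImplicit false
set_option maxRecDepth 100000

namespace Cfsg.Lib.D4Three

def rows7 : List (List Nat × List (Nat × List Nat × List Nat)) := [
  ([37,41,56,46], [(104,[],[]),(150,[44,44],[53,61,65,67]),(247,[44],[52,62,64,68,71])]),
  ([38,41,56,46], [(105,[],[]),(189,[44,44],[52,62,65,68,70]),(210,[44],[53,61,64,67])]),
  ([47], [(106,[],[]),(265,[],[]),(298,[],[])]),
  ([40,47], [(107,[],[]),(266,[],[]),(299,[],[])]),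
  ([37,40,47], [(108,[],[]),(267,[],[]),(300,[],[])]),
  ([38,40,47], [(109,[],[]),(268,[],[]),(301,[],[])]),
  ([41,47], [(110,[],[]),(269,[],[]),(302,[],[])]),
  ([37,41,47], [(111,[],[]),(270,[],[]),(303,[],[])]),
  ([38,41,47], [(112,[],[]),(271,[],[]),(304,[],[])]),
  ([55,47], [(113,[],[]),(113,[44],[]),(113,[44,44],[])]),
  ([40,55,47], [(116,[],[]),(175,[44],[64,71]),(234,[44,44],[65,70])]),
  ([37,40,55,47], [(117,[],[]),(138,[44],[53,61,64,68]),(216,[44,44],[52,62,65,67,71])]),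
  ([38,40,55,47], [(118,[],[]),(158,[44],[52,62,64,67,70]),(198,[44,44],[53,61,65,68])]),
  ([41,55,47], [(119,[],[]),(237,[44],[65,70]),(178,[44,44],[64,71])]),
  ([37,41,55,47], [(120,[],[]),(200,[44],[52,61,65,67]),(160,[44,44],[53,62,64,68,70])]),
  ([38,41,55,47], [(121,[],[]),(220,[44],[53,62,65,68,71]),(142,[44,44],[52,61,64,67])]),
  ([56,47], [(122,[],[]),(122,[44,44],[]),(122,[44],[])]),
  ([40,56,47], [(125,[],[]),(243,[44,44],[64,71]),(184,[44],[65,70])]),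
  ([37,40,56,47], [(126,[],[]),(225,[44,44],[52,61,64,68,70]),(147,[44],[53,62,65,67])]),
  ([38,40,56,47], [(127,[],[]),(207,[44,44],[53,62,64,67]),(167,[44],[52,61,65,68,71])]),
  ([41,56,47], [(128,[],[]),(187,[44,44],[65,70]),(246,[44],[64,71])]),
  ([37,41,56,47], [(129,[],[]),(169,[44,44],[53,61,65,67,71]),(209,[44],[52,62,64,68])]),
  ([38,41,56,47], [(130,[],[]),(151,[44,44],[52,62,65,68]),(229,[44],[53,61,64,67,70])]),
  ([49], [(131,[],[]),(272,[],[]),(305,[],[])]),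
  ([37,49], [(132,[],[]),(273,[],[]),(306,[],[])]),
  ([38,49], [(133,[],[]),(274,[],[]),(307,[],[])]),
  ([55,49], [(134,[],[]),(134,[44],[]),(134,[44,44],[])]),
  ([37,55,49], [(135,[],[]),(154,[44],[61,70]),(173,[44,44],[62,71])]),
  ([38,55,49], [(136,[],[]),(174,[44],[62,71]),(155,[44,44],[61,70])]),
  ([56,49], [(143,[],[]),(143,[44,44],[]),(143,[44],[])]),
  ([37,56,49], [(144,[],[]),(182,[44,44],[61,70]),(163,[44],[62,71])]),
  ([38,56,49], [(145,[],[]),(164,[44,44],[62,71]),(183,[44],[61,70])]),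
  ([46,49], [(152,[],[]),(275,[],[]),(308,[],[])]),
  ([55,46,49], [(153,[],[]),(153,[44],[]),(153,[44,44],[])]),
  ([56,46,49], [(162,[],[]),(162,[44,44],[]),(162,[44],[])]),
  ([47,49], [(171,[],[]),(276,[],[]),(309,[],[])]),
  ([55,47,49], [(172,[],[]),(172,[44],[]),(172,[44,44],[])]),
  ([56,47,49], [(181,[],[]),(181,[44,44],[]),(181,[44],[])]),
  ([50], [(190,[],[]),(277,[],[]),(310,[],[])]),
  ([37,50], [(191,[],[]),(278,[],[]),(311,[],[])]),
  ([38,50], [(192,[],[]),(279,[],[]),(312,[],[])]),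
  ([55,50], [(193,[],[]),(193,[44],[]),(193,[44,44],[])]),
  ([37,55,50], [(194,[],[]),(213,[44],[61,71]),(232,[44,44],[62,70])]),
  ([38,55,50], [(195,[],[]),(233,[44],[62,70]),(214,[44,44],[61,71])]),
  ([56,50], [(202,[],[]),(202,[44,44],[]),(202,[44],[])]),
  ([37,56,50], [(203,[],[]),(241,[44,44],[61,71]),(222,[44],[62,70])]),
  ([38,56,50], [(204,[],[]),(223,[44,44],[62,70]),(242,[44],[61,71])]),
  ([46,50], [(211,[],[]),(280,[],[]),(313,[],[])]),
  ([55,46,50], [(212,[],[]),(212,[44],[]),(212,[44,44],[])]),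
  ([56,46,50], [(221,[],[]),(221,[44,44],[]),(221,[44],[])]),
  ([47,50], [(230,[],[]),(281,[],[]),(314,[],[])]),
  ([55,47,50], [(231,[],[]),(231,[44],[]),(231,[44,44],[])]),
  ([56,47,50], [(240,[],[]),(240,[44,44],[]),(240,[44],[])])
]

theorem rows7_ok : rows7.all (chkRow 6) = true := by decide +kernel

end Cfsg.Lib.D4Three
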