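import Cfsg.Agent.Lib.D4Three.Check

/-! A part of the tree at level 7. -/

set_option autoImplicit false
set_option maxRecDepth 100000

namespace Cfsg.Lib.D4Three

def rows8 : List (List Nat × List (Nat × List Nat × List Nat)) := [
  ([], [(0,[],[]),(327,[],[]),(332,[],[])]),
  ([37], [(1,[],[]),(1,[44,44,41,44],[]),(1,[44,41,44,44],[])]),
  ([38], [(2,[],[]),(2,[44,41,44,44],[]),(2,[44,44,41,44],[])]),
  ([40], [(3,[],[]),(3,[44,44,38,44],[]),(3,[44,38,44,44],[])]),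
  ([37,40], [(4,[],[]),(4,[44,44,41,44],[]),(4,[44,41,44,44],[])]),
  ([38,40], [(5,[],[]),(5,[44,44,38,44],[]),(5,[44,44,41,44],[])]),
  ([41], [(6,[],[]),(6,[44,38,44,44],[]),(6,[44,44,38,44],[])]),
  ([37,41], [(7,[],[]),(7,[44,44,41,44],[]),(7,[44,44,38,44],[])]),
  ([38,41], [(8,[],[]),(8,[44,41,44,44],[]),(8,[44,44,41,44],[])]),
  ([43], [(9,[],[]),(178,[41,41,38],[]),(153,[41,41,38,38],[])]),
  ([37,43], [(10,[],[]),(10,[41,44,41,41,38],[]),(10,[41,41,44,41,38],[])]),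
  ([38,43], [(11,[],[]),(11,[44,44,41,41,44,41],[]),(11,[44,44,41,44,41,41],[])]),
  ([40,43], [(12,[],[]),(12,[41,38,44,38,38],[]),(12,[41,38,38,44,38],[])]),
  ([37,40,43], [(13,[],[]),(13,[41,44,38],[]),(13,[41,38,44],[])]),
  ([38,40,43], [(14,[],[]),(14,[41,38,38,44],[]),(14,[41,44,38,38],[])]),
  ([41,43], [(15,[],[]),(15,[44,44,38,38,44,38],[]),(15,[44,44,38,44,38,38],[])]),
  ([37,41,43], [(16,[],[]),(16,[41,44,41,38],[]),(16,[41,41,44,38],[])]),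
  ([38,41,43], [(17,[],[]),(17,[44,44,41,38],[]),(17,[44,41,38,44],[])]),
  ([44], [(18,[],[]),(154,[41,38],[]),(179,[41,38,38],[])]),
  ([37,44], [(19,[],[]),(19,[44,44,41,44,41,41],[]),(19,[44,44,41,41,44,41],[])]),
  ([38,44], [(20,[],[]),(20,[41,41,44,41,38],[]),(20,[41,44,41,41,38],[])]),
  ([40,44], [(21,[],[]),(21,[44,44,38,44,38,38],[]),(21,[44,44,38,38,44,38],[])]),
  ([37,40,44], [(22,[],[]),(22,[44,41,44,38],[]),(22,[44,41,38,44],[])]),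
  ([38,40,44], [(23,[],[]),(23,[44,41,41,38],[]),(23,[41,41,44,38],[])]),
  ([41,44], [(24,[],[]),(24,[41,38,38,44,38],[]),(24,[41,38,44,38,38],[])]),
  ([37,41,44], [(25,[],[]),(25,[44,41,38,38],[]),(25,[41,44,38,38],[])]),
  ([38,41,44], [(26,[],[]),(26,[41,44,38],[]),(26,[44,41,38],[])]),
  ([55], [(27,[],[]),(328,[],[]),(333,[],[])]),
  ([37,55], [(28,[],[]),(28,[44,44,41,44],[64,68]),(28,[44,41,44,44],[65,67])]),
  ([38,55], [(29,[],[]),(29,[44,41,44,44],[65,68]),(29,[44,44,41,44],[64,67])]),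
  ([40,55], [(30,[],[]),(30,[44,44,38,44],[61,68]),(30,[44,38,44,44],[62,67])]),
  ([37,40,55], [(31,[],[]),(31,[44,44,41,44],[64,68]),(31,[44,41,44,44],[65,67])]),
  ([38,40,55], [(32,[],[]),(32,[44,44,38,44],[61,68]),(32,[44,44,41,44],[64,67])]),
  ([41,55], [(33,[],[]),(33,[44,38,44,44],[62,68]),(33,[44,44,38,44],[61,67])]),
  ([37,41,55], [(34,[],[]),(34,[44,44,41,44],[64,68]),(34,[44,44,38,44],[61,67])]),
  ([38,41,55], [(35,[],[]),(35,[44,41,44,44],[65,68]),(35,[44,44,41,44],[64,67])]),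
  ([43,55], [(36,[],[]),(189,[41,41,38],[62,64,68,71]),(164,[41,41,38,38],[61,64,67,70])]),
  ([37,43,55], [(37,[],[]),(37,[56,41,44,41,41,38],[64,68,70]),(37,[56,41,41,44,41,38],[65,67,71])]),
  ([38,43,55], [(38,[],[]),(38,[44,44,41,41,44,41],[65,68]),(38,[44,44,41,44,41,41],[64,67])]),
  ([40,43,55], [(39,[],[]),(39,[56,41,38,44,38,38],[61,64,67,70]),(39,[56,41,38,38,44,38],[62,64,68,71])]),
  ([37,40,43,55], [(40,[],[]),(40,[56,41,44,38],[64,68,70]),(40,[56,41,38,44],[61,64,71])]),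
  ([38,40,43,55], [(41,[],[]),(41,[56,41,38,38,44],[62,64,70]),(41,[56,41,44,38,38],[64,67,71])]),
  ([41,43,55], [(42,[],[]),(42,[44,44,38,38,44,38],[62,68]),(42,[44,44,38,44,38,38],[61,67])]),
  ([37,41,43,55], [(43,[],[]),(43,[56,41,44,41,38],[64,68,70]),(43,[56,41,41,44,38],[65,67,71])]),
  ([38,41,43,55], [(44,[],[]),(44,[56,56,44,44,41,38],[68,71]),(44,[56,56,44,41,38,44],[61,64,71])]),
  ([44,55], [(45,[],[]),(165,[41,38],[61,64,68,70]),(190,[41,38,38],[62,64,67,71])]),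
  ([37,44,55], [(46,[],[]),(46,[44,44,41,44,41,41],[64,68]),(46,[44,44,41,41,44,41],[65,67])]),
  ([38,44,55], [(47,[],[]),(47,[44,44,41,41,44,41],[65,68]),(47,[44,44,41,44,41,41],[64,67])]),
  ([40,44,55], [(48,[],[]),(48,[44,44,38,44,38,38],[61,68]),(48,[44,44,38,38,44,38],[62,67])]),
  ([37,40,44,55], [(49,[],[]),(49,[56,44,41,44,38],[64,68,71]),(49,[56,44,41,38,44],[61,64,71])]),
  ([38,40,44,55], [(50,[],[]),(50,[56,56,44,41,41,38],[68,70]),(50,[56,56,41,41,44,38],[65,67,71])]),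
  ([41,44,55], [(51,[],[]),(51,[44,44,38,38,44,38],[62,68]),(51,[44,44,38,44,38,38],[61,67])]),
  ([37,41,44,55], [(52,[],[]),(52,[56,56,44,41,38,38],[68,70]),(52,[56,56,41,44,38,38],[64,67,71])]),
  ([38,41,44,55], [(53,[],[]),(53,[56,56,41,44,38],[64,68,70]),(53,[56,56,44,41,38],[67,71])]),
  ([56], [(54,[],[]),(329,[],[]),(334,[],[])]),
  ([37,56], [(55,[],[]),(55,[44,44,41,44],[65,67]),(55,[44,41,44,44],[64,68])]),
  ([38,56], [(56,[],[]),(56,[44,41,44,44],[64,67]),(56,[44,44,41,44],[65,68])]),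
  ([40,56], [(57,[],[]),(57,[44,44,38,44],[62,67]),(57,[44,38,44,44],[61,68])]),
  ([37,40,56], [(58,[],[]),(58,[44,44,41,44],[65,67]),(58,[44,41,44,44],[64,68])]),
  ([38,40,56], [(59,[],[]),(59,[44,44,38,44],[62,67]),(59,[44,44,41,44],[65,68])]),
  ([41,56], [(60,[],[]),(60,[44,38,44,44],[61,67]),(60,[44,44,38,44],[62,68])]),
  ([37,41,56], [(61,[],[]),(61,[44,44,41,44],[65,67]),(61,[44,44,38,44],[62,68])]),
  ([38,41,56], [(62,[],[]),(62,[44,41,44,44],[64,67]),(62,[44,44,41,44],[65,68])]),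
  ([43,56], [(63,[],[]),(200,[41,41,38],[61,65,67,70]),(175,[41,41,38,38],[62,65,68,71])]),
  ([37,43,56], [(64,[],[]),(64,[44,44,41,44,41,41],[65,67]),(64,[44,44,41,41,44,41],[64,68])]),
  ([38,43,56], [(65,[],[]),(65,[44,44,41,41,44,41],[64,67]),(65,[44,44,41,44,41,41],[65,68])]),
  ([40,43,56], [(66,[],[]),(66,[44,44,38,44,38,38],[62,67]),(66,[44,44,38,38,44,38],[61,68])]),
  ([37,40,43,56], [(67,[],[]),(67,[56,56,41,44,38],[65,67,71]),(67,[56,56,41,38,44],[62,65,70])]),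
  ([38,40,43,56], [(68,[],[]),(68,[56,56,41,38,38,44],[61,65,71]),(68,[56,56,41,44,38,38],[65,68,70])]),
  ([41,43,56], [(69,[],[]),(69,[44,44,38,38,44,38],[61,67]),(69,[44,44,38,44,38,38],[62,68])]),
  ([37,41,43,56], [(70,[],[]),(70,[56,56,41,44,41,38],[65,67,71]),(70,[56,56,41,41,44,38],[64,68,70])]),
  ([38,41,43,56], [(71,[],[]),(71,[56,44,44,41,38],[67,70]),(71,[56,44,41,38,44],[62,65,70])]),
  ([44,56], [(72,[],[]),(176,[41,38],[62,65,67,71]),(201,[41,38,38],[61,65,68,70])]),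
  ([37,44,56], [(73,[],[]),(73,[44,44,41,44,41,41],[65,67]),(73,[44,44,41,41,44,41],[64,68])]),
  ([38,44,56], [(74,[],[]),(74,[56,41,41,44,41,38],[64,67,71]),(74,[56,41,44,41,41,38],[65,68,70])]),
  ([40,44,56], [(75,[],[]),(75,[44,44,38,44,38,38],[62,67]),(75,[44,44,38,38,44,38],[61,68])]),
  ([37,40,44,56], [(76,[],[]),(76,[56,56,44,41,44,38],[65,67,70]),(76,[56,56,44,41,38,44],[62,65,70])]),
  ([38,40,44,56], [(77,[],[]),(77,[56,44,41,41,38],[67,71]),(77,[56,41,41,44,38],[64,68,70])]),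
  ([41,44,56], [(78,[],[]),(78,[56,41,38,38,44,38],[61,65,71]),(78,[56,41,38,44,38,38],[62,65,70])]),
  ([37,41,44,56], [(79,[],[]),(79,[56,44,41,38,38],[67,71]),(79,[56,41,44,38,38],[65,68,70])]),
  ([38,41,44,56], [(80,[],[]),(80,[56,41,44,38],[65,67,71]),(80,[56,44,41,38],[68,70])]),
  ([46], [(81,[],[]),(81,[41],[]),(81,[41,41],[])]),
  ([40,46], [(82,[],[]),(82,[41],[]),(82,[41,41],[])]),
  ([37,40,46], [(83,[],[]),(83,[41],[]),(83,[41,41],[])]),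
  ([38,40,46], [(84,[],[]),(84,[41],[]),(84,[41,41],[])]),
  ([41,46], [(85,[],[]),(85,[41],[]),(85,[41,41],[])]),
  ([37,41,46], [(86,[],[]),(86,[41],[]),(86,[41,41],[])]),
  ([38,41,46], [(87,[],[]),(87,[41],[]),(87,[41,41],[])]),
  ([55,46], [(88,[],[]),(88,[41],[]),(88,[41,41],[])]),
  ([37,55,46], [(89,[],[]),(89,[41],[]),(89,[41,41],[])]),
  ([38,55,46], [(90,[],[]),(90,[41],[]),(90,[41,41],[])]),
  ([40,55,46], [(91,[],[]),(91,[41],[]),(91,[41,41],[])]),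
  ([37,40,55,46], [(92,[],[]),(92,[41],[]),(92,[41,41],[])]),
  ([38,40,55,46], [(93,[],[]),(93,[41],[]),(93,[41,41],[])]),
  ([41,55,46], [(94,[],[]),(94,[41],[]),(94,[41,41],[])]),
  ([37,41,55,46], [(95,[],[]),(95,[41],[]),(95,[41,41],[])]),
  ([38,41,55,46], [(96,[],[]),(96,[41],[]),(96,[41,41],[])]),
  ([56,46], [(97,[],[]),(97,[41],[]),(97,[41,41],[])]),
  ([37,56,46], [(98,[],[]),(98,[41],[]),(98,[41,41],[])]),
  ([38,56,46], [(99,[],[]),(99,[41],[]),(99,[41,41],[])])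
]

theorem rows8_ok : rows8.all (chkRow 7) = true := by decide +kernel

end Cfsg.Lib.D4Three
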