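import Cfsg.Agent.Lib.D4Three.Check

/-! A part of the tree at level 7. -/

set_option autoImplicit false
set_option maxRecDepth 100000

namespace Cfsg.Lib.D4Three

def rows9 : List (List Nat × List (Nat × List Nat × List Nat)) := [
  ([40,56,46], [(100,[],[]),(100,[41],[]),(100,[41,41],[])]),
  ([37,40,56,46], [(101,[],[]),(101,[41],[]),(101,[41,41],[])]),
  ([38,40,56,46], [(102,[],[]),(102,[41],[]),(102,[41,41],[])]),
  ([41,56,46], [(103,[],[]),(103,[41],[]),(103,[41,41],[])]),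
  ([37,41,56,46], [(104,[],[]),(104,[41],[]),(104,[41,41],[])]),
  ([38,41,56,46], [(105,[],[]),(105,[41],[]),(105,[41,41],[])]),
  ([47], [(106,[],[]),(106,[41,41],[]),(106,[41],[])]),
  ([40,47], [(107,[],[]),(107,[41,41],[]),(107,[41],[])]),
  ([37,40,47], [(108,[],[]),(108,[41,41],[]),(108,[41],[])]),
  ([38,40,47], [(109,[],[]),(109,[41,41],[]),(109,[41],[])]),
  ([41,47], [(110,[],[]),(110,[41,41],[]),(110,[41],[])]),
  ([37,41,47], [(111,[],[]),(111,[41,41],[]),(111,[41],[])]),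
  ([38,41,47], [(112,[],[]),(112,[41,41],[]),(112,[41],[])]),
  ([55,47], [(113,[],[]),(113,[41,41],[]),(113,[41],[])]),
  ([37,55,47], [(114,[],[]),(114,[41,41],[]),(114,[41],[])]),
  ([38,55,47], [(115,[],[]),(115,[41,41],[]),(115,[41],[])]),
  ([40,55,47], [(116,[],[]),(116,[41,41],[]),(116,[41],[])]),
  ([37,40,55,47], [(117,[],[]),(117,[41,41],[]),(117,[41],[])]),
  ([38,40,55,47], [(118,[],[]),(118,[41,41],[]),(118,[41],[])]),
  ([41,55,47], [(119,[],[]),(119,[41,41],[]),(119,[41],[])]),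
  ([37,41,55,47], [(120,[],[]),(120,[41,41],[]),(120,[41],[])]),
  ([38,41,55,47], [(121,[],[]),(121,[41,41],[]),(121,[41],[])]),
  ([56,47], [(122,[],[]),(122,[41,41],[]),(122,[41],[])]),
  ([37,56,47], [(123,[],[]),(123,[41,41],[]),(123,[41],[])]),
  ([38,56,47], [(124,[],[]),(124,[41,41],[]),(124,[41],[])]),
  ([40,56,47], [(125,[],[]),(125,[41,41],[]),(125,[41],[])]),
  ([37,40,56,47], [(126,[],[]),(126,[41,41],[]),(126,[41],[])]),
  ([38,40,56,47], [(127,[],[]),(127,[41,41],[]),(127,[41],[])]),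
  ([41,56,47], [(128,[],[]),(128,[41,41],[]),(128,[41],[])]),
  ([37,41,56,47], [(129,[],[]),(129,[41,41],[]),(129,[41],[])]),
  ([38,41,56,47], [(130,[],[]),(130,[41,41],[]),(130,[41],[])]),
  ([49], [(131,[],[]),(131,[38],[]),(131,[38,38],[])]),
  ([37,49], [(132,[],[]),(132,[38],[]),(132,[38,38],[])]),
  ([38,49], [(133,[],[]),(133,[38],[]),(133,[38,38],[])]),
  ([55,49], [(134,[],[]),(134,[38],[]),(134,[38,38],[])]),
  ([37,55,49], [(135,[],[]),(135,[38],[]),(135,[38,38],[])]),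
  ([38,55,49], [(136,[],[]),(136,[38],[]),(136,[38,38],[])]),
  ([40,55,49], [(137,[],[]),(137,[38],[]),(137,[38,38],[])]),
  ([37,40,55,49], [(138,[],[]),(138,[38],[]),(138,[38,38],[])]),
  ([38,40,55,49], [(139,[],[]),(139,[38],[]),(139,[38,38],[])]),
  ([41,55,49], [(140,[],[]),(140,[38],[]),(140,[38,38],[])]),
  ([37,41,55,49], [(141,[],[]),(141,[38],[]),(141,[38,38],[])]),
  ([38,41,55,49], [(142,[],[]),(142,[38],[]),(142,[38,38],[])]),
  ([56,49], [(143,[],[]),(143,[38],[]),(143,[38,38],[])]),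
  ([37,56,49], [(144,[],[]),(144,[38],[]),(144,[38,38],[])]),
  ([38,56,49], [(145,[],[]),(145,[38],[]),(145,[38,38],[])]),
  ([40,56,49], [(146,[],[]),(146,[38],[]),(146,[38,38],[])]),
  ([37,40,56,49], [(147,[],[]),(147,[38],[]),(147,[38,38],[])]),
  ([38,40,56,49], [(148,[],[]),(148,[38],[]),(148,[38,38],[])]),
  ([41,56,49], [(149,[],[]),(149,[38],[]),(149,[38,38],[])]),
  ([37,41,56,49], [(150,[],[]),(150,[38],[]),(150,[38,38],[])]),
  ([38,41,56,49], [(151,[],[]),(151,[38],[]),(151,[38,38],[])]),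
  ([46,49], [(152,[],[]),(152,[41],[]),(152,[41,41],[])]),
  ([55,46,49], [(155,[],[]),(155,[41],[]),(155,[41,41],[])]),
  ([37,55,46,49], [(156,[],[]),(156,[41],[]),(156,[41,41],[])]),
  ([38,55,46,49], [(157,[],[]),(157,[41],[]),(157,[41,41],[])]),
  ([40,55,46,49], [(158,[],[]),(158,[41],[]),(158,[41,41],[])]),
  ([37,40,55,46,49], [(159,[],[]),(159,[41],[]),(159,[41,41],[])]),
  ([38,40,55,46,49], [(160,[],[]),(160,[41],[]),(160,[41,41],[])]),
  ([41,55,46,49], [(161,[],[]),(161,[41],[]),(161,[41,41],[])]),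
  ([37,41,55,46,49], [(162,[],[]),(162,[41],[]),(162,[41,41],[])]),
  ([38,41,55,46,49], [(163,[],[]),(163,[41],[]),(163,[41,41],[])]),
  ([56,46,49], [(166,[],[]),(166,[41],[]),(166,[41,41],[])]),
  ([37,56,46,49], [(167,[],[]),(167,[41],[]),(167,[41,41],[])]),
  ([38,56,46,49], [(168,[],[]),(168,[41],[]),(168,[41,41],[])]),
  ([40,56,46,49], [(169,[],[]),(169,[41],[]),(169,[41,41],[])]),
  ([37,40,56,46,49], [(170,[],[]),(170,[41],[]),(170,[41,41],[])]),
  ([38,40,56,46,49], [(171,[],[]),(171,[41],[]),(171,[41,41],[])]),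
  ([41,56,46,49], [(172,[],[]),(172,[41],[]),(172,[41,41],[])]),
  ([37,41,56,46,49], [(173,[],[]),(173,[41],[]),(173,[41,41],[])]),
  ([38,41,56,46,49], [(174,[],[]),(174,[41],[]),(174,[41,41],[])]),
  ([47,49], [(177,[],[]),(177,[38],[]),(177,[41],[])]),
  ([55,47,49], [(180,[],[]),(180,[38],[]),(180,[41],[])]),
  ([37,55,47,49], [(181,[],[]),(181,[38],[]),(181,[41],[])]),
  ([38,55,47,49], [(182,[],[]),(182,[38],[]),(182,[41],[])]),
  ([40,55,47,49], [(183,[],[]),(183,[38],[]),(183,[41],[])]),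
  ([37,40,55,47,49], [(184,[],[]),(184,[38],[]),(184,[41],[])]),
  ([38,40,55,47,49], [(185,[],[]),(185,[38],[]),(185,[41],[])]),
  ([41,55,47,49], [(186,[],[]),(186,[38],[]),(186,[41],[])]),
  ([37,41,55,47,49], [(187,[],[]),(187,[38],[]),(187,[41],[])]),
  ([38,41,55,47,49], [(188,[],[]),(188,[38],[]),(188,[41],[])]),
  ([56,47,49], [(191,[],[]),(191,[38],[]),(191,[41],[])]),
  ([37,56,47,49], [(192,[],[]),(192,[38],[]),(192,[41],[])]),
  ([38,56,47,49], [(193,[],[]),(193,[38],[]),(193,[41],[])]),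
  ([40,56,47,49], [(194,[],[]),(194,[38],[]),(194,[41],[])]),
  ([37,40,56,47,49], [(195,[],[]),(195,[38],[]),(195,[41],[])]),
  ([38,40,56,47,49], [(196,[],[]),(196,[38],[]),(196,[41],[])]),
  ([41,56,47,49], [(197,[],[]),(197,[38],[]),(197,[41],[])]),
  ([37,41,56,47,49], [(198,[],[]),(198,[38],[]),(198,[41],[])]),
  ([38,41,56,47,49], [(199,[],[]),(199,[38],[]),(199,[41],[])]),
  ([50], [(202,[],[]),(202,[38,38],[]),(202,[38],[])]),
  ([37,50], [(203,[],[]),(203,[38,38],[]),(203,[38],[])]),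
  ([38,50], [(204,[],[]),(204,[38,38],[]),(204,[38],[])]),
  ([55,50], [(205,[],[]),(205,[38,38],[]),(205,[38],[])]),
  ([37,55,50], [(206,[],[]),(206,[38,38],[]),(206,[38],[])]),
  ([38,55,50], [(207,[],[]),(207,[38,38],[]),(207,[38],[])]),
  ([40,55,50], [(208,[],[]),(208,[38,38],[]),(208,[38],[])]),
  ([37,40,55,50], [(209,[],[]),(209,[38,38],[]),(209,[38],[])]),
  ([38,40,55,50], [(210,[],[]),(210,[38,38],[]),(210,[38],[])]),
  ([41,55,50], [(211,[],[]),(211,[38,38],[]),(211,[38],[])])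
]

theorem rows9_ok : rows9.all (chkRow 7) = true := by decide +kernel

end Cfsg.Lib.D4Three
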