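import Cfsg.Agent.Lib.D4Three.Step0
import Cfsg.Agent.Lib.D4Three.Step1
import Cfsg.Agent.Lib.D4Three.Step2
import Cfsg.Agent.Lib.D4Three.Step3
import Cfsg.Agent.Lib.D4Three.Step4
import Cfsg.Agent.Lib.D4Three.Step5
import Cfsg.Agent.Lib.D4Three.Step6
import Cfsg.Agent.Lib.D4Three.Step7
import Cfsg.Agent.Lib.D4Three.Step8
import Cfsg.Agent.Lib.D4Three.Step9
import Cfsg.Agent.Lib.D4Three.Step10
import Cfsg.Agent.Lib.D4Three.Step11
import Cfsg.Agent.Lib.D4Three.Step12
import Cfsg.Agent.Lib.D4Three.Step13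
import Cfsg.Agent.Lib.D4Three.Step14
import Cfsg.Agent.Lib.D4Three.Step15
import Cfsg.Agent.Lib.D4Three.Step16
import Cfsg.Agent.Lib.D4Three.Step17
import Cfsg.Agent.Lib.D4Three.Step18
import Cfsg.Agent.Lib.D4Three.Step19
import Cfsg.Agent.Lib.D4Three.Step20
import Cfsg.Agent.Lib.D4Three.Step21
import Cfsg.Agent.Lib.D4Three.Step22
import Cfsg.Agent.Lib.D4Three.Step23
import Cfsg.Agent.Lib.D4Three.Step24
import Cfsg.Agent.Lib.D4Three.Step25
import Cfsg.Agent.Lib.D4Three.Step26
import Cfsg.Agent.Lib.D4Three.Step27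
import Cfsg.Agent.Lib.D4Three.Step28
import Cfsg.Agent.Lib.D4Three.Step29
import Cfsg.Agent.Lib.D4Three.Step30
import Cfsg.Agent.Lib.D4Three.Step31
import Cfsg.Agent.Lib.D4Three.Step32
import Cfsg.Agent.Lib.D4Three.Step33

/-! The tree, assembled. -/

set_option autoImplicit false
set_option maxRecDepth 100000

namespace Cfsg.Lib.D4Three

theorem step0 : ∀ r ∈ levR 0, ∃ e, chkRow 0 (r, e) = true :=
  step_of_rows (rows := rows0) (by simp [List.all_append, rows0_ok]) (by decide +kernel)

theorem step1 : ∀ r ∈ levR 1, ∃ e, chkRow 1 (r, e) = true :=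
  step_of_rows (rows := rows1) (by simp [List.all_append, rows1_ok]) (by decide +kernel)

theorem step2 : ∀ r ∈ levR 2, ∃ e, chkRow 2 (r, e) = true :=
  step_of_rows (rows := rows2) (by simp [List.all_append, rows2_ok]) (by decide +kernel)

theorem step3 : ∀ r ∈ levR 3, ∃ e, chkRow 3 (r, e) = true :=
  step_of_rows (rows := rows3) (by simp [List.all_append, rows3_ok]) (by decide +kernel)

theorem step4 : ∀ r ∈ levR 4, ∃ e, chkRow 4 (r, e) = true :=
  step_of_rows (rows := rows4) (by simp [List.all_append, rows4_ok]) (by decide +kernel)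

theorem step5 : ∀ r ∈ levR 5, ∃ e, chkRow 5 (r, e) = true :=
  step_of_rows (rows := rows5) (by simp [List.all_append, rows5_ok]) (by decide +kernel)

theorem step6 : ∀ r ∈ levR 6, ∃ e, chkRow 6 (r, e) = true :=
  step_of_rows (rows := rows6 ++ rows7) (by simp [List.all_append, rows6_ok, rows7_ok]) (by decide +kernel)

theorem step7 : ∀ r ∈ levR 7, ∃ e, chkRow 7 (r, e) = true :=
  step_of_rows (rows := rows8 ++ rows9 ++ rows10 ++ rows11) (by simp [List.all_append, rows8_ok, rows9_ok, rows10_ok, rows11_ok]) (by decide +kernel)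

theorem step8 : ∀ r ∈ levR 8, ∃ e, chkRow 8 (r, e) = true :=
  step_of_rows (rows := rows12 ++ rows13 ++ rows14 ++ rows15) (by simp [List.all_append, rows12_ok, rows13_ok, rows14_ok, rows15_ok]) (by decide +kernel)

theorem step9 : ∀ r ∈ levR 9, ∃ e, chkRow 9 (r, e) = true :=
  step_of_rows (rows := rows16 ++ rows17 ++ rows18 ++ rows19 ++ rows20) (by simp [List.all_append, rows16_ok, rows17_ok, rows18_ok, rows19_ok, rows20_ok]) (by decide +kernel)

theorem step10 : ∀ r ∈ levR 10, ∃ e, chkRow 10 (r, e) = true :=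
  step_of_rows (rows := rows21 ++ rows22 ++ rows23 ++ rows24 ++ rows25 ++ rows26) (by simp [List.all_append, rows21_ok, rows22_ok, rows23_ok, rows24_ok, rows25_ok, rows26_ok]) (by decide +kernel)

theorem step11 : ∀ r ∈ levR 11, ∃ e, chkRow 11 (r, e) = true :=
  step_of_rows (rows := rows27 ++ rows28 ++ rows29 ++ rows30 ++ rows31 ++ rows32 ++ rows33) (by simp [List.all_append, rows27_ok, rows28_ok, rows29_ok, rows30_ok, rows31_ok, rows32_ok, rows33_ok]) (by decide +kernel)

theorem step_all : ∀ k < 12, ∀ r ∈ levR k, ∃ e, chkRow k (r, e) = true := by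
  intro k hk
  interval_cases k
  exacts [step0, step1, step2, step3, step4, step5, step6, step7, step8, step9, step10, step11]

end Cfsg.Lib.D4Three
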