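import Cfsg.Agent.Lib.D4Three.Word
import Cfsg.Agent.Lib.D4Three.Steps
import Cfsg.Agent.S1027
import Cfsg.Agent.S1061

/-!
# Every element of order three of D₄(3) is conjugate to one of thirteen representatives
-/

set_option autoImplicit false
set_option maxRecDepth 100000
set_option maxHeartbeats 400000

namespace Cfsg.Lib.D4Three

open Cfsg Cfsg.Lie Cfsg.Lib.Chev
open scoped Pointwise

/-- The subgroup of the last root subgroups in the height order. -/
noncomputable def Hk (k : ℕ) : Subgroup G :=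
  Subgroup.closure {x | ∃ r ∈ posOrd.drop k, x = letEl (3 * r + 1)}

theorem letEl_zero {l : ℕ} (h : l % 3 = 0) : letEl l = 1 := by
  refine Subtype.ext ?_
  show xg fullCertD4.comm.cert (l / 3) ((l % 3 : ℕ) : K) = 1
  rw [h, Nat.cast_zero]
  exact xg_zero _ _

theorem letEl_two (r : ℕ) : letEl (3 * r + 2) = letEl (3 * r + 1) * letEl (3 * r + 1) := by
  simp only [letEl, autEl_add, show (3 * r + 2) / 3 = r by omega, show (3 * r + 1) / 3 = r by omega,
    show (3 * r + 2) % 3 = 2 by omega, show (3 * r + 1) % 3 = 1 by omega]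
  congr 1

theorem letEl_mem {k l : ℕ} (h : l / 3 ∈ posOrd.drop k) : letEl l ∈ Hk k := by
  have h1 : letEl (3 * (l / 3) + 1) ∈ Hk k := Subgroup.subset_closure ⟨_, h, rfl⟩
  rcases (show l % 3 = 0 ∨ l % 3 = 1 ∨ l % 3 = 2 by omega) with e | e | e
  · rw [letEl_zero e]; exact one_mem _
  · rwa [show l = 3 * (l / 3) + 1 by omega]
  · rw [show l = 3 * (l / 3) + 2 by omega, letEl_two]; exact mul_mem h1 h1

theorem ev_mem {k : ℕ} {w : List ℕ} (h : inRoots (posOrd.drop k) w = true) : ev w ∈ Hk k := by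
  simp only [inRoots, List.all_eq_true, List.contains_iff_mem] at h
  unfold ev
  refine Subgroup.list_prod_mem (Hk k) fun x hx => ?_
  obtain ⟨l, hl, rfl⟩ := List.mem_map.1 hx
  exact letEl_mem (h l hl)

theorem Hk_mono {j k : ℕ} (h : j ≤ k) : Hk k ≤ Hk j :=
  Subgroup.closure_mono fun _ ⟨r, hr, e⟩ => ⟨r, List.drop_subset_drop_left _ h hr, e⟩

/-- The conjugates of root elements by root elements. -/
def normData : List (List Nat) := [
  [37],[40],[43,46],[55],[46],[49,52],[58,61],[52],[61],[64,67],[67],[70],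
  [37],[40],[43,49],[55],[46,52],[49],[58,64],[52],[61,67],[64],[67],[70],
  [37,47],[40,50],[43],[55,58],[46],[49],[58],[52],[61],[64],[67,70],[70],
  [37],[40],[43,59],[55],[46,62],[49,65],[58],[52,68],[61],[64],[67],[70],
  [37],[40,53],[43],[55,61],[46],[49],[58],[52],[61],[64,71],[67],[70],
  [37,53],[40],[43],[55,64],[46],[49],[58],[52],[61,71],[64],[67],[70],
  [37,62],[40,65],[43],[55],[46],[49],[58],[52,71],[61],[64],[67],[70],
  [37],[40],[43],[55,67],[46],[49],[58,70],[52],[61],[64],[67],[70],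
  [37],[40,68],[43],[55],[46],[49,70],[58],[52],[61],[64],[67],[70],
  [37,68],[40],[43],[55],[46,70],[49],[58],[52],[61],[64],[67],[70],
  [37],[40],[43,71],[55],[46],[49],[58],[52],[61],[64],[67],[70],
  [37],[40],[43],[55],[46],[49],[58],[52],[61],[64],[67],[70]]

/-- A word for a conjugate of a later root element. -/
def normWord (i j : Nat) : List Nat := (normData.getD (12 * i + j) [])

/-- The check of normality. -/
def chkNorm (k : Nat) : Bool :=
  (List.range 12).all fun i => (List.range 12).all fun j => Nat.blt j k ||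
    (inRoots (posOrd.drop k) (normWord i j) &&
      chkEq ([3 * posOrd.getD i 0 + 1] ++ [3 * posOrd.getD j 0 + 1]) (normWord i j ++ [3 * posOrd.getD i 0 + 1]))

theorem chkNorm_all : ((List.range 13).all chkNorm) = true := by decide +kernel

/-- In a finite group, mapping a subgroup into itself suffices for normalising it. -/
theorem mem_normalizer_of_conj {X : Type*} [Group X] [Finite X] {H : Subgroup X} {g : X}
    (hle : H.map (MulAut.conj g).toMonoidHom ≤ H) : g ∈ Subgroup.normalizer (H : Set X) := by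
  have heq : H.map (MulAut.conj g).toMonoidHom = H := Subgroup.eq_of_le_of_card_ge hle
    (le_of_eq (Nat.card_congr (H.equivMapOfInjective _ (MulAut.conj g).injective).toEquiv))
  rw [Subgroup.mem_normalizer_iff]
  intro x
  refine ⟨fun hx => hle (Subgroup.mem_map_of_mem _ hx), fun hx => ?_⟩
  rw [← heq] at hx
  obtain ⟨y, hy, e⟩ := hx
  rwa [← (MulAut.conj g).injective (show MulAut.conj g y = MulAut.conj g x from e)]

theorem conj_eq (g x : G) : MulAut.conj g x = g * x * g⁻¹ := MulAut.conj_apply g x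

theorem Hk_normal (k : ℕ) (hk : k ≤ 12) : Hk 0 ≤ Subgroup.normalizer (Hk k : Set G) := by
  have hc := List.all_eq_true.1 chkNorm_all k (List.mem_range.2 (by omega))
  simp only [chkNorm, List.all_eq_true, List.mem_range, Bool.or_eq_true, Bool.and_eq_true, Nat.blt_eq] at hc
  refine (Subgroup.closure_le _).2 ?_
  rintro g ⟨r, hr, rfl⟩
  rw [List.drop_zero] at hr
  obtain ⟨i, hi, rfl⟩ := List.getElem_of_mem hr
  have hgi : posOrd.getD i 0 = posOrd[i] := List.getD_eq_getElem _ _ hi
  set g := letEl (3 * posOrd[i] + 1) with hg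
  have hle : (Hk k).map (MulAut.conj g).toMonoidHom ≤ Hk k := by
    rw [Subgroup.map_le_iff_le_comap]
    conv_lhs => rw [Hk]
    rw [Subgroup.closure_le]
    rintro x ⟨r, hr, rfl⟩
    obtain ⟨j, hj, rfl⟩ := List.getElem_of_mem hr
    rw [List.getElem_drop]
    have hj' : k + j < 12 := by simp [posOrd] at hj; omega
    have hgj : posOrd.getD (k + j) 0 = posOrd[k + j] := List.getD_eq_getElem _ _ _
    rcases hc i (by simpa [posOrd] using hi) (k + j) hj' with h | ⟨h1, h2⟩
    · omega
    · have := conj_chk h2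
      rw [ev_singleton, ev_singleton, hgi, hgj, ← hg] at this
      rw [SetLike.mem_coe, Subgroup.mem_comap, MulEquiv.coe_toMonoidHom, conj_eq]
      have e := ev_mem h1
      rw [← this] at e
      exact e
  exact mem_normalizer_of_conj hle

/-- A subgroup inside the product of a cyclic group of order three and a normalised subgroup. -/
theorem split_three {X : Type*} [Group X] [Finite X] {x : X} {A B : Subgroup X} (h3 : x ^ 3 = 1)
    (hn : x ∈ Subgroup.normalizer (B : Set X)) (hA : A ≤ Subgroup.zpowers x ⊔ B) {h : X} (hh : h ∈ A) :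
    ∃ h' ∈ B, h = h' ∨ h = x * h' ∨ h = x * x * h' := by
  have hmem : h ∈ ((Subgroup.zpowers x : Set X) * (B : Set X) : Set X) := by
    rw [← Subgroup.coe_mul_of_left_le_normalizer_right _ _ (Subgroup.zpowers_le.2 hn)]; exact hA hh
  obtain ⟨z, hz, h', hh', rfl⟩ := Set.mem_mul.1 hmem
  obtain ⟨n, rfl⟩ := (IsOfFinOrder.mem_powers_iff_mem_zpowers (isOfFinOrder_of_finite x)).2 hz
  refine ⟨h', hh', ?_⟩
  show x ^ n * h' = h' ∨ x ^ n * h' = x * h' ∨ x ^ n * h' = x * x * h'
  rw [pow_eq_pow_mod n h3]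
  rcases (show n % 3 = 0 ∨ n % 3 = 1 ∨ n % 3 = 2 by omega) with e | e | e <;> rw [e]
  · exact Or.inl (by rw [pow_zero, one_mul])
  · exact Or.inr (Or.inl (by rw [pow_one]))
  · exact Or.inr (Or.inr (by rw [pow_two]))

theorem letEl_cube (r : ℕ) : letEl (3 * r + 1) ^ 3 = 1 := by
  rw [pow_three, ← letEl_two]
  simp only [letEl, autEl_add, show (3 * r + 2) / 3 = r by omega, show (3 * r + 1) / 3 = r by omega,
    show (3 * r + 2) % 3 = 2 by omega, show (3 * r + 1) % 3 = 1 by omega]
  rw [show ((1 : ℕ) : K) + ((2 : ℕ) : K) = 0 from by decide]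
  exact Subtype.ext (xg_zero fullCertD4.comm.cert _)

theorem Hk_succ {k : ℕ} (hk : k < 12) {h : G} (hh : h ∈ Hk k) :
    ∃ t < 3, ∃ h' ∈ Hk (k + 1), h = letEl (3 * posOrd.getD k 0 + t) * h' := by
  have hsplit : posOrd.drop k = posOrd.getD k 0 :: posOrd.drop (k + 1) := by interval_cases k <;> rfl
  have hx0 : letEl (3 * posOrd.getD k 0 + 1) ∈ Hk 0 := Hk_mono (Nat.zero_le k) (letEl_mem (by
    rw [hsplit, show (3 * posOrd.getD k 0 + 1) / 3 = posOrd.getD k 0 by omega]; exact List.mem_cons_self ..))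
  have hle : Hk k ≤ Subgroup.zpowers (letEl (3 * posOrd.getD k 0 + 1)) ⊔ Hk (k + 1) := by
    conv_lhs => rw [Hk]
    rw [Subgroup.closure_le]
    rintro g ⟨r, hr, rfl⟩
    rw [hsplit, List.mem_cons] at hr
    rcases hr with rfl | hr
    · exact Subgroup.mem_sup_left (Subgroup.mem_zpowers _)
    · exact Subgroup.mem_sup_right (Subgroup.subset_closure ⟨r, hr, rfl⟩)
  obtain ⟨h', hh', e | e | e⟩ := split_three (letEl_cube _) (Hk_normal (k + 1) hk hx0) hle hh
  · exact ⟨0, by norm_num, h', hh', by rw [letEl_zero (by omega), one_mul]; exact e⟩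
  · exact ⟨1, by norm_num, h', hh', e⟩
  · exact ⟨2, by norm_num, h', hh', by rw [letEl_two]; exact e⟩

theorem tree : ∀ k ≤ 12, ∀ x ∈ Hk 0, ∃ c : G, ∃ r ∈ levR k, ∃ h ∈ Hk k, c * x * c⁻¹ = ev r * h := by
  intro k
  induction k with
  | zero => intro _ x hx; exact ⟨1, [], by decide +kernel, x, hx, by simp⟩
  | succ k ih =>
    intro hk x hx
    obtain ⟨c, r, hr, h, hh, e⟩ := ih (by omega) x hx
    obtain ⟨t, ht, h', hh', rfl⟩ := Hk_succ (by omega : k < 12) hh
    obtain ⟨es, hes⟩ := step_all k (by omega) r hr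
    simp only [chkRow, Bool.and_eq_true, List.all_eq_true, List.mem_range] at hes
    have hrow := hes.2 t ht
    rcases hd : es.getD t (0, [], []) with ⟨i, d, v⟩
    simp only [hd, Bool.and_eq_true, Nat.blt_eq] at hrow
    obtain ⟨⟨⟨hi, hd0⟩, hv⟩, heq⟩ := hrow
    have hconj := conj_chk (c := d) (v := r ++ [3 * posOrd.getD k 0 + t])
      (w := (levR (k + 1)).getD i [] ++ v) (by simp only [chkEq, Bool.and_eq_true]; exact heq)
    rw [ev_append, ev_append, ev_singleton] at hconj
    have hdn := Hk_normal (k + 1) hk (ev_mem (k := 0) (by simpa using hd0))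
    refine ⟨ev d * c, (levR (k + 1)).getD i [], by
      rw [List.getD_eq_getElem _ _ hi]; exact List.getElem_mem hi, ev v * (ev d * h' * (ev d)⁻¹),
      mul_mem (ev_mem hv) ((Subgroup.mem_normalizer_iff.1 hdn h').1 hh'), ?_⟩
    rw [show ev d * c * x * (ev d * c)⁻¹ = ev d * (c * x * c⁻¹) * (ev d)⁻¹ by group, e, ← mul_assoc (ev r),
      show ev d * (ev r * letEl (3 * posOrd.getD k 0 + t) * h') * (ev d)⁻¹ =
        ev d * (ev r * letEl (3 * posOrd.getD k 0 + t)) * (ev d)⁻¹ * (ev d * h' * (ev d)⁻¹) by group,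
      hconj, mul_assoc]

/-- A representative of the thirteen classes. -/
noncomputable def rep13 (i : Fin 13) : G := ev (rep13L.getD i [])

/-- The check of the last step. -/
def chkFin : List Nat × (Nat × List Nat) → Bool
  | (r, (i, g)) => if i == 99 then r.isEmpty else if i == 98 then chkNe (r ++ r ++ r) else
      Nat.blt i 13 && chkEq (g ++ r) (rep13L.getD i [] ++ g)

theorem chkFin_all : ((levR 12).zip finW).all chkFin = true := by decide +kernel

theorem finW_length : (levR 12).length = finW.length := by decide +kernel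

theorem pos_roots : ∀ r : Fin 24, chevD4.IsPosRoot r → (r : ℕ) ∈ posOrd := by
  unfold ChevalleyDatum.IsPosRoot
  decide +kernel

theorem pos_le_Hk : (chevD4.posUnipotent K).subgroupOf (chevD4.group K) ≤ Hk 0 := by
  intro g hg
  rw [Subgroup.mem_subgroupOf] at hg
  suffices h : chevD4.posUnipotent K ≤ (Hk 0).map (chevD4.group K).subtype by
    obtain ⟨y, hy, e⟩ := h hg
    rwa [← Subtype.ext (show ((y : G) : GL chevD4.Idx K) = g from e)]
  refine (Subgroup.closure_le _).2 ?_
  rintro x ⟨r, t, hr, hx⟩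
  refine ⟨letEl (3 * r + t.val), letEl_mem (by
    have := ZMod.val_lt t
    rw [show (3 * r + t.val) / 3 = r by omega]; exact pos_roots ⟨r, hr.1⟩ hr), ?_⟩
  have := ZMod.val_lt t
  show xg fullCertD4.comm.cert ((3 * r + t.val) / 3) (((3 * r + t.val) % 3 : ℕ) : K) = x
  rw [eq_xg fullCertD4.comm.cert hx, show (3 * r + t.val) / 3 = r by omega,
    show (3 * r + t.val) % 3 = t.val by omega, ZMod.natCast_zmod_val]

theorem card_G_part : ¬ 3 ^ 13 ∣ Nat.card G := by
  have h := Cfsg.Agent.S1061.result (F := K) (q := 3) (ZMod.card 3)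
  intro hd
  have := hd.trans (Dvd.intro_left _ h)
  norm_num at this

/-- Every element of order three is conjugate to one of the representatives. -/
theorem exists_rep {x : G} (h3 : x ^ 3 = 1) (h1 : x ≠ 1) : ∃ g : G, ∃ i : Fin 13, g * x * g⁻¹ = rep13 i := by
  let U : Subgroup G := (chevD4.posUnipotent K).subgroupOf (chevD4.group K)
  have hU : Nat.card U = 3 ^ 12 := by
    rw [Nat.card_congr (Subgroup.subgroupOfEquivOfLe (pos_le_group fullCertD4.comm.cert)).toEquiv,
      Cfsg.Agent.S1027.result (F := K) chevD4 (by simp), ZMod.card]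
    rfl
  have hx : IsPGroup 3 (Subgroup.zpowers x) := IsPGroup.of_card (n := 1) (by
    rw [Nat.card_zpowers, pow_one, orderOf_eq_prime h3 h1])
  obtain ⟨S, hS⟩ := hx.exists_le_sylow
  obtain ⟨T, hT⟩ := (IsPGroup.of_card hU).exists_le_sylow
  have hTU : (T : Subgroup G) = U := (Subgroup.eq_of_le_of_card_ge hT (by
    obtain ⟨n, hn⟩ := T.2.exists_card_eq
    rw [hU, hn]
    refine Nat.pow_le_pow_right (by norm_num) ?_
    by_contra! h
    exact card_G_part ((pow_dvd_pow 3 h).trans (hn ▸ Subgroup.card_subgroup_dvd_card (T : Subgroup G))))).symm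
  obtain ⟨c, hc⟩ := MulAction.exists_smul_eq G S T
  have hmem : c * x * c⁻¹ ∈ Hk 0 := pos_le_Hk (by
    show c * x * c⁻¹ ∈ U
    rw [← hTU, ← hc]
    exact Subgroup.mem_map_of_mem _ (hS (Subgroup.mem_zpowers x)))
  obtain ⟨d, r, hr, h, hh, e⟩ := tree 12 le_rfl _ hmem
  have h12 : h = 1 := by
    have : Hk 12 = ⊥ := by simp [Hk, posOrd]
    rw [this] at hh; exact Subgroup.mem_bot.1 hh
  rw [h12, mul_one] at e
  obtain ⟨j, hj, hrj⟩ := List.getElem_of_mem hr
  have hj' : j < finW.length := lt_of_lt_of_eq hj finW_length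
  have hmemz : (r, finW[j]'hj') ∈ (levR 12).zip finW := by
    rw [List.mem_iff_getElem]
    exact ⟨j, by rw [List.length_zip]; omega, by rw [List.getElem_zip, hrj]⟩
  have hchk := List.all_eq_true.1 chkFin_all _ hmemz
  have hrp : ev r ^ 3 = 1 := by
    rw [← e, conj_pow, conj_pow, h3]; group
  rcases hf : finW[j]'hj' with ⟨i, g⟩
  rw [hf] at hchk
  simp only [chkFin, beq_iff_eq] at hchk
  split_ifs at hchk with h99 h98
  · exfalso
    rw [List.isEmpty_iff.1 hchk, ev_nil] at e
    exact h1 (by simpa [conj_eq_one_iff] using e)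
  · exfalso
    refine ev_ne_one hchk ?_
    rw [ev_append, ev_append, ← hrp, pow_three, mul_assoc]
  · simp only [Bool.and_eq_true, Nat.blt_eq] at hchk
    exact ⟨ev g * (d * c), ⟨i, hchk.1⟩, by rw [rep13, ← conj_chk hchk.2, ← e]; group⟩

end Cfsg.Lib.D4Three
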