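import Cfsg.Agent.Lib.D4Three.Invariant
import Cfsg.Agent.Lib.Linear.AutPO.D4Out

/-!
# The graph automorphisms on the thirteen classes
-/

set_option autoImplicit false
set_option maxRecDepth 100000

namespace Cfsg.Lib.D4Three

open Cfsg Cfsg.Lie Cfsg.Lib.Chev Cfsg.Lib.Linear.AutPO

/-- The graph automorphism of a permutation of the end nodes. -/
noncomputable def gr : Equiv.Perm (Fin 3) →* MulAut G := endGraph (F := K)

/-- The six permutations of the end nodes. -/
def perm6 (s : Fin 6) : Equiv.Perm (Fin 3) :=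
  ![1, Equiv.swap 1 2, Equiv.swap 0 1, Equiv.swap 0 1 * Equiv.swap 1 2, Equiv.swap 1 2 * Equiv.swap 0 1,
    Equiv.swap 0 2] s

/-- The six symmetries. -/
def sym6 (s : Fin 6) : Sym := ![symD4_0, symD4_1, symD4_2, symD4_3, symD4_4, symD4_5] s

theorem perm6_bij : Function.Bijective perm6 := by decide +kernel

theorem perm6_node : ∀ s : Fin 6, ∀ i : Fin 4, (endPerm (perm6 s) i : ℕ) = (sym6 s).node i := by decide +kernel

theorem sym6_chk : ∀ s : Fin 6, chkSym tblD4 (sym6 s) = true := by decide +kernel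

/-- The image of a letter. -/
def symLet (s : Fin 6) (l : Nat) : Nat :=
  3 * (sym6 s).root (l / 3) + if (sym6 s).eps (l / 3) == 1 then l % 3 else (3 - l % 3) % 3

theorem gr_letEl (s : Fin 6) (l : ℕ) (hl : l < 72) : gr (perm6 s) (letEl l) = letEl (symLet s l) := by
  let C := fullCertD4.comm.cert
  have hOK := symOK_of_chk (Cert.spec C).shape (sym6_chk s)
  obtain ⟨α, hα⟩ := hOK.exists_groupAut C (F := K)
  have hall : ∀ r < chevD4.nroots, ∀ t : K, α (autEl C r t) = autEl C ((sym6 s).root r) (((sym6 s).eps r : ℤ) * t) :=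
    fun r hr t => Subtype.ext ((hα _).trans (hOK.glHom_xg C hr t))
  have hα' : gr (perm6 s) = α := by
    refine RootAct.unique C (endGraph_act (F := K) (perm6 s)) ⟨fun i t => ?_, fun i t => ?_⟩
    · rw [hall _ ((Cert.spec C).simp_lt i i.2), hOK.simple i i.2, hOK.eps_simple i i.2, ← perm6_node s i]; simp
    · rw [hall _ ((Cert.spec C).neg_lt _ ((Cert.spec C).simp_lt i i.2)),
        hOK.root_neg _ ((Cert.spec C).simp_lt i i.2), hOK.simple i i.2,
        hOK.eps_neg _ ((Cert.spec C).simp_lt i i.2), hOK.eps_simple i i.2, ← perm6_node s i]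
      simp
  have heps : ∀ s : Fin 6, ∀ r : Fin 24, (sym6 s).eps r = 1 ∨ (sym6 s).eps r = -1 := by decide +kernel
  rw [hα', letEl, hall (l / 3) (show l / 3 < 24 by omega), letEl, symLet]
  rcases heps s ⟨l / 3, by omega⟩ with h | h <;> simp only at h <;> rw [h]
  · rw [show (3 * (sym6 s).root (l / 3) + if ((1 : ℤ) == 1) = true then l % 3 else (3 - l % 3) % 3) / 3 =
      (sym6 s).root (l / 3) by simp; omega]
    congr 1
    simp
  · have h3 : l % 3 < 3 := Nat.mod_lt _ (by norm_num)
    rw [show (3 * (sym6 s).root (l / 3) + if ((-1 : ℤ) == 1) = true then l % 3 else (3 - l % 3) % 3) / 3 =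
      (sym6 s).root (l / 3) by simp; omega]
    congr 1
    rw [show (3 * (sym6 s).root (l / 3) + if ((-1 : ℤ) == 1) = true then l % 3 else (3 - l % 3) % 3) % 3 =
      (3 - l % 3) % 3 by simp]
    rcases (show l % 3 = 0 ∨ l % 3 = 1 ∨ l % 3 = 2 by omega) with e | e | e <;> rw [e] <;> decide

/-- The index of the image of a representative. -/
def symIdx (s : Fin 6) (i : Fin 13) : Fin 13 :=
  ⟨((symW.getD s []).getD i (0, [])).1 % 13, Nat.mod_lt _ (by norm_num)⟩

theorem chkSymW_all : ∀ s : Fin 6, ∀ i : Fin 13,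
    (okW (rep13L.getD i []) && chkEq (((symW.getD s []).getD i (0, [])).2 ++ (rep13L.getD i []).map (symLet s))
      (rep13L.getD (symIdx s i) [] ++ ((symW.getD s []).getD i (0, [])).2)) = true := by
  decide +kernel

theorem gr_rep (s : Fin 6) (i : Fin 13) : ∃ g : G, g * gr (perm6 s) (rep13 i) * g⁻¹ = rep13 (symIdx s i) := by
  have h := chkSymW_all s i
  rw [Bool.and_eq_true] at h
  refine ⟨ev ((symW.getD s []).getD i (0, [])).2, ?_⟩
  rw [rep13, rep13, ← conj_chk h.2]
  congr 2
  have hok := h.1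
  simp only [okW, List.all_eq_true, Nat.blt_eq] at hok
  rw [ev, ev, map_list_prod, List.map_map, List.map_map]
  exact congrArg List.prod (List.map_congr_left fun l hl => gr_letEl s l (hok l hl))

theorem inv3_gr (s : Fin 6) (i : Fin 13) : inv3 (gr (perm6 s) (rep13 i)) = inv3 (rep13 (symIdx s i)) := by
  obtain ⟨g, hg⟩ := gr_rep s i
  rw [← hg, inv3_conj]

/-- The value of the invariant on a representative. -/
def invTab (i : Fin 13) : ℕ := 1000 * (cntTab.getD i (0, 0)).1 + (cntTab.getD i (0, 0)).2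

theorem tuple_inj : ∀ i j : Fin 13, (∀ s : Fin 6, invTab (symIdx s i) = invTab (symIdx s j)) → i = j := by
  decide +kernel

theorem inv3_gr_conj (φ : Equiv.Perm (Fin 3)) {g x y : G} (h : g * x * g⁻¹ = y ∨ g * x * g⁻¹ = y⁻¹) :
    inv3 (gr φ x) = inv3 (gr φ y) := by
  rcases h with h | h
  · rw [← h, map_mul, map_mul, map_inv, inv3_conj]
  · rw [← inv3_inv (gr φ y), ← map_inv (gr φ), ← h, map_mul, map_mul, map_inv, inv3_conj]

/-- Two conjugate representatives are equal. -/
theorem rep13_unique {g : G} {i j : Fin 13}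
    (h : g * rep13 i * g⁻¹ = rep13 j ∨ g * rep13 i * g⁻¹ = (rep13 j)⁻¹) : i = j := by
  refine tuple_inj i j fun s => ?_
  have := inv3_gr_conj (perm6 s) h
  rw [inv3_gr, inv3_gr, inv3_rep, inv3_rep] at this
  exact this

/-! ## The seven orbits under inner and graph automorphisms -/

/-- The representatives of the orbits. -/
def rep7 (o : Fin 7) : Fin 13 := ![0, 1, 2, 3, 8, 9, 12] o

theorem rep7_cover : ∀ i : Fin 13, ∃ o : Fin 7, ∃ s : Fin 6, symIdx s (rep7 o) = i := by decide +kernel

/-- The orbit invariant. -/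
noncomputable def invSum (x : G) : ℕ := ∑ φ : Equiv.Perm (Fin 3), inv3 (gr φ x)

/-- The orbit invariant of a representative. -/
def sumTab (i : Fin 13) : ℕ := ∑ s : Fin 6, invTab (symIdx s i)

theorem sumTab_inj : ∀ o o' : Fin 7, sumTab (rep7 o) = sumTab (rep7 o') → o = o' := by decide +kernel

theorem invSum_rep (i : Fin 13) : invSum (rep13 i) = sumTab i := by
  rw [invSum, sumTab]
  refine (Fintype.sum_bijective perm6 perm6_bij _ _ fun s => ?_).symm
  rw [inv3_gr, inv3_rep]; rfl

theorem invSum_conj (g x : G) : invSum (g * x * g⁻¹) = invSum x := by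
  refine Finset.sum_congr rfl fun φ _ => ?_
  rw [map_mul, map_mul, map_inv, inv3_conj]

theorem invSum_inv (x : G) : invSum x⁻¹ = invSum x := by
  refine Finset.sum_congr rfl fun φ _ => ?_
  rw [map_inv, inv3_inv]

theorem invSum_gr (ψ : Equiv.Perm (Fin 3)) (x : G) : invSum (gr ψ x) = invSum x := by
  refine Fintype.sum_equiv (Equiv.mulRight ψ) _ _ fun φ => ?_
  simp only [Equiv.coe_mulRight, map_mul, MulAut.mul_apply]

end Cfsg.Lib.D4Three
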