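import Cfsg.Agent.Lib.D4Three.Cover
import Cfsg.Agent.Lib.D4Three.CountCheck0
import Cfsg.Agent.Lib.D4Three.CountCheck1
import Cfsg.Agent.Lib.D4Three.CountCheck2

/-!
# A conjugation invariant of elements of order three: fixed vectors of the lift of order three
-/

set_option autoImplicit false
set_option maxRecDepth 100000

namespace Cfsg.Lib.D4Three

open Cfsg Cfsg.Lie Cfsg.Lib.Linear.Orth
open Cfsg.Lib.Chev.D4Orth (I8 cd)
open scoped Matrix

local notation "Q₈" => Cfsg.quadFormPlus 4 K

/-- Vectors of value `c` fixed by a lift of order dividing three. -/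
def FixSet (x : G) (c : K) : Set (I8 → K) :=
  {v | ∃ s : O8, iso x = QuotientGroup.mk s ∧ s ^ 3 = 1 ∧ mat s *ᵥ v = v ∧ Q₈ v = c}

/-- The weighted number of fixed vectors. -/
noncomputable def inv3 (x : G) : ℕ := 1000 * Nat.card (FixSet x 0) + Nat.card (FixSet x 1)

theorem mem_fix_conj {g x : G} {c : K} {v : I8 → K} (hv : v ∈ FixSet x c) {t : O8}
    (ht : iso g = QuotientGroup.mk t) : mat t *ᵥ v ∈ FixSet (g * x * g⁻¹) c := by
  obtain ⟨s, hs, h3, hf, hq⟩ := hv
  refine ⟨t * s * t⁻¹, by rw [map_mul, map_mul, map_inv, hs, ht]; rfl, by rw [conj_pow, h3]; group, ?_, ?_⟩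
  · rw [Matrix.mulVec_mulVec, ← mat_mul, inv_mul_cancel_right, mat_mul, ← Matrix.mulVec_mulVec, hf]
  · exact (mem_iso.1 (t : ↥(isometryGroup K Q₈)).2 v).trans hq

theorem fix_conj (g x : G) (c : K) : Nat.card (FixSet (g * x * g⁻¹) c) = Nat.card (FixSet x c) := by
  obtain ⟨t, ht⟩ := QuotientGroup.mk_surjective (iso g)
  have ht' : iso g⁻¹ = QuotientGroup.mk t⁻¹ := by rw [map_inv, ← ht]; rfl
  refine Nat.card_congr
    { toFun := fun v => ⟨mat t⁻¹ *ᵥ v.1, ?_⟩
      invFun := fun v => ⟨mat t *ᵥ v.1, mem_fix_conj v.2 ht.symm⟩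
      left_inv := fun v => Subtype.ext (by
        show mat t *ᵥ (mat t⁻¹ *ᵥ v.1) = v.1
        rw [Matrix.mulVec_mulVec, ← mat_mul, mul_inv_cancel, mat_one, Matrix.one_mulVec])
      right_inv := fun v => Subtype.ext (by
        show mat t⁻¹ *ᵥ (mat t *ᵥ v.1) = v.1
        rw [Matrix.mulVec_mulVec, ← mat_mul, inv_mul_cancel, mat_one, Matrix.one_mulVec]) }
  have := mem_fix_conj v.2 ht'
  rwa [show g⁻¹ * (g * x * g⁻¹) * g⁻¹⁻¹ = x by group] at this

theorem fix_inv (x : G) (c : K) : FixSet x⁻¹ c = FixSet x c := by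
  have key : ∀ y : G, ∀ v, v ∈ FixSet y c → v ∈ FixSet y⁻¹ c := by
    rintro y v ⟨s, hs, h3, hf, hq⟩
    refine ⟨s⁻¹, by rw [map_inv, hs]; rfl, by rw [inv_pow, h3, inv_one], ?_, hq⟩
    conv_lhs => rw [← hf, Matrix.mulVec_mulVec, ← mat_mul, inv_mul_cancel, mat_one, Matrix.one_mulVec]
  exact Set.ext fun v => ⟨fun h => by simpa using key _ v h, key x v⟩

theorem inv3_conj (g x : G) : inv3 (g * x * g⁻¹) = inv3 x := by rw [inv3, inv3, fix_conj, fix_conj]

theorem inv3_inv (x : G) : inv3 x⁻¹ = inv3 x := by rw [inv3, inv3, fix_inv, fix_inv]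

/-! ## The values on the representatives -/

/-- The vector of a number. -/
def vecI (n : ℕ) : I8 → K := fun i => ((vdig n (cd i) : ℕ) : K)

theorem dig_inj (a b : ℕ) (ha : a < 6561) (hb : b < 6561) (h : ∀ k, k < 8 → a / 3 ^ k % 3 = b / 3 ^ k % 3) :
    a = b := by
  have h0 := h 0 (by norm_num); have h1 := h 1 (by norm_num); have h2 := h 2 (by norm_num)
  have h3 := h 3 (by norm_num); have h4 := h 4 (by norm_num); have h5 := h 5 (by norm_num)
  have h6 := h 6 (by norm_num); have h7 := h 7 (by norm_num)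
  norm_num at h0 h1 h2 h3 h4 h5 h6 h7
  omega

theorem card_I8_fun : Fintype.card (I8 → K) = 6561 := by
  rw [Fintype.card_fun, ZMod.card, Fintype.card_sum, Fintype.card_fin]
  norm_num

theorem vecI_bijective : Function.Bijective fun n : Fin 6561 => vecI n := by
  refine (Fintype.bijective_iff_injective_and_card _).2 ⟨fun a b h => Fin.ext (dig_inj a b a.2 b.2 fun k hk => ?_),
    (Fintype.card_fin 6561).trans card_I8_fun.symm⟩
  obtain ⟨i, hi⟩ := Cfsg.Lib.Chev.D4Orth.exists_cd hk
  have hval : ((vdig a (cd i) : ℕ) : K) = ((vdig b (cd i) : ℕ) : K) := congrFun h i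
  have e := congrArg ZMod.val hval
  rw [ZMod.val_natCast, ZMod.val_natCast, hi] at e
  unfold vdig at e
  rwa [Nat.mod_mod, Nat.mod_mod] at e

theorem eNat_cast {a : MB} (ha : Disj a) (k : ℕ) : ((eNat a k : ℕ) : K) = entB a k := by
  have h := ha k
  have e : ∀ x : ℕ, x >>> k &&& 1 = if x.testBit k then 1 else 0 := fun x => by
    rw [Nat.testBit, Nat.and_comm 1 (x >>> k)]
    rcases Nat.mod_two_eq_zero_or_one (x >>> k) with hb | hb <;> simp [Nat.and_one_is_mod, hb]
  simp only [eNat, e, entB]
  revert h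
  cases a.1.testBit k <;> cases a.2.testBit k <;> simp [val3] <;> decide

theorem fixB_iff {a : MB} (ha : Disj a) {c : ℕ} (hc : c < 3) (n : ℕ) :
    fixB a c n = true ↔ decB a *ᵥ vecI n = vecI n ∧ Q₈ (vecI n) = (c : K) := by
  simp only [fixB, Bool.and_eq_true, List.all_eq_true, List.mem_range, rowFix, beq_iff_eq]
  rw [and_comm]
  refine and_congr ⟨fun h => funext fun i => ?_, fun h k hk => ?_⟩ ?_
  · have := congrArg (Nat.cast : ℕ → K) (h (cd i) (Cfsg.Lib.Chev.D4Orth.cd_lt i))
    rw [ZMod.natCast_mod] at this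
    simp only [Matrix.mulVec, dotProduct, Fintype.sum_sum_type, Fin.sum_univ_four, decB, Matrix.of_apply, vecI]
    push_cast [eNat_cast ha] at this
    rw [← this]
    simp [cd]
    ring
  · obtain ⟨i, rfl⟩ := Cfsg.Lib.Chev.D4Orth.exists_cd hk
    have := congrFun h i
    simp only [Matrix.mulVec, dotProduct, Fintype.sum_sum_type, Fin.sum_univ_four, decB, Matrix.of_apply, vecI] at this
    rw [← Nat.mod_eq_of_lt (show vdig n (cd i) < 3 from Nat.mod_lt _ (by norm_num))]
    refine (ZMod.natCast_eq_natCast_iff' _ _ 3).1 ?_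
    push_cast [eNat_cast ha]
    rw [← this]
    simp [cd]
    ring
  · rw [← Nat.mod_eq_of_lt hc, qvB, ← ZMod.natCast_eq_natCast_iff' _ _ 3, Nat.mod_eq_of_lt hc]
    simp [Cfsg.quadFormPlus, vecI, Fin.sum_univ_four, cd]

theorem countP_range_sum (p : ℕ → Bool) (m : ℕ) : ∀ n : ℕ,
    ((List.range n).map fun h => (List.range m).countP fun l => p (m * h + l)).sum = (List.range (m * n)).countP p
  | 0 => by simp
  | n + 1 => by
    rw [List.range_succ, List.map_append, List.sum_append, countP_range_sum p m n, Nat.mul_succ, List.range_add,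
      List.countP_append, List.countP_map]
    simp [Function.comp_def]

theorem countP_fin (p : ℕ → Bool) (n : ℕ) :
    (Finset.univ.filter fun x : Fin n => p x = true).card = (List.range n).countP p := by
  rw [← List.map_coe_finRange_eq_range, List.countP_map, Finset.card_def, Finset.filter_val]
  show (Multiset.filter _ (↑(List.finRange n) : Multiset (Fin n))).card = _
  rw [Multiset.filter_coe, Multiset.coe_card, List.countP_eq_length_filter]
  simp [Function.comp_def]

theorem card_fixed {a : MB} (ha : Disj a) {c : ℕ} (hc : c < 3) :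
    Nat.card {v : I8 → K // decB a *ᵥ v = v ∧ Q₈ v = (c : K)} = cntB a c := by
  rw [← Nat.card_congr (Equiv.subtypeEquiv (Equiv.ofBijective _ vecI_bijective)
    (p := fun n : Fin 6561 => fixB a c n = true) fun n => fixB_iff ha hc n), Nat.card_eq_fintype_card,
    Fintype.card_subtype, cntB, countP_range_sum, show 243 * 27 = 6561 from rfl]
  exact countP_fin _ _

theorem chkCnt_all : ∀ i < 13, chkCnt i = true := by
  intro i hi
  have h0 := List.all_eq_true.1 chkCnt_part0
  have h1 := List.all_eq_true.1 chkCnt_part1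
  have h2 := List.all_eq_true.1 chkCnt_part2
  interval_cases i
  all_goals first
    | exact h0 _ (by decide)
    | exact h1 _ (by decide)
    | exact h2 _ (by decide)

theorem rep13_ok : ∀ i : Fin 13, okW (rep13L.getD i []) = true ∧
    eqB (bev (rep13L.getD i [] ++ rep13L.getD i [] ++ rep13L.getD i [])) oneB = true ∧
    chkNe (rep13L.getD i []) = true := by
  decide +kernel

theorem rep13_ne (i : Fin 13) : rep13 i ≠ 1 := ev_ne_one (rep13_ok i).2.2

theorem rep13_cube (i : Fin 13) : rep13 i ^ 3 = 1 := by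
  obtain ⟨h1, h2, -⟩ := rep13_ok i
  rw [pow_three, ← mul_assoc, rep13, ← ev_append, ← ev_append, ← ev_nil]
  exact ev_eq (by simp [okW] at h1 ⊢; exact h1) rfl h2

theorem decB_bev_three {w : List ℕ} (hw : okW w = true) :
    decB (bev (w ++ w ++ w)) = decB (bev w) * decB (bev w) * decB (bev w) := by
  have key : ∀ {u v : List ℕ}, okW u = true → okW v = true → decB (bev (u ++ v)) = decB (bev u) * decB (bev v) := by
    intro u v hu hv
    induction v using List.reverseRecOn with
    | nil => rw [List.append_nil, show bev [] = oneB from rfl, decB_one.2, mul_one]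
    | append_singleton v l ih =>
      simp only [okW, List.all_append, List.all_cons, List.all_nil, Bool.and_true, Bool.and_eq_true, Nat.blt_eq] at hv
      have hb : ∀ u : List ℕ, bev (u ++ [l]) = stepB (bev u) l := fun u => by simp [bev, List.foldl_append]
      obtain ⟨d1, -⟩ := exists_lift (w := u ++ v) (by simp only [okW, List.all_append, Bool.and_eq_true]; exact ⟨hu, hv.1⟩)
      obtain ⟨d2, -⟩ := exists_lift (w := v) hv.1
      rw [← List.append_assoc, hb, hb, (decB_step d1 hv.2).2, (decB_step d2 hv.2).2, ih hv.1, mul_assoc]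
  rw [key (by simp only [okW, List.all_append, Bool.and_eq_true]; exact ⟨hw, hw⟩) hw, key hw hw]

theorem inv3_rep (i : Fin 13) : inv3 (rep13 i) =
    1000 * (cntTab.getD i (0, 0)).1 + (cntTab.getD i (0, 0)).2 := by
  obtain ⟨h1, h2, -⟩ := rep13_ok i
  set w := rep13L.getD i [] with hw
  obtain ⟨hd, s, hs, hse⟩ := exists_lift h1
  obtain ⟨-, s3, hs3, hs3e⟩ := exists_lift (w := w ++ w ++ w) (by simp [okW] at h1 ⊢; exact h1)
  have hs33 : s ^ 3 = 1 := by
    have hd2 : s3 = 1 := by
      refine mat_inj ?_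
      rw [hs3, show bev (w ++ w ++ w) = oneB from Prod.ext ?_ ?_, decB_one.2, mat_one] <;>
        simp only [eqB, Bool.and_eq_true, beq_iff_eq] at h2
      · exact h2.1
      · exact h2.2
    have hz : QuotientGroup.mk (s := Subgroup.center O8) (s ^ 3) = 1 := by
      rw [show QuotientGroup.mk (s := Subgroup.center O8) (s ^ 3) = QuotientGroup.mk s ^ 3 from rfl, ← hse,
        ← map_pow, hw, ← rep13, rep13_cube, map_one]
    rcases center_pm hz with h | h
    · exact mat_inj (h.trans mat_one.symm)
    · exfalso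
      have hm : mat (s ^ 3) = decB (bev w) * decB (bev w) * decB (bev w) := by
        rw [pow_three, mat_mul, mat_mul, hs, mul_assoc]
      have e3 : decB (bev w) * decB (bev w) * decB (bev w) = (1 : Matrix I8 I8 K) := by
        rw [← mat_one, ← hd2, hs3]
        exact (decB_bev_three h1).symm
      rw [hm, e3] at h
      have := congrFun (congrFun h (.inl 0)) (.inl 0)
      simp at this
      exact absurd this (by decide)
  have key : ∀ c : ℕ, c < 3 → Nat.card (FixSet (rep13 i) (c : K)) = cntB (bev w) c := by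
    intro c hc
    rw [← card_fixed hd hc]
    refine Nat.card_congr (Equiv.subtypeEquivRight fun v => ⟨?_, fun ⟨hf, hq⟩ => ⟨s, hse, hs33, by rw [hs]; exact hf, hq⟩⟩)
    rintro ⟨t, ht, ht3, hf, hq⟩
    refine ⟨?_, hq⟩
    have hz : QuotientGroup.mk (s := Subgroup.center O8) (s⁻¹ * t) = 1 := by
      rw [QuotientGroup.mk_mul, QuotientGroup.mk_inv, ← hse, ← ht, rep13, inv_mul_cancel]
    rcases center_pm hz with h | h
    · have : t = s := by
        have := mat_inj (h.trans mat_one.symm)
        rwa [inv_mul_eq_one, eq_comm] at this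
      rw [← hs, ← this]; exact hf
    · exfalso
      have ht' : mat t = -mat s := by
        have : mat t = mat s * mat (s⁻¹ * t) := by rw [← mat_mul, mul_inv_cancel_left]
        rw [this, h, mul_neg_one]
      have h1' : (1 : Matrix I8 I8 K) = -1 := by
        calc (1 : Matrix I8 I8 K) = mat (t ^ 3) := by rw [ht3, mat_one]
          _ = -(mat (s ^ 3)) := by simp only [pow_three, mat_mul, ht']; simp
          _ = -1 := by rw [hs33, mat_one]
      have := congrFun (congrFun h1' (.inl 0)) (.inl 0)
      simp at this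
      exact absurd this (by decide)
  have hc := chkCnt_all i i.2
  simp only [chkCnt, Bool.and_eq_true, beq_iff_eq, ← hw] at hc
  have k0 := key 0 (by norm_num)
  have k1 := key 1 (by norm_num)
  rw [Nat.cast_zero] at k0
  rw [Nat.cast_one] at k1
  rw [inv3, k0, k1, hc.1, hc.2]

end Cfsg.Lib.D4Three
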