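import Cfsg.Agent.Lib.D4Three.Graph
import Cfsg.Agent.Lib.Core.Layer

/-!
# Groups inducing a symmetric group of degree three of outer automorphisms
-/

set_option autoImplicit false
set_option maxRecDepth 100000

namespace Cfsg.Lib.D4Three

open Cfsg Cfsg.Lie Cfsg.Lib.Chev Cfsg.Lib.Linear.AutPO

/-- Two subgroups of the symmetric group of degree four generated by a non-trivial element of order three and an
involution inverting it are conjugate. -/
theorem conj_into_stab : ∀ a b : Equiv.Perm (Fin 4), a * (a * a) = 1 → a ≠ 1 → b * b = 1 → b ≠ 1 → b * a * b = a * a →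
    ∃ c : Equiv.Perm (Fin 4), (c * a * c⁻¹) 3 = 3 ∧ (c * b * c⁻¹) 3 = 3 := by
  decide +kernel

/-- The image of any embedding of the symmetric group of degree three is a conjugate of the stabiliser. -/
theorem range_conj (u : Equiv.Perm (Fin 3) →* Equiv.Perm (Fin 4)) (hu : Function.Injective u) :
    ∃ c : Equiv.Perm (Fin 4), ∀ x : Equiv.Perm (Fin 4), x ∈ u.range ↔ (c * x * c⁻¹) 3 = 3 := by
  classical
  set a3 : Equiv.Perm (Fin 3) := Equiv.swap 0 1 * Equiv.swap 1 2
  set b3 : Equiv.Perm (Fin 3) := Equiv.swap 0 1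
  obtain ⟨c, hca, hcb⟩ := conj_into_stab (u a3) (u b3)
    (by rw [← map_mul, ← map_mul, show a3 * (a3 * a3) = 1 by decide, map_one])
    (fun h => (by decide : a3 ≠ 1) (hu (h.trans (map_one u).symm)))
    (by rw [← map_mul, show b3 * b3 = 1 by decide, map_one])
    (fun h => (by decide : b3 ≠ 1) (hu (h.trans (map_one u).symm)))
    (by rw [← map_mul, ← map_mul, ← map_mul, show b3 * a3 * b3 = a3 * a3 by decide])
  refine ⟨c, ?_⟩
  let St : Subgroup (Equiv.Perm (Fin 4)) :=
    { carrier := {x | (c * x * c⁻¹) 3 = 3}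
      one_mem' := by simp
      mul_mem' := fun {x y} hx hy => by
        show (c * (x * y) * c⁻¹) 3 = 3
        rw [show c * (x * y) * c⁻¹ = (c * x * c⁻¹) * (c * y * c⁻¹) by group, Equiv.Perm.mul_apply, hy, hx]
      inv_mem' := fun {x} hx => by
        show (c * x⁻¹ * c⁻¹) 3 = 3
        rw [show c * x⁻¹ * c⁻¹ = (c * x * c⁻¹)⁻¹ by group, Equiv.Perm.inv_eq_iff_eq]
        exact hx.symm }
  have hgen : ∀ π : Equiv.Perm (Fin 3), π ∈ [1, a3, a3 * a3, b3, a3 * b3, a3 * a3 * b3] := by decide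
  have hle : u.range ≤ St := by
    rintro _ ⟨π, rfl⟩
    have ha : u a3 ∈ St := hca
    have hb : u b3 ∈ St := hcb
    have := hgen π
    simp only [List.mem_cons, List.not_mem_nil, or_false] at this
    rcases this with rfl | rfl | rfl | rfl | rfl | rfl <;> (try simp only [map_one, map_mul])
    exacts [one_mem _, ha, mul_mem ha ha, hb, mul_mem ha hb, mul_mem (mul_mem ha ha) hb]
  have hcard : Nat.card St = 6 := by
    rw [← Nat.card_congr (Equiv.subtypeEquiv (MulAut.conj c⁻¹).toEquiv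
      (p := fun x : Equiv.Perm (Fin 4) => x 3 = 3) (q := fun x => x ∈ St) fun x => ?_), Nat.card_eq_fintype_card]
    · rfl
    · show x 3 = 3 ↔ (c * (c⁻¹ * x * c⁻¹⁻¹) * c⁻¹) 3 = 3
      rw [show c * (c⁻¹ * x * c⁻¹⁻¹) * c⁻¹ = x by group]
  have heq : u.range = St := Subgroup.eq_of_le_of_card_ge hle (by
    rw [hcard, ← Nat.card_congr (MonoidHom.ofInjective hu).toEquiv, Nat.card_perm, Nat.card_fin]; rfl)
  intro x
  rw [heq]
  rfl

theorem graphOut_injective : Function.Injective (graphOut (F := K)) := by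
  refine (injective_iff_map_eq_one _).2 fun π hπ => ?_
  have h : d4DiagOut (F := K) 1 * graphOut π * fieldOut 1 = 1 := by rw [map_one, map_one, one_mul, mul_one, hπ]
  exact (d4_eq_one h).2.1

/-- Any embedding of the symmetric group of degree three into the outer automorphisms is conjugate to the graph one. -/
theorem out_conj (u : Equiv.Perm (Fin 3) →* Cfsg.Out G) (hu : Function.Injective u) :
    ∃ o : Cfsg.Out G, ∀ x, x ∈ u.range ↔ o * x * o⁻¹ ∈ (graphOut (F := K)).range := by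
  obtain ⟨e⟩ := d4_out_odd (F := K) (p := 3) (f := 1) le_rfl (by rw [ZMod.card, pow_one]) (by norm_num)
  let e4 : Cfsg.Out G →* Equiv.Perm (Fin 4) := (MonoidHom.fst _ _).comp e.toMonoidHom
  have hsub : ∀ z : Multiplicative (ZMod 1), z = 1 := fun z => Subsingleton.elim (α := ZMod 1) _ _
  have he4 : Function.Injective e4 := fun x y h => e.injective (Prod.ext h ((hsub _).trans (hsub _).symm))
  obtain ⟨c1, h1⟩ := range_conj (e4.comp u) (he4.comp hu)
  obtain ⟨c2, h2⟩ := range_conj (e4.comp graphOut) (he4.comp graphOut_injective)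
  refine ⟨e.symm (c2⁻¹ * c1, 1), fun x => ?_⟩
  have hm : ∀ (v : Equiv.Perm (Fin 3) →* Cfsg.Out G) (y : Cfsg.Out G), y ∈ v.range ↔ e4 y ∈ (e4.comp v).range :=
    fun v y => ⟨fun ⟨π, h⟩ => ⟨π, congrArg e4 h⟩, fun ⟨π, h⟩ => ⟨π, he4 h⟩⟩
  rw [hm, hm, h1, h2, map_mul, map_mul, map_inv, show e4 (e.symm (c2⁻¹ * c1, 1)) = c2⁻¹ * c1 by
    show (e (e.symm (c2⁻¹ * c1, 1))).1 = _
    rw [MulEquiv.apply_symm_apply],
    show c2 * (c2⁻¹ * c1 * e4 x * (c2⁻¹ * c1)⁻¹) * c2⁻¹ = c1 * e4 x * c1⁻¹ by group]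

/-- Coordinates in which the induced automorphisms are the inner ones times the graph ones. -/
theorem coord_generic {H G' : Type*} [Group H] [Finite H] [Group G'] (L : Subgroup H) [hn : L.Normal]
    (hL : L = Cfsg.generalizedFittingSubgroup H) (e0 : ↥L ≃* G') (hq : Nonempty (H ⧸ L ≃* Equiv.Perm (Fin 3)))
    (γ : Equiv.Perm (Fin 3) →* MulAut G')
    (hout : ∀ u : Equiv.Perm (Fin 3) →* Cfsg.Out G', Function.Injective u → ∃ o : Cfsg.Out G',
      ∀ x, x ∈ u.range ↔ o * x * o⁻¹ ∈ ((QuotientGroup.mk' (Cfsg.Inn G')).comp γ).range) :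
    ∃ (E : ↥L ≃* G') (φ : H →* MulAut G'), (∀ g l, φ g (E l) = E (MulAut.conjNormal g l)) ∧
      (∀ g, ∃ (y : G') (π : Equiv.Perm (Fin 3)), φ g = MulAut.conj y * γ π) ∧
      ∀ (y : G') (π : Equiv.Perm (Fin 3)), ∃ g, φ g = MulAut.conj y * γ π := by
  let q : MulAut G' →* Cfsg.Out G' := QuotientGroup.mk' (Cfsg.Inn G')
  let ψ : H →* MulAut G' := (trf e0).toMonoidHom.comp MulAut.conjNormal
  have hψL : ∀ l : ↥L, ψ (l : H) = MulAut.conj (e0 l) := fun l => by
    show trf e0 (MulAut.conjNormal (l : H)) = _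
    rw [show MulAut.conjNormal (l : H) = MulAut.conj l from
      MulEquiv.ext fun x => Subtype.ext (by rw [MulAut.conjNormal_apply]; rfl)]
    exact trf_conj e0 l
  let ob : H ⧸ L →* Cfsg.Out G' := QuotientGroup.lift L (q.comp ψ) fun g hg => by
    show q (ψ ((⟨g, hg⟩ : ↥L) : H)) = 1
    rw [hψL]; exact (QuotientGroup.eq_one_iff _).2 ⟨_, rfl⟩
  have hob : Function.Injective ob := by
    refine (injective_iff_map_eq_one _).2 fun x hx => ?_
    obtain ⟨g, rfl⟩ := QuotientGroup.mk_surjective x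
    obtain ⟨y, hy⟩ := (QuotientGroup.eq_one_iff (N := Cfsg.Inn G') (ψ g)).1 hx
    have hc : (MulAut.conjNormal g : MulAut ↥L) = MulAut.conjNormal ((e0.symm y : ↥L) : H) := by
      refine (trf e0).injective ?_
      show ψ g = ψ _
      rw [hψL, e0.apply_symm_apply]; exact hy.symm
    have hcent : ((e0.symm y : ↥L) : H)⁻¹ * g ∈ L := by
      refine (SetLike.ext_iff.1 hL _).2 (Cfsg.Lib.Core.centralizer_generalizedFitting_le ?_)
      rw [Subgroup.mem_centralizer_iff]
      intro x hx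
      have := congrArg Subtype.val (DFunLike.congr_fun hc (⟨x, (SetLike.ext_iff.1 hL x).2 hx⟩ : ↥L))
      simp only [MulAut.conjNormal_apply] at this
      have h2 : g * x = ((e0.symm y : ↥L) : H) * x * ((e0.symm y : ↥L) : H)⁻¹ * g := by
        rw [← this, inv_mul_cancel_right]
      rw [mul_assoc _ g x, h2]
      group
    refine (QuotientGroup.eq_one_iff _).2 ?_
    have := mul_mem (e0.symm y).2 hcent
    rwa [mul_inv_cancel_left] at this
  obtain ⟨e3⟩ := hq
  obtain ⟨o, ho⟩ := hout (ob.comp e3.symm.toMonoidHom) (hob.comp e3.symm.injective)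
  obtain ⟨α, rfl⟩ := QuotientGroup.mk'_surjective (Cfsg.Inn G') o
  refine ⟨e0.trans α, (MulAut.conj α).toMonoidHom.comp ψ, fun g l => ?_, fun g => ?_, fun y π => ?_⟩
  · show α (e0 (MulAut.conjNormal g (e0.symm (α⁻¹ (α (e0 l)))))) = α (e0 (MulAut.conjNormal g l))
    simp
  · obtain ⟨π, hπ⟩ := (ho (q (ψ g))).1 ⟨e3 (QuotientGroup.mk g), by
      show ob (e3.symm (e3 _)) = _
      rw [MulEquiv.symm_apply_apply]; rfl⟩
    have : q ((MulAut.conj α (ψ g)) * (γ π)⁻¹) = 1 := by
      rw [MulAut.conj_apply, map_mul, map_mul, map_mul, map_inv, map_inv, ← show ((QuotientGroup.mk' (Cfsg.Inn G')).comp γ) π = q (γ π) from rfl, hπ]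
      exact mul_inv_cancel _
    obtain ⟨y, hy⟩ := (QuotientGroup.eq_one_iff _).1 this
    exact ⟨y, π, by rw [hy, inv_mul_cancel_right]; rfl⟩
  · have hex : ((q α)⁻¹ * ((QuotientGroup.mk' (Cfsg.Inn G')).comp γ) π * q α) ∈ (ob.comp e3.symm.toMonoidHom).range :=
      (ho _).2 ⟨π, by show _ = q α * _ * (q α)⁻¹; group⟩
    obtain ⟨s, hs⟩ := hex
    obtain ⟨g, hg⟩ := QuotientGroup.mk_surjective (e3.symm s)
    have hqg : q (ψ g) = (q α)⁻¹ * ((QuotientGroup.mk' (Cfsg.Inn G')).comp γ) π * q α := by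
      rw [← hs]; show ob (QuotientGroup.mk g) = ob (e3.symm s); rw [hg]
    have : q ((MulAut.conj α (ψ g)) * (γ π)⁻¹) = 1 := by
      rw [MulAut.conj_apply, map_mul, map_mul, map_mul, map_inv, map_inv, hqg, ← show ((QuotientGroup.mk' (Cfsg.Inn G')).comp γ) π = q (γ π) from rfl]
      group
    obtain ⟨y0, hy0⟩ := (QuotientGroup.eq_one_iff _).1 this
    let l : ↥L := e0.symm (α⁻¹ (y * y0⁻¹))
    refine ⟨(l : H) * g, ?_⟩
    show MulAut.conj α (ψ ((l : H) * g)) = _
    rw [map_mul ψ, map_mul (MulAut.conj α), hψL, show MulAut.conj α (MulAut.conj (e0 l)) = MulAut.conj (y * y0⁻¹) from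
      MulEquiv.ext fun x => by simp [l, MulAut.conj_apply],
      show MulAut.conj α (ψ g) = MulAut.conj y0 * γ π by rw [hy0, inv_mul_cancel_right], ← mul_assoc, ← map_mul,
      inv_mul_cancel_right]

/-- The coordinates for the graph automorphisms. -/
theorem exists_coord {H : Type*} [Group H] [Finite H] (L : Subgroup H) [hn : L.Normal]
    (hL : L = Cfsg.generalizedFittingSubgroup H) (e0 : ↥L ≃* G) (hq : Nonempty (H ⧸ L ≃* Equiv.Perm (Fin 3))) :
    ∃ (E : ↥L ≃* G) (φ : H →* MulAut G), (∀ g l, φ g (E l) = E (MulAut.conjNormal g l)) ∧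
      (∀ g, ∃ (y : G) (π : Equiv.Perm (Fin 3)), φ g = MulAut.conj y * gr π) ∧
      ∀ (y : G) (π : Equiv.Perm (Fin 3)), ∃ g, φ g = MulAut.conj y * gr π :=
  @coord_generic H G _ _ (inferInstance : Group G) L hn hL e0 hq gr (fun u hu => out_conj u hu)

end Cfsg.Lib.D4Three
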