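import Cfsg.Agent.Lib.D4Three.Check

/-! A part of the tree at level 0. -/

set_option autoImplicit false
set_option maxRecDepth 100000

namespace Cfsg.Lib.D4Three

def rows0 : List (List Nat × List (Nat × List Nat × List Nat)) := [
  ([], [(0,[],[]),(1,[],[]),(2,[],[])])
]

theorem rows0_ok : rows0.all (chkRow 0) = true := by decide +kernel

end Cfsg.Lib.D4Three
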