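import Cfsg.Agent.Lib.D4Three.Check

/-! A part of the tree at level 8. -/

set_option autoImplicit false
set_option maxRecDepth 100000

namespace Cfsg.Lib.D4Three

def rows13 : List (List Nat × List (Nat × List Nat × List Nat)) := [
  ([40,56,46], [(104,[],[]),(104,[56,56],[]),(104,[56],[])]),
  ([37,40,56,46], [(105,[],[]),(105,[56,56],[]),(105,[56],[])]),
  ([38,40,56,46], [(106,[],[]),(106,[56,56],[]),(106,[56],[])]),
  ([41,56,46], [(107,[],[]),(107,[56,56],[]),(107,[56],[])]),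
  ([37,41,56,46], [(108,[],[]),(108,[56,56],[]),(108,[56],[])]),
  ([38,41,56,46], [(109,[],[]),(109,[56,56],[]),(109,[56],[])]),
  ([47], [(114,[],[]),(114,[56],[]),(114,[56,56],[])]),
  ([40,47], [(115,[],[]),(115,[56],[]),(115,[56,56],[])]),
  ([37,40,47], [(116,[],[]),(116,[56],[]),(116,[56,56],[])]),
  ([38,40,47], [(117,[],[]),(117,[56],[]),(117,[56,56],[])]),
  ([41,47], [(118,[],[]),(118,[56],[]),(118,[56,56],[])]),
  ([37,41,47], [(119,[],[]),(119,[56],[]),(119,[56,56],[])]),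
  ([38,41,47], [(120,[],[]),(120,[56],[]),(120,[56,56],[])]),
  ([55,47], [(121,[],[]),(121,[56],[]),(121,[56,56],[])]),
  ([37,55,47], [(122,[],[]),(122,[56],[]),(122,[56,56],[])]),
  ([38,55,47], [(123,[],[]),(123,[56],[]),(123,[56,56],[])]),
  ([40,55,47], [(124,[],[]),(124,[56],[]),(124,[56,56],[])]),
  ([37,40,55,47], [(125,[],[]),(125,[56],[]),(125,[56,56],[])]),
  ([38,40,55,47], [(126,[],[]),(126,[56],[]),(126,[56,56],[])]),
  ([41,55,47], [(127,[],[]),(127,[56],[]),(127,[56,56],[])]),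
  ([37,41,55,47], [(128,[],[]),(128,[56],[]),(128,[56,56],[])]),
  ([38,41,55,47], [(129,[],[]),(129,[56],[]),(129,[56,56],[])]),
  ([56,47], [(134,[],[]),(134,[56],[]),(134,[56,56],[])]),
  ([37,56,47], [(135,[],[]),(135,[56],[]),(135,[56,56],[])]),
  ([38,56,47], [(136,[],[]),(136,[56],[]),(136,[56,56],[])]),
  ([40,56,47], [(137,[],[]),(137,[56],[]),(137,[56,56],[])]),
  ([37,40,56,47], [(138,[],[]),(138,[56],[]),(138,[56,56],[])]),
  ([38,40,56,47], [(139,[],[]),(139,[56],[]),(139,[56,56],[])]),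
  ([41,56,47], [(140,[],[]),(140,[56],[]),(140,[56,56],[])]),
  ([37,41,56,47], [(141,[],[]),(141,[56],[]),(141,[56,56],[])]),
  ([38,41,56,47], [(142,[],[]),(142,[56],[]),(142,[56,56],[])]),
  ([49], [(147,[],[]),(392,[],[]),(399,[],[])]),
  ([37,49], [(148,[],[]),(148,[44,56,44,44],[64,71]),(148,[44,44,56,44],[64,70])]),
  ([38,49], [(149,[],[]),(149,[44,44,56,44],[64,71]),(149,[44,56,44,44],[64,70])]),
  ([55,49], [(150,[],[]),(150,[44,44,38,38,44,38],[71]),(150,[44,44,38,44,38,38],[70])]),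
  ([37,55,49], [(151,[],[]),(151,[44,56,44,44],[64,71]),(151,[44,44,56,44],[64,70])]),
  ([38,55,49], [(152,[],[]),(152,[44,44,56,44],[64,71]),(152,[44,56,44,44],[64,70])]),
  ([40,55,49], [(153,[],[]),(153,[44,38,44,44],[67,71]),(153,[44,44,38,44,38],[68,70])]),
  ([37,40,55,49], [(154,[],[]),(154,[44,56,44,44],[67,71]),(154,[44,44,56,44],[65,68,70])]),
  ([38,40,55,49], [(155,[],[]),(155,[44,44,56,44],[65,67,71]),(155,[44,56,44,44],[68,70])]),
  ([41,55,49], [(156,[],[]),(156,[44,44,38,38,44],[68,71]),(156,[44,44,38,44],[67,70])]),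
  ([37,41,55,49], [(157,[],[]),(157,[44,56,44,44],[65,68,71]),(157,[44,44,56,44],[67,70])]),
  ([38,41,55,49], [(158,[],[]),(158,[44,44,56,44],[68,71]),(158,[44,56,44,44],[65,67,70])]),
  ([56,49], [(159,[],[]),(159,[44,44,38,44,38,38],[71]),(159,[44,44,38,38,44,38],[70])]),
  ([37,56,49], [(160,[],[]),(160,[44,56,44,44],[64,71]),(160,[44,44,56,44],[64,70])]),
  ([38,56,49], [(161,[],[]),(161,[44,44,56,44],[64,71]),(161,[44,56,44,44],[64,70])]),
  ([40,56,49], [(162,[],[]),(162,[44,44,38,44,38],[67,71]),(162,[44,38,44,44],[68,70])]),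
  ([37,40,56,49], [(163,[],[]),(163,[44,56,44,44],[67,71]),(163,[44,44,56,44],[65,68,70])]),
  ([38,40,56,49], [(164,[],[]),(164,[44,44,56,44],[65,67,71]),(164,[44,56,44,44],[68,70])]),
  ([41,56,49], [(165,[],[]),(165,[44,44,38,44],[68,71]),(165,[44,44,38,38,44],[67,70])]),
  ([37,41,56,49], [(166,[],[]),(166,[44,56,44,44],[65,68,71]),(166,[44,44,56,44],[67,70])]),
  ([38,41,56,49], [(167,[],[]),(167,[44,44,56,44],[68,71]),(167,[44,56,44,44],[65,67,70])]),
  ([46,49], [(168,[],[]),(168,[56,56],[65,71]),(168,[56],[64,70])]),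
  ([43,46,49], [(169,[],[]),(328,[56,41,41,38,38],[65,67,70]),(316,[56],[64,70])]),
  ([44,46,49], [(170,[],[]),(317,[56,56],[65,71]),(329,[56,56,41,38],[64,67,71])]),
  ([55,46,49], [(171,[],[]),(171,[56,56],[65,71]),(171,[56],[64,70])]),
  ([37,55,46,49], [(172,[],[]),(172,[56,56],[65,71]),(172,[56],[64,70])]),
  ([38,55,46,49], [(173,[],[]),(173,[56,56],[65,71]),(173,[56],[64,70])]),
  ([40,55,46,49], [(174,[],[]),(174,[56,56],[65,71]),(174,[56],[64,70])]),
  ([37,40,55,46,49], [(175,[],[]),(175,[56,56],[65,71]),(175,[56],[64,70])]),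
  ([38,40,55,46,49], [(176,[],[]),(176,[56,56],[65,71]),(176,[56],[64,70])]),
  ([41,55,46,49], [(177,[],[]),(177,[56,56],[65,71]),(177,[56],[64,70])]),
  ([37,41,55,46,49], [(178,[],[]),(178,[56,56],[65,71]),(178,[56],[64,70])]),
  ([38,41,55,46,49], [(179,[],[]),(179,[56,56],[65,71]),(179,[56],[64,70])]),
  ([43,55,46,49], [(180,[],[]),(180,[56,56,44,44],[65,71]),(180,[56,44],[64,70])]),
  ([44,55,46,49], [(181,[],[]),(181,[56,56,44],[65,71]),(181,[56,44,44],[64,70])]),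
  ([56,46,49], [(182,[],[]),(182,[56,56],[65,71]),(182,[56],[64,70])]),
  ([37,56,46,49], [(183,[],[]),(183,[56,56],[65,71]),(183,[56],[64,70])]),
  ([38,56,46,49], [(184,[],[]),(184,[56,56],[65,71]),(184,[56],[64,70])]),
  ([40,56,46,49], [(185,[],[]),(185,[56,56],[65,71]),(185,[56],[64,70])]),
  ([37,40,56,46,49], [(186,[],[]),(186,[56,56],[65,71]),(186,[56],[64,70])]),
  ([38,40,56,46,49], [(187,[],[]),(187,[56,56],[65,71]),(187,[56],[64,70])]),
  ([41,56,46,49], [(188,[],[]),(188,[56,56],[65,71]),(188,[56],[64,70])]),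
  ([37,41,56,46,49], [(189,[],[]),(189,[56,56],[65,71]),(189,[56],[64,70])]),
  ([38,41,56,46,49], [(190,[],[]),(190,[56,56],[65,71]),(190,[56],[64,70])]),
  ([43,56,46,49], [(191,[],[]),(191,[56,56,44],[65,71]),(191,[56,44,44],[64,70])]),
  ([44,56,46,49], [(192,[],[]),(192,[56,56,44,44],[65,71]),(192,[56,44],[64,70])]),
  ([47,49], [(193,[],[]),(193,[56],[64,71]),(193,[56,56],[65,70])]),
  ([43,47,49], [(194,[],[]),(319,[56],[64,71]),(325,[56,41,41,38],[65,68,71])]),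
  ([44,47,49], [(195,[],[]),(326,[56,56,41,38,38],[64,68,70]),(320,[56,56],[65,70])]),
  ([55,47,49], [(196,[],[]),(196,[56],[64,71]),(196,[56,56],[65,70])]),
  ([37,55,47,49], [(197,[],[]),(197,[56],[64,71]),(197,[56,56],[65,70])]),
  ([38,55,47,49], [(198,[],[]),(198,[56],[64,71]),(198,[56,56],[65,70])]),
  ([40,55,47,49], [(199,[],[]),(199,[56],[64,71]),(199,[56,56],[65,70])]),
  ([37,40,55,47,49], [(200,[],[]),(200,[56],[64,71]),(200,[56,56],[65,70])]),
  ([38,40,55,47,49], [(201,[],[]),(201,[56],[64,71]),(201,[56,56],[65,70])]),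
  ([41,55,47,49], [(202,[],[]),(202,[56],[64,71]),(202,[56,56],[65,70])]),
  ([37,41,55,47,49], [(203,[],[]),(203,[56],[64,71]),(203,[56,56],[65,70])]),
  ([38,41,55,47,49], [(204,[],[]),(204,[56],[64,71]),(204,[56,56],[65,70])]),
  ([43,55,47,49], [(205,[],[]),(205,[56,44],[64,71]),(205,[56,56,44,44],[65,70])]),
  ([44,55,47,49], [(206,[],[]),(206,[56,44,44],[64,71]),(206,[56,56,44],[65,70])]),
  ([56,47,49], [(207,[],[]),(207,[56],[64,71]),(207,[56,56],[65,70])]),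
  ([37,56,47,49], [(208,[],[]),(208,[56],[64,71]),(208,[56,56],[65,70])]),
  ([38,56,47,49], [(209,[],[]),(209,[56],[64,71]),(209,[56,56],[65,70])]),
  ([40,56,47,49], [(210,[],[]),(210,[56],[64,71]),(210,[56,56],[65,70])]),
  ([37,40,56,47,49], [(211,[],[]),(211,[56],[64,71]),(211,[56,56],[65,70])]),
  ([38,40,56,47,49], [(212,[],[]),(212,[56],[64,71]),(212,[56,56],[65,70])]),
  ([41,56,47,49], [(213,[],[]),(213,[56],[64,71]),(213,[56,56],[65,70])]),
  ([37,41,56,47,49], [(214,[],[]),(214,[56],[64,71]),(214,[56,56],[65,70])]),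
  ([38,41,56,47,49], [(215,[],[]),(215,[56],[64,71]),(215,[56,56],[65,70])])
]

theorem rows13_ok : rows13.all (chkRow 8) = true := by decide +kernel

end Cfsg.Lib.D4Three
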