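import Cfsg.Agent.Lib.D4Three.Check

/-! A part of the tree at level 11. -/

set_option autoImplicit false
set_option maxRecDepth 100000

namespace Cfsg.Lib.D4Three

def rows27 : List (List Nat × List (Nat × List Nat × List Nat)) := [
  ([], [(0,[],[]),(751,[],[]),(752,[],[])]),
  ([37], [(1,[],[]),(574,[56,56,44,44,56,41,44],[]),(555,[56,44,41,44,56,44],[])]),
  ([38], [(2,[],[]),(556,[41,44,56,44,41,44],[]),(575,[56,56,44,56,41,44,44],[])]),
  ([40], [(3,[],[]),(628,[56,56,44,44,56,38,44],[]),(617,[56,44,38,44,56,44],[])]),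
  ([37,40], [(4,[],[]),(645,[56,56,44,41,44],[]),(643,[56,41,41,44],[])]),
  ([38,40], [(5,[],[]),(710,[56,38,44],[]),(712,[38,44,56,44],[])]),
  ([41], [(6,[],[]),(618,[38,44,56,44,38,44],[]),(629,[56,56,44,56,38,44,44],[])]),
  ([37,41], [(7,[],[]),(711,[56,44,38,44],[]),(713,[56,56,41,44],[])]),
  ([38,41], [(8,[],[]),(646,[56,56,41,44],[]),(644,[56,41,44,44],[])]),
  ([43], [(9,[],[]),(9,[56,56,41,41,38,38,44,56,41,38],[]),(9,[56,56,41,41,38,44,56,41,38,38],[])]),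
  ([37,43], [(10,[],[]),(10,[56,56,41,44,44,38,44,56,41,41,44],[]),(10,[56,56,44,41,44,41,38,44,56,41,44],[])]),
  ([38,43], [(11,[],[]),(11,[56,56,44,41,44,41,38,38,44,56,41,44],[]),(11,[56,56,44,41,44,41,38,44,56,41,44,44],[])]),
  ([40,43], [(12,[],[]),(12,[56,56,38,44,44,41,44,56,38,38,44],[]),(12,[56,56,44,38,44,41,38,44,56,38,44],[])]),
  ([37,40,43], [(13,[],[]),(13,[56,44,44,56,41,44,38,44,56],[]),(13,[44,56,44,41,44,38,44,56,56],[])]),
  ([38,40,43], [(14,[],[]),(14,[56,56,44,44,41,38,44,56,44,38],[]),(14,[56,41,44,56,41,38,44,56],[])]),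
  ([41,43], [(15,[],[]),(15,[56,56,44,41,38,44,41,41,38,44,56,38],[]),(15,[56,56,44,41,41,38,44,41,38,44,56,38],[])]),
  ([37,41,43], [(16,[],[]),(16,[56,56,44,44,41,38,44,56,44,41],[]),(16,[56,38,44,56,41,38,44,56],[])]),
  ([38,41,43], [(17,[],[]),(17,[56,56,44,41,44,38,44,56,44,44],[]),(17,[56,44,41,44,56,38,44,44,56,44],[])]),
  ([44], [(18,[],[]),(18,[56,56,41,41,38,44,56,41,38,38],[]),(18,[56,56,41,41,38,38,44,56,41,38],[])]),
  ([37,44], [(19,[],[]),(19,[56,56,44,41,44,41,38,44,56,41,44,44],[]),(19,[56,56,44,41,44,41,38,38,44,56,41,44],[])]),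
  ([38,44], [(20,[],[]),(20,[56,56,44,41,44,41,38,44,56,41,44],[]),(20,[56,56,41,44,44,38,44,56,41,41,44],[])]),
  ([40,44], [(21,[],[]),(21,[56,56,44,41,41,38,44,41,38,44,56,38],[]),(21,[56,56,44,41,38,44,41,41,38,44,56,38],[])]),
  ([37,40,44], [(22,[],[]),(22,[56,44,56,41,44,44,38,44,44,56],[]),(22,[56,44,56,44,44,41,44,38,44,56],[])]),
  ([38,40,44], [(23,[],[]),(23,[56,56,44,41,41,44,38,44,56,44],[]),(23,[56,44,56,41,38,44,56,38],[])]),
  ([41,44], [(24,[],[]),(24,[56,56,44,38,44,41,38,44,56,38,44],[]),(24,[56,56,38,44,44,41,44,56,38,38,44],[])]),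
  ([37,41,44], [(25,[],[]),(25,[56,56,44,41,44,38,38,44,56,44],[]),(25,[56,44,56,41,38,44,56,41],[])]),
  ([38,41,44], [(26,[],[]),(26,[56,44,56,41,41,38,44,56,38],[]),(26,[56,56,44,41,44,38,44,56,44],[])]),
  ([55], [(27,[],[]),(641,[44,41,44,41,41,38,44],[]),(708,[41,44,38,44,41,44],[])]),
  ([37,55], [(28,[],[]),(634,[56,56,44,41,44],[]),(636,[56,56,41,44],[])]),
  ([38,55], [(29,[],[]),(625,[41,38,44],[]),(623,[38,44,41,44],[])]),
  ([40,55], [(30,[],[]),(580,[56,56,44,38,44],[]),(582,[56,56,38,44],[])]),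
  ([37,40,55], [(31,[],[]),(567,[38,44,41,44],[]),(380,[56,56,41,44,56,38,38,44],[])]),
  ([38,40,55], [(32,[],[]),(375,[56,56,41,44,56,38,44],[]),(565,[56,56,44,38,44],[])]),
  ([41,55], [(33,[],[]),(569,[41,38,44],[]),(561,[41,44,38,44],[])]),
  ([37,41,55], [(34,[],[]),(361,[56,56,38,44,56,41,44],[]),(571,[56,44,44,41,38,44,44],[])]),
  ([38,41,55], [(35,[],[]),(563,[56,44,41,38,38,44],[]),(356,[56,56,44,56,41,38,44],[])]),
  ([43,55], [(36,[],[]),(36,[44,41,44,38,44,56,38,44,41,41,38],[]),(36,[44,41,41,44,38,44,56,38,44,41,38],[])]),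
  ([37,43,55], [(37,[],[]),(37,[56,56,44,41,44,56,41,38,38,44,41,38],[]),(37,[56,56,41,44,44,56,38,38,44,41,41,38],[])]),
  ([38,43,55], [(38,[],[]),(38,[44,44,41,38,44,56,41,38,44,41],[]),(38,[56,56,41,44,56,41,38,44,56,56,41],[])]),
  ([40,43,55], [(39,[],[]),(39,[56,56,44,38,44,56,41,41,38,44,41,38],[]),(39,[56,56,41,44,38,44,56,41,41,38,44,38],[])]),
  ([37,40,43,55], [(40,[],[]),(40,[44,41,44,38,44,56,38,44,38,38],[]),(40,[41,44,41,38,44,41,44,56,44,41],[])]),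
  ([38,40,43,55], [(41,[],[]),(41,[56,41,44,56,44,44,41,38,44,44],[]),(41,[44,41,38,44,44,56,44,38],[])]),
  ([41,43,55], [(42,[],[]),(42,[44,44,41,38,44,56,41,38,44,38],[]),(42,[56,56,38,44,56,41,38,44,56,56,38],[])]),
  ([37,41,43,55], [(43,[],[]),(43,[56,38,44,56,44,44,41,38,44,44],[]),(43,[44,41,38,44,44,56,44,41],[])]),
  ([38,41,43,55], [(44,[],[]),(44,[44,41,44,38,44,56,38,44,41],[]),(44,[56,56,44,56,41,41,38,44,56,44,44,38],[])]),
  ([44,55], [(45,[],[]),(45,[56,56,41,41,44,38,44,56,38,44,41,38],[]),(45,[56,56,41,44,38,44,56,38,44,41,41,38],[])]),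
  ([37,44,55], [(46,[],[]),(46,[56,41,44,56,56,41,38,44,56,41],[]),(46,[44,41,44,38,44,56,44,41,41,44],[])]),
  ([38,44,55], [(47,[],[]),(47,[44,41,44,38,38,44,56,44,41,41,44],[]),(47,[56,41,44,38,44,41,44,56,44,41],[])]),
  ([40,44,55], [(48,[],[]),(48,[56,38,44,56,56,41,38,44,56,38],[]),(48,[44,38,44,41,44,56,44,38,38,44],[])]),
  ([37,40,44,55], [(49,[],[]),(49,[44,56,41,38,44,41,38,44,44,56],[]),(49,[56,41,44,44,56,44,41,38,38,44],[])]),
  ([38,40,44,55], [(50,[],[]),(50,[56,41,44,44,56,44,41,38,44],[]),(50,[44,44,41,38,44,56,44,44,38],[])]),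
  ([41,44,55], [(51,[],[]),(51,[44,41,44,38,44,44,56,41,44,38,38],[]),(51,[56,38,44,41,44,38,44,56,44,38],[])]),
  ([37,41,44,55], [(52,[],[]),(52,[56,38,44,44,56,44,41,38,44],[]),(52,[44,44,41,38,44,56,44,44,41],[])]),
  ([38,41,44,55], [(53,[],[]),(53,[44,44,41,41,38,44,56,44,44,38],[]),(53,[56,44,41,44,56,41,44,41,41,38,44],[])]),
  ([56], [(54,[],[]),(709,[38,44,41,44,38,44],[]),(642,[41,41,44,41,38,44,44],[])]),
  ([37,56], [(55,[],[]),(626,[56,41,44,44],[]),(624,[56,41,41,44],[])]),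
  ([38,56], [(56,[],[]),(635,[56,41,41,44],[]),(637,[56,41,44,44],[])]),
  ([40,56], [(57,[],[]),(570,[56,38,44,44],[]),(562,[56,38,38,44],[])]),
  ([37,40,56], [(58,[],[]),(357,[44,44,56,44,41,38,44],[]),(572,[41,44,56,38,44],[])]),
  ([38,40,56], [(59,[],[]),(564,[41,44,44,56,44,38,44],[]),(362,[56,41,44,44,38,44,56,44],[])]),
  ([41,56], [(60,[],[]),(581,[56,38,38,44],[]),(583,[56,38,44,44],[])]),
  ([37,41,56], [(61,[],[]),(566,[41,38,44],[]),(376,[56,38,44,44,41,44,56,44],[])]),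
  ([38,41,56], [(62,[],[]),(381,[56,44,44,41,38,44,56,44],[]),(568,[56,38,38,44],[])]),
  ([43,56], [(63,[],[]),(63,[56,56,41,44,38,44,56,38,44,41,41,38],[]),(63,[56,56,41,41,44,38,44,56,38,44,41,38],[])]),
  ([37,43,56], [(64,[],[]),(64,[44,41,44,44,56,38,44,41,41,38,44],[]),(64,[41,44,56,44,41,44,38,44,56,41],[])]),
  ([38,43,56], [(65,[],[]),(65,[56,41,44,56,56,41,38,44,56,41],[]),(65,[44,41,41,44,56,44,38,44,41,44],[])]),
  ([40,43,56], [(66,[],[]),(66,[44,38,44,44,56,41,44,41,38,38,44],[]),(66,[38,44,56,44,41,38,44,56,44,38],[])]),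
  ([37,40,43,56], [(67,[],[]),(67,[41,44,44,56,44,41,44,38,44,38],[]),(67,[44,56,41,41,38,44,56,44,44,41,41],[])]),
  ([38,40,43,56], [(68,[],[]),(68,[44,56,41,38,44,56,44,44,38],[]),(68,[56,44,41,38,44,44,56,44,38],[])]),
  ([41,43,56], [(69,[],[]),(69,[56,38,44,56,56,41,38,44,56,38],[]),(69,[44,38,38,44,56,44,41,44,38,44],[])]),
  ([37,41,43,56], [(70,[],[]),(70,[44,56,41,38,44,56,44,44,41],[]),(70,[56,44,41,38,44,44,56,44,41],[])]),
  ([38,41,43,56], [(71,[],[]),(71,[56,44,44,41,38,44,56,41,38,44],[]),(71,[44,56,41,41,38,44,56,44,44,38],[])]),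
  ([44,56], [(72,[],[]),(72,[44,41,41,44,38,44,56,38,44,41,38],[]),(72,[44,41,44,38,44,56,38,44,41,41,38],[])]),
  ([37,44,56], [(73,[],[]),(73,[41,44,56,41,38,44,41,38,44,44],[]),(73,[56,56,41,44,56,41,38,44,56,56,41],[])]),
  ([38,44,56], [(74,[],[]),(74,[56,56,44,41,44,56,41,38,38,44,41,38],[]),(74,[56,56,41,44,44,56,38,38,44,41,41,38],[])]),
  ([40,44,56], [(75,[],[]),(75,[38,44,56,41,38,44,41,38,44,44],[]),(75,[56,56,38,44,56,41,38,44,56,56,38],[])]),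
  ([37,40,44,56], [(76,[],[]),(76,[41,44,56,44,44,41,38,38,44],[]),(76,[56,56,44,56,41,44,41,38,44,56,44,38],[])]),
  ([38,40,44,56], [(77,[],[]),(77,[44,44,56,41,38,44,44,56,44,38],[]),(77,[41,44,56,44,44,41,38,44],[])]),
  ([41,44,56], [(78,[],[]),(78,[56,56,44,38,44,56,41,41,38,44,41,38],[]),(78,[56,56,41,41,38,44,56,44,41,44,38,38],[])]),
  ([37,41,44,56], [(79,[],[]),(79,[44,44,56,41,38,44,44,56,44,41],[]),(79,[38,44,56,44,44,41,38,44],[])]),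
  ([38,41,44,56], [(80,[],[]),(80,[41,41,44,56,44,44,41,41,38,44],[]),(80,[41,44,56,44,41,44,41,38,44,41],[])]),
  ([46], [(81,[],[]),(81,[56,56,41,44,56,41,41],[]),(81,[56,56,41,41,44,56,41],[])]),
  ([40,46], [(82,[],[]),(82,[44,56,38,44,56,41,44,56],[]),(82,[56,56,44,44,41,41,44,56,41],[])]),
  ([37,40,46], [(83,[],[]),(83,[56,56,44,41,41,38,44,44,56,41],[]),(83,[56,56,44,44,41,41,38,44,56,41],[])]),
  ([38,40,46], [(84,[],[]),(84,[44,56,41,44,56,41,38,44,56],[]),(84,[56,56,44,41,41,38,44,41,44,56],[])]),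
  ([41,46], [(85,[],[]),(85,[56,44,56,41,44,56,38,44],[]),(85,[56,56,44,44,41,41,44,56,41],[])]),
  ([37,41,46], [(86,[],[]),(86,[56,44,56,41,38,44,56,41,44],[]),(86,[56,56,44,41,41,38,44,41,44,56],[])]),
  ([38,41,46], [(87,[],[]),(87,[56,56,44,41,41,38,44,44,56,41],[]),(87,[56,56,44,44,41,41,38,44,56,41],[])]),
  ([55,46], [(88,[],[]),(88,[44,41,38,44,56,41,44,41],[]),(88,[56,56,41,44,44,56,44,41,41],[])]),
  ([37,55,46], [(89,[],[]),(89,[56,56,41,44,56,44,38,44,41,41],[]),(89,[56,56,41,44,38,44,56,44,41,41],[])]),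
  ([38,55,46], [(90,[],[]),(90,[44,56,41,44,56,41,38,44,41],[]),(90,[56,56,41,44,44,56,38,44,41,41],[])]),
  ([40,55,46], [(91,[],[]),(91,[56,44,56,41,41,44,38,44],[]),(91,[44,56,38,44,41,44],[])]),
  ([37,40,55,46], [(92,[],[]),(92,[56,56,44,56,38,38,44,41,44],[]),(92,[56,44,56,44,41,38,44,56],[])]),
  ([38,40,55,46], [(93,[],[]),(93,[44,56,56,41,44,38,44,56],[]),(93,[56,56,44,56,41,41,38,44,44],[])]),
  ([41,55,46], [(94,[],[]),(94,[56,44,44,56,41,38,44],[]),(94,[56,44,56,41,44,38,44],[])]),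
  ([37,41,55,46], [(95,[],[]),(95,[44,44,56,41,38,44,41,41],[]),(95,[56,56,44,38,44,56,41,44],[])]),
  ([38,41,55,46], [(96,[],[]),(96,[56,56,44,56,41,38,44,44],[]),(96,[44,56,41,44,38,44,41,41],[])]),
  ([40,43,55,46], [(97,[],[]),(97,[56,56,44,41,44,56,44,41,41],[]),(97,[56,56,44,41,41,44,56,41,44],[])]),
  ([41,43,55,46], [(98,[],[]),(98,[44,56,56,41,38,44,38,38],[]),(98,[56,56,44,41,41,44,56,44,41],[])]),
  ([40,44,55,46], [(99,[],[]),(99,[56,56,44,41,44,56,44,41,41],[]),(99,[38,38,44,56,41,38,44],[])])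
]

theorem rows27_ok : rows27.all (chkRow 11) = true := by decide +kernel

end Cfsg.Lib.D4Three
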