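import Cfsg.Agent.Lib.D4Three.Bit
import Cfsg.Agent.Lib.Linear.AutPO.D4Transfer
import Cfsg.Agent.Lib.Linear.OrthCenter

/-!
# Words in root elements of the Chevalley group of type D₄ over three elements
-/

set_option autoImplicit false
set_option maxRecDepth 100000

namespace Cfsg.Lib.D4Three

open Cfsg Cfsg.Lie Cfsg.Lib.Chev Cfsg.Lib.Linear.Orth Cfsg.Lib.Linear.AutPO
open Cfsg.Lib.Chev.D4Orth (I8 cd mM d4L)
open scoped Matrix

instance : Fact (Nat.Prime 3) := ⟨by norm_num⟩

/-- The group. -/
abbrev G := ↥(chevD4.group K)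

/-- The orthogonal group of the natural module, modulo its centre. -/
abbrev P8 := Cfsg.POmega K (Cfsg.quadFormPlus 4 K)

/-- The commutator subgroup of the isometry group. -/
abbrev O8 := ↥(Cfsg.Omega K (Cfsg.quadFormPlus 4 K))

/-- The root element of a code. -/
noncomputable def letEl (l : ℕ) : G := autEl fullCertD4.comm.cert (l / 3) ((l % 3 : ℕ) : K)

/-- The element of a word. -/
noncomputable def ev (w : List ℕ) : G := (w.map letEl).prod

@[simp] theorem ev_nil : ev [] = 1 := rfl

theorem ev_append (v w : List ℕ) : ev (v ++ w) = ev v * ev w := by simp [ev]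

theorem ev_singleton (l : ℕ) : ev [l] = letEl l := by simp [ev]

/-- The isomorphism with the projective orthogonal group. -/
noncomputable def iso : G ≃* P8 := (exists_rootEquiv (F := K)).choose

theorem iso_root : RootEquiv iso := (exists_rootEquiv (F := K)).choose_spec

/-- The matrix of an element of the commutator subgroup. -/
def mat (s : O8) : Matrix I8 I8 K := ((s : ↥(isometryGroup K (Cfsg.quadFormPlus 4 K))) : GL I8 K).val

theorem mat_inj {s t : O8} (h : mat s = mat t) : s = t := Subtype.ext (Subtype.ext (Units.ext h))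

theorem mat_mul (s t : O8) : mat (s * t) = mat s * mat t := rfl

theorem mat_one : mat 1 = 1 := rfl

theorem center_pm {s : O8} (h : QuotientGroup.mk (s := Subgroup.center O8) s = 1) : mat s = 1 ∨ mat s = -1 := by
  obtain ⟨B, C⟩ := exists_space_plus (F := K) 4
  exact omega_center_pm C (by simp) ((QuotientGroup.eq_one_iff s).1 h)

theorem rootM_eq (r : ℕ) : rootM r = mM K (d4L r) := rfl

/-- Every word has a lift with the computed matrix. -/
theorem exists_lift {w : List ℕ} (hw : okW w = true) :
    Disj (bev w) ∧ ∃ s : O8, mat s = decB (bev w) ∧ iso (ev w) = QuotientGroup.mk s := by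
  induction w using List.reverseRecOn with
  | nil => exact ⟨decB_one.1, 1, by rw [mat_one]; exact decB_one.2.symm, by simp⟩
  | append_singleton w l ih =>
    simp only [okW, List.all_append, List.all_cons, List.all_nil, Bool.and_true, Bool.and_eq_true, Nat.blt_eq] at hw
    obtain ⟨hd, s, hs, he⟩ := ih hw.1
    obtain ⟨hd', hst⟩ := decB_step hd hw.2
    obtain ⟨t, ht, hte⟩ := iso_root ⟨l / 3, by omega⟩ ((l % 3 : ℕ) : K)
    have hb : bev (w ++ [l]) = stepB (bev w) l := by simp [bev, List.foldl_append]
    refine ⟨hb ▸ hd', s * t, ?_, ?_⟩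
    · rw [mat_mul, hs, hb, hst, rootM_eq]
      exact congrArg (decB (bev w) * ·) ht
    · rw [ev_append, map_mul, he, ev_singleton, letEl, hte, QuotientGroup.mk_mul]

/-- Equal masks give equal elements. -/
theorem ev_eq {v w : List ℕ} (hv : okW v = true) (hw : okW w = true) (h : eqB (bev v) (bev w) = true) :
    ev v = ev w := by
  obtain ⟨-, s, hs, hse⟩ := exists_lift hv
  obtain ⟨-, t, ht, hte⟩ := exists_lift hw
  simp only [eqB, Bool.and_eq_true, beq_iff_eq] at h
  have hb : bev v = bev w := Prod.ext h.1 h.2
  have hst : s = t := mat_inj (by rw [hs, ht, hb])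
  exact iso.injective (by rw [hse, hte, hst])

/-- The check of an equation between words. -/
def chkEq (v w : List Nat) : Bool := okW v && okW w && eqB (bev v) (bev w)

theorem ev_chk {v w : List ℕ} (h : chkEq v w = true) : ev v = ev w := by
  simp only [chkEq, Bool.and_eq_true] at h
  exact ev_eq h.1.1 h.1.2 h.2

/-- A conjugation read from an equation between words. -/
theorem conj_chk {c v w : List ℕ} (h : chkEq (c ++ v) (w ++ c) = true) : ev c * ev v * (ev c)⁻¹ = ev w := by
  have := ev_chk h
  rw [ev_append, ev_append] at this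
  rw [this, mul_inv_cancel_right]

/-- The check that a word is not the identity: some entry is neither that of `1` nor that of `-1`. -/
def chkNe (w : List Nat) : Bool := okW w && !eqB (bev w) oneB && !eqB (bev w) negB

theorem bev_of_decB {a b : MB} (ha : ∀ k, 64 ≤ k → a.1.testBit k = false ∧ a.2.testBit k = false)
    (hb : ∀ k, 64 ≤ k → b.1.testBit k = false ∧ b.2.testBit k = false) (da : Disj a) (db : Disj b)
    (h : decB a = decB b) : a = b := by
  have key : ∀ k, a.1.testBit k = b.1.testBit k ∧ a.2.testBit k = b.2.testBit k := by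
    intro k
    rcases Nat.lt_or_ge k 64 with hk | hk
    · obtain ⟨x, hx⟩ := Cfsg.Lib.Chev.D4Orth.exists_cd (show k % 8 < 8 by omega)
      obtain ⟨y, hy⟩ := Cfsg.Lib.Chev.D4Orth.exists_cd (show k / 8 < 8 by omega)
      have := congrFun (congrFun h x) y
      simp only [decB, Matrix.of_apply, hx, hy, show 8 * (k / 8) + k % 8 = k by omega, entB] at this
      have h1 := da k
      have h2 := db k
      revert this h1 h2
      cases a.1.testBit k <;> cases a.2.testBit k <;> cases b.1.testBit k <;> cases b.2.testBit k <;>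
        simp [val3] <;> decide
    · exact ⟨(ha k hk).1.trans (hb k hk).1.symm, (ha k hk).2.trans (hb k hk).2.symm⟩
  exact Prod.ext (Nat.eq_of_testBit_eq fun k => (key k).1) (Nat.eq_of_testBit_eq fun k => (key k).2)

theorem bev_bound {w : List ℕ} (hw : okW w = true) :
    ∀ k, 64 ≤ k → (bev w).1.testBit k = false ∧ (bev w).2.testBit k = false := by
  induction w using List.reverseRecOn with
  | nil =>
    intro k hk
    refine ⟨Nat.testBit_lt_two_pow (lt_of_lt_of_le ?_ (Nat.pow_le_pow_right (by norm_num) hk)), Nat.zero_testBit k⟩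
    decide +kernel
  | append_singleton w l ih =>
    simp only [okW, List.all_append, List.all_cons, List.all_nil, Bool.and_true, Bool.and_eq_true, Nat.blt_eq] at hw
    intro k hk
    obtain ⟨h1, h2⟩ := ih hw.1 k hk
    rw [show bev (w ++ [l]) = stepB (bev w) l by simp [bev, List.foldl_append]]
    unfold stepB
    split
    · exact ⟨h1, h2⟩
    · split
      rename_i i j c i' j' c' he
      have hB : ∀ r : Fin 24, (rootB.getD r (0,0,true,0,0,true)).2.1 < 8 ∧
          (rootB.getD r (0,0,true,0,0,true)).2.2.2.2.1 < 8 := by decide +kernel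
      have := hB ⟨l / 3, by omega⟩
      simp only [he] at this
      have hc : ∀ (x i j : ℕ), j < 8 → (((x >>> (8 * i)) &&& 255) <<< (8 * j)).testBit k = false := by
        intro x i j hj
        rw [testBit_col, decide_eq_false (by omega), Bool.false_and]
      constructor <;> simp only [addB, colTo, Nat.testBit_or, Nat.testBit_and, testBit_off] <;>
        cases (c == _) <;> cases (c' == _) <;> simp [h1, h2, hc _ _ _ this.1, hc _ _ _ this.2]

theorem ev_ne_one {w : List ℕ} (h : chkNe w = true) : ev w ≠ 1 := by
  simp only [chkNe, Bool.and_eq_true, Bool.not_eq_true'] at h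
  obtain ⟨⟨hw, h1⟩, h2⟩ := h
  obtain ⟨hd, s, hs, he⟩ := exists_lift hw
  intro e
  rw [e, map_one] at he
  have hn : Disj negB ∧ decB negB = -1 := by
    refine ⟨fun k h => ?_, Matrix.ext fun x y => ?_⟩
    · simp [negB] at h
    · have key : ∀ a b : Fin 8, entB negB (8 * (b : ℕ) + a) = if a = b then -1 else 0 := by decide +kernel
      refine (key ⟨cd x, Cfsg.Lib.Chev.D4Orth.cd_lt x⟩ ⟨cd y, Cfsg.Lib.Chev.D4Orth.cd_lt y⟩).trans ?_
      simp [Matrix.one_apply, Cfsg.Lib.Chev.D4Orth.cd_injective.eq_iff]
      split_ifs <;> simp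
  have hb : ∀ k, 64 ≤ k → oneB.1.testBit k = false ∧ oneB.2.testBit k = false := fun k hk =>
    bev_bound (w := []) rfl k hk
  have hbn : ∀ k, 64 ≤ k → negB.1.testBit k = false ∧ negB.2.testBit k = false := fun k hk =>
    ⟨(hb k hk).2, (hb k hk).1⟩
  rcases center_pm he.symm with hm | hm
  · have : bev w = oneB := bev_of_decB (bev_bound hw) hb hd decB_one.1 (by rw [← hs, hm, decB_one.2])
    simp [this, eqB] at h1
  · have : bev w = negB := bev_of_decB (bev_bound hw) hbn hd hn.1 (by rw [← hs, hm, hn.2])
    simp [this, eqB] at h2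

end Cfsg.Lib.D4Three
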